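import Mathlib
import Cfsg.Agent.H83.Syl
import Cfsg.Prelude.Def_FusionComponents

/-!
# Higher limits of the centre functor: definitions and interfaces

Cochains are functions on lists of points of a `G`-set.  See `stubs/notes/h1_ml.md`.
-/

set_option autoImplicit false

namespace Cfsg.Agent.H1.ML

open Subgroup H83
open scoped commutatorElement

universe u v w

section core
variable {G X U : Type*} [Group G] [MulAction G X]

scoped instance lact : MulAction G (List X) where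
  smul g l := l.map (g • ·)
  one_smul l := by change l.map _ = l; simp
  mul_smul g h l := by change l.map _ = (l.map _).map _; simp [mul_smul]

theorem smul_def (g : G) (l : List X) : g • l = l.map (g • ·) := rfl
@[simp] theorem smul_nil (g : G) : g • ([] : List X) = [] := rfl
@[simp] theorem smul_cons (g : G) (x : X) (l : List X) : g • (x :: l) = g • x :: g • l := rfl
@[simp] theorem length_smul (g : G) (l : List X) : (g • l).length = l.length := List.length_map _

/-- the pointwise stabilizer in `Γ` of a list -/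
def St (Γ : Subgroup G) (l : List X) : Subgroup G := Γ ⊓ MulAction.stabilizer G l

theorem mem_St {Γ : Subgroup G} {l : List X} {g : G} :
    g ∈ St Γ l ↔ g ∈ Γ ∧ ∀ x ∈ l, g • x = x := by
  refine and_congr_right fun _ => ?_
  change g • l = l ↔ _
  induction l with
  | nil => simp
  | cons x l ih => simp [ih]

theorem St_le {Γ : Subgroup G} {l : List X} : St Γ l ≤ Γ := inf_le_left

theorem St_anti {Γ : Subgroup G} {a b : List X} (h : a ⊆ b) : St Γ b ≤ St Γ a :=
  fun _ hg => mem_St.2 ⟨hg.1, fun x hx => (mem_St.1 hg).2 x (h hx)⟩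

theorem St_smul {Γ : Subgroup G} {g : G} (hg : g ∈ Γ) (l : List X) :
    St Γ (g • l) = cj g (St Γ l) := by
  ext h
  rw [mem_cj]
  refine and_congr ⟨fun k => Γ.mul_mem (Γ.mul_mem (Γ.inv_mem hg) k) hg, fun k => by
    simpa [mul_assoc] using Γ.mul_mem (Γ.mul_mem hg k) (Γ.inv_mem hg)⟩ ?_
  change h • g • l = g • l ↔ (g⁻¹ * h * g) • l = l
  rw [mul_smul, mul_smul, inv_smul_eq_iff]

/-- stabilizers are `p`-groups and every `p`-subgroup fixes a point -/
structure Adm (p : ℕ) (G X : Type*) [Group G] [MulAction G X] : Prop where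
  pg : ∀ x : X, IsPGroup p (MulAction.stabilizer G x)
  ex : ∀ P : Subgroup G, IsPGroup p P → ∃ x : X, P ≤ MulAction.stabilizer G x

/-- the action on the cosets of a Sylow subgroup -/
structure Syl (p : ℕ) (G X : Type*) [Group G] [MulAction G X] : Prop where
  syl : ∀ x : X, IsSylowIn p (MulAction.stabilizer G x) ⊤
  ne : Nonempty X
  tr : ∀ x y : X, ∃ g : G, g • x = y

variable [AddCommGroup U]

/-- the coboundary -/
def dl : (List X → U) → List X → U
  | _, [] => 0
  | f, x :: l => f l - dl (fun k => f (x :: k)) l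

variable [DistribMulAction G U] (Γ : Subgroup G) (T : List X → Prop)
  (V V' : List X → AddSubgroup U)

/-- `f` is a cochain at `l`: supported on `T`, values in `V'/V`, equivariant under `Γ` -/
structure Co (f : List X → U) (l : List X) : Prop where
  mem : T l → f l ∈ V' l
  eqv : T l → ∀ g ∈ Γ, g • f l - f (g • l) ∈ V (g • l)
  zero : ¬ T l → f l = 0

/-- vanishing of the cohomology on lists of length `m` (degree `m - 1`) -/
def Van (m : ℕ) : Prop := ∀ f : List X → U, (∀ l, l.length = m → Co Γ T V V' f l) →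
  (∀ l, l.length = m + 1 → T l → dl f l ∈ V l) →
  ∃ h : List X → U, (∀ l, l.length + 1 = m → Co Γ T V V' h l) ∧
    ∀ l, l.length = m → T l → f l - dl h l ∈ V l

/-- a coefficient system `V'/V` on the convex invariant set `T` of lists -/
structure Sy : Prop where
  inv : ∀ g ∈ Γ, ∀ l, T l → T (g • l)
  cvx : ∀ a b c, a ⊆ b → b ⊆ c → T a → T c → T b
  le : ∀ l, T l → V l ≤ V' l
  mono : ∀ a b, a ⊆ b → T a → T b → V a ≤ V b
  mono' : ∀ a b, a ⊆ b → T a → T b → V' a ≤ V' b
  act : ∀ g ∈ Γ, ∀ l, T l → ∀ x ∈ V l, g • x ∈ V (g • l)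
  act' : ∀ g ∈ Γ, ∀ l, T l → ∀ x ∈ V' l, g • x ∈ V' (g • l)

end core

section off
variable {G : Type*} [Group G] (M : Type*) [AddCommGroup M] [DistribMulAction G M]

/-- the subgroup generated by the members of a family inside `P` -/
def JJ (𝒜 : Subgroup G → Prop) (P : Subgroup G) : Subgroup G := sSup {A | A ≤ P ∧ 𝒜 A}

/-- fixed points -/
def fx (A : Subgroup G) : AddSubgroup M where
  carrier := {d | ∀ a ∈ A, a • d = d}
  zero_mem' _ _ := smul_zero _
  add_mem' h k a ha := by rw [smul_add, h a ha, k a ha]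
  neg_mem' h a ha := by rw [smul_neg, h a ha]

variable {M}

/-- pointwise stabilizer -/
def kr (G : Type*) [Group G] [DistribMulAction G M] (D : AddSubgroup M) : Subgroup G where
  carrier := {g | ∀ d ∈ D, g • d = d}
  one_mem' _ _ := one_smul _ _
  mul_mem' h k d hd := by rw [mul_smul, k d hd, h d hd]
  inv_mem' h d hd := by rw [inv_smul_eq_iff, h d hd]

/-- best offenders on `D` -/
def BO (D : AddSubgroup M) (A : Subgroup G) : Prop :=
  (∀ a ∈ A, ∀ b ∈ A, ⁅a, b⁆ ∈ kr G D) ∧ ∀ B ≤ A, A ⊓ kr G D ≤ B →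
    Nat.card (D ⊓ fx M B : AddSubgroup M) ≤ B.relIndex A * Nat.card (D ⊓ fx M A : AddSubgroup M)

variable (M)

/-- best offenders with trivial norm maps -/
def Nice (p : ℕ) (A : Subgroup G) : Prop :=
  IsPGroup p A ∧ A ≠ ⊥ ∧ BO (⊤ : AddSubgroup M) A ∧ ∀ B ≤ A, B.relIndex A = p →
    ∀ v ∈ fx M B, p • v = 0 → ∀ a ∈ A, a ∉ B → ∑ i ∈ Finset.range p, a ^ i • v = 0

/-- `P` contains a nontrivial best offender -/
def Qp (P : Subgroup G) : Prop := ∃ A ≤ P, A ≠ ⊥ ∧ BO (⊤ : AddSubgroup M) A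

/-- faithful action -/
def Ff (G : Type*) [Group G] [DistribMulAction G M] : Prop := ∀ g : G, (∀ d : M, g • d = d) → g = 1

variable {M}

/-- `a` is a transvection over `F₂` with vector `v` -/
structure Tv (a : G) (v : M) : Prop where
  alt : ∀ d : M, a • d = d ∨ a • d = d + v
  ex : ∃ d : M, a • d ≠ d
  fix : a • v = v

variable (M)

/-- the subgroups generated by a transvection -/
def Tz (A : Subgroup G) : Prop := ∃ (a : G) (v : M), Tv a v ∧ A = zpowers a

variable {M}

/-- `b` is solitary for `a` relative to `S` -/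
structure Sol (S : Subgroup G) (a : G) (v : M) (b : G) (w : M) : Prop where
  mem : a ∈ S
  ta : Tv a v
  tb : Tv b w
  ne : b • v ≠ v
  ne' : a • w ≠ w
  cm : ∀ e ∈ S, ∀ u : M, Tv e u → e ≠ a → b * e = e * b
  ex : ∃ c ∈ S, ∃ u : M, Tv c u ∧ c ≠ a

end off

section glob
variable {G : Type*} [Group G]

/-- `P` is a `p`-group that is `p`-centric modulo `A` -/
def Cen (p : ℕ) (A P : Subgroup G) : Prop :=
  IsPGroup p P ∧ ∀ w : G, (∃ k, w ^ p ^ k = 1) → (∀ h ∈ P, ⁅w, h⁆ ∈ A) → w ∈ P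

/-- the free abelian group on `G` with the conjugation action -/
def ZG (G : Type u) : Type u := FreeAbelianGroup G
instance {G : Type u} : AddCommGroup (ZG G) := inferInstanceAs (AddCommGroup (FreeAbelianGroup G))
/-- generators -/
def zo (g : G) : ZG G := FreeAbelianGroup.of g
instance : DistribMulAction G (ZG G) where
  smul g := FreeAbelianGroup.map fun h => g * h * g⁻¹
  one_smul x := by
    change FreeAbelianGroup.map _ x = x
    simp only [one_mul, inv_one, mul_one]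
    exact FreeAbelianGroup.map_id_apply x
  mul_smul g h x := by
    refine .trans ?_ (FreeAbelianGroup.map_comp_apply x)
    exact congrArg (fun f => FreeAbelianGroup.map f x) (funext fun k => by simp [mul_assoc])
  smul_zero g := map_zero (FreeAbelianGroup.map _)
  smul_add g := map_add (FreeAbelianGroup.map _)
theorem smul_zo (g h : G) : g • zo h = zo (g * h * g⁻¹) := rfl

/-- the centre of `P` as a subgroup of `G` -/
def Zc (P : Subgroup G) : Subgroup G := P ⊓ centralizer (P : Set G)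
/-- the relations of `Z(P)` -/
def Z0 (P : Subgroup G) : AddSubgroup (ZG G) :=
  AddSubgroup.closure {x | ∃ a ∈ Zc P, ∃ b ∈ Zc P, x = zo (a * b) - zo a - zo b}
/-- the span of `Z(P)` -/
def Z1 (P : Subgroup G) : AddSubgroup (ZG G) := AddSubgroup.closure {x | ∃ a ∈ Zc P, x = zo a}

/-- functions on `G` with the conjugation action -/
def FA (G : Type u) (B : Type v) : Type (max u v) := G → B
variable {B : Type*} [AddCommGroup B]
instance {G : Type*} : AddCommGroup (FA G B) := inferInstanceAs (AddCommGroup (G → B))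
/-- evaluation -/
def ev {G : Type*} (h : G) : FA G B →+ B := Pi.evalAddMonoidHom (fun _ => B) h
/-- a function as an element of `FA` -/
def fa {G : Type*} (f : G → B) : FA G B := f
@[simp] theorem ev_fa {G : Type*} (f : G → B) (h : G) : ev h (fa f) = f h := rfl
theorem fa_ext {G : Type*} {f g : FA G B} (e : ∀ h, ev h f = ev h g) : f = g := funext e
instance : DistribMulAction G (FA G B) where
  smul g f := fa fun h => ev (g⁻¹ * h * g) f
  one_smul f := fa_ext fun h => congrArg (ev · f) (by group)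
  mul_smul g k f := fa_ext fun h => congrArg (ev · f) (by group)
  smul_zero _ := rfl
  smul_add _ _ _ := rfl
@[simp] theorem ev_smul (g h : G) (f : FA G B) : ev h (g • f) = ev (g⁻¹ * h * g) f := rfl

variable (B)
/-- functions vanishing on `P` -/
def Hz (P : Subgroup G) : AddSubgroup (FA G B) where
  carrier := {f | ∀ h ∈ P, ev h f = 0}
  zero_mem' _ _ := rfl
  add_mem' a b h hh := by rw [map_add, a h hh, b h hh, add_zero]
  neg_mem' a h hh := by rw [map_neg, a h hh, neg_zero]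
/-- functions that are homomorphisms on `P` and vanish on `A` -/
def Hm (A P : Subgroup G) : AddSubgroup (FA G B) where
  carrier := {f | (∀ h ∈ P, ∀ k ∈ P, ev (h * k) f = ev h f + ev k f) ∧ ∀ h ∈ A, ev h f = 0}
  zero_mem' := ⟨fun _ _ _ _ => (add_zero _).symm, fun _ _ => rfl⟩
  add_mem' a b := ⟨fun h hh k hk => by
    simp only [map_add, a.1 h hh k hk, b.1 h hh k hk]; abel,
    fun h hh => by rw [map_add, a.2 h hh, b.2 h hh, add_zero]⟩
  neg_mem' a := ⟨fun h hh k hk => by simp only [map_neg, a.1 h hh k hk]; abel,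
    fun h hh => by rw [map_neg, a.2 h hh, neg_zero]⟩
variable {B}
/-- functions that are given on `P` by the commutator with an element of `P` and vanish on the image
of `j`; here `j` embeds `B` into the centre of `G` -/
def K1 (j : Multiplicative B →* G) (hj : ∀ b g, g * j b = j b * g) (P : Subgroup G) :
    AddSubgroup (FA G B) where
  carrier := {f | ∃ w ∈ P, ∀ h ∈ P, j (.ofAdd (ev h f)) = ⁅w, h⁆}
  zero_mem' := ⟨1, one_mem _, fun _ _ => by
    rw [commutatorElement_one_left]; exact map_one j⟩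
  add_mem' := fun ⟨w, hw, a⟩ ⟨y, hy, b⟩ => ⟨w * y, mul_mem hw hy, fun h hh => by
    rw [map_add, ofAdd_add, map_mul, a h hh, show ⁅w * y, h⁆ = w * ⁅y, h⁆ * w⁻¹ * ⁅w, h⁆ by group,
      ← b h hh, hj, hj, mul_inv_cancel_right]⟩
  neg_mem' := fun ⟨w, hw, a⟩ => ⟨w⁻¹, inv_mem hw, fun h hh => by
    rw [map_neg, ofAdd_neg, show ⁅w⁻¹, h⁆ = w⁻¹ * ⁅w, h⁆⁻¹ * w by group, ← a h hh, ← map_inv j, hj,
      inv_mul_cancel_right]⟩

end glob

/-! ### The pieces -/

/-- THIN: systems all of whose atoms have a `p`-element acting trivially are acyclic -/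
def ThinStmt : Prop := ∀ (G X U : Type u) [Group G] [Finite G] [MulAction G X] [AddCommGroup U]
  [DistribMulAction G U] (p : ℕ) [Fact p.Prime], Adm p G X → ∀ (Γ : Subgroup G)
  (T : List X → Prop) (V V' : List X → AddSubgroup U), Sy Γ T V V' →
  (∀ a b, St Γ a = St Γ b → T a → T b ∧ V a = V b ∧ V' a = V' b) →
  (∃ k, ∀ l, T l → ∀ x ∈ V' l, p ^ k • x ∈ V l) →
  (∀ l, T l → ∃ w ∈ Γ, w ∈ normalizer (St Γ l : Set G) ∧ w ∉ St Γ l ∧ (∃ k, w ^ p ^ k = 1) ∧
    ∀ x ∈ V' l, (∀ y ∈ St Γ l, y • x - x ∈ V l) → w • x - x ∈ V l) →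
  ∀ m, Van Γ T V V' m

/-- NORM: Glauberman's norm argument -/
def NormStmt : Prop := ∀ (G M : Type u) [Group G] [Finite G] [AddCommGroup M] [Finite M]
  [DistribMulAction G M] (p : ℕ) [Fact p.Prime], IsPGroup p (Multiplicative M) →
  ∀ N T H : Subgroup G, IsSylowIn p T N → H ≤ N →
  N ⊓ normalizer (JJ (Nice M p) T : Set G) ≤ H → fx M H ≤ fx M N

/-- TRI: minimal best offenders -/
def TriStmt : Prop := ∀ (G M : Type u) [Group G] [Finite G] [AddCommGroup M] [Finite M]
  [DistribMulAction G M] (p : ℕ) [Fact p.Prime], IsPGroup p (Multiplicative M) → Ff M G →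
  ∀ P : Subgroup G, IsPGroup p P → Qp M P →
  (∃ A ≤ P, Nice M p A) ∨ (p = 2 ∧ ∃ a ∈ P, ∃ v : M, Tv a v)

/-- TVA: a solitary transvection moves `z` -/
def TvaStmt : Prop := ∀ (G M : Type u) [Group G] [Finite G] [AddCommGroup M] [Finite M]
  [DistribMulAction G M], Ff M G → ∀ N T P : Subgroup G, IsSylowIn 2 T N → P ≤ T →
  N ≤ normalizer (P : Set G) → (∀ A ≤ T, ¬ Nice M 2 A) → (∃ c ∈ P, ∃ u : M, Tv c u) →
  ∀ z ∈ fx M (N ⊓ normalizer (JJ (Tz M) T : Set G)), z ∉ fx M N →
  ∃ (a : G) (v : M) (b : G) (w : M), b ∈ N ∧ b • z ≠ z ∧ a ∉ P ∧ Sol T a v b w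

/-- TVB: from `T` to `S` -/
def TvbStmt : Prop := ∀ (G M : Type u) [Group G] [Finite G] [AddCommGroup M] [Finite M]
  [DistribMulAction G M], Ff M G → ∀ S T P : Subgroup G, IsPGroup 2 S → T < S → P ≤ T →
  T ≤ normalizer (P : Set G) → (∀ A ≤ T, ¬ Nice M 2 A) → (∃ c ∈ P, ∃ u : M, Tv c u) →
  ∀ (a : G) (v : M) (b : G) (w : M), a ∉ P → Sol T a v b w →
  (∀ E ≤ T, (∃ c ∈ E, ∃ u : M, Tv c u) → T < S ⊓ normalizer (E : Set G) →
    b ∉ normalizer (E : Set G)) →
  (∀ A ≤ S, ¬ Nice M 2 A) ∧ Sol S a v b w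

/-- TVC: uniqueness of solitary partners -/
def TvcStmt : Prop := ∀ (G M : Type u) [Group G] [Finite G] [AddCommGroup M] [Finite M]
  [DistribMulAction G M], Ff M G → ∀ S : Subgroup G, IsSylowIn 2 S ⊤ →
  (∀ A ≤ S, ¬ Nice M 2 A) → ∀ (a a' : G) (v : M) (b b' : G) (w w' : M),
  Sol S a v b w → Sol S a' v b' w' → b' = b ∨ b' = a * b * a⁻¹

/-- FIN: the first limit vanishes, faithful case -/
def FinStmt : Prop := ∀ (G X M : Type u) [Group G] [Finite G] [MulAction G X] [AddCommGroup M]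
  [Finite M] [DistribMulAction G M] (p : ℕ) [Fact p.Prime], Syl p G X →
  IsPGroup p (Multiplicative M) → Ff M G → ∀ t : X → X → M,
  (∀ x y, Qp M (St (⊤ : Subgroup G) [x, y]) → ∀ g : G, t (g • x) (g • y) = g • t x y) →
  (∀ x y z, Qp M (St (⊤ : Subgroup G) [x, y, z]) → t x z = t x y + t y z) →
  ∃ f : X → M, (∀ (g : G) x, f (g • x) = g • f x) ∧
    ∀ x y, Qp M (St (⊤ : Subgroup G) [x, y]) → t x y = f y - f x

/-- DESC: the first limit vanishes when the kernel has `Y` as Sylow subgroup -/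
def DescStmt : Prop := ∀ (G X M : Type u) [Group G] [Finite G] [MulAction G X] [AddCommGroup M]
  [Finite M] [DistribMulAction G M] (p : ℕ) [Fact p.Prime], Adm p G X →
  IsPGroup p (Multiplicative M) → ∀ Γ Y : Subgroup G, Γ ≤ normalizer (Y : Set G) →
  IsSylowIn p Y (Γ ⊓ kr G (fx M Y)) →
  Van Γ (fun l : List X => Y ≤ St Γ l ∧ JJ (BO (fx M Y)) (St Γ l) ≠ Y) (fun _ => (⊥ : AddSubgroup M))
    (fun _ => ⊤) 2

/-- LOC: the local vanishing theorem -/
def LocStmt : Prop := ∀ (G X M : Type u) [Group G] [Finite G] [MulAction G X] [AddCommGroup M]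
  [Finite M] [DistribMulAction G M] (p : ℕ) [Fact p.Prime], Adm p G X →
  IsPGroup p (Multiplicative M) → ∀ Γ Y : Subgroup G, IsPGroup p Y → Y ≤ Γ →
  Γ ≤ normalizer (Y : Set G) → ∀ R : Subgroup G → Prop, (∀ P, R P → Y ≤ P) →
  (∀ P Q W, P ≤ Q → Q ≤ W → R P → R W → R Q) → (∀ g ∈ Γ, ∀ P, R P → R (cj g P)) →
  (∀ P, Y ≤ P → P ≤ Γ → IsPGroup p P → (R P ↔ R (JJ (BO (fx M Y)) P))) →
  ∀ m, 3 ≤ m → Van Γ (fun l : List X => R (St Γ l)) (fun _ => (⊥ : AddSubgroup M)) (fun _ => ⊤) m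

/-- GLOB: the higher limits of the centre functor vanish -/
def GlobStmt : Prop := ∀ (G X : Type u) [Group G] [Finite G] [MulAction G X] (p : ℕ)
  [Fact p.Prime], Adm p G X → ∀ m, 3 ≤ m →
  Van (⊤ : Subgroup G) (fun l : List X => Cen p ⊥ (St (⊤ : Subgroup G) l))
    (fun l => Z0 (St (⊤ : Subgroup G) l)) (fun l => Z1 (St (⊤ : Subgroup G) l)) m

/-- HOM: the first limit of `Hom(P/A, B)` over all `p`-subgroups vanishes -/
def HomStmt : Prop := ∀ (G X B : Type u) [Group G] [Finite G] [MulAction G X] [AddCommGroup B]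
  (p : ℕ) [Fact p.Prime], Syl p G X → (∃ k, ∀ b : B, p ^ k • b = 0) →
  ∀ A : Subgroup G, A.Normal → (∀ a ∈ A, ∀ x : X, a • x = x) →
  Van (⊤ : Subgroup G) (fun _ : List X => True) (fun l => Hz B (St (⊤ : Subgroup G) l))
    (fun l => Hm B A (St ⊤ l)) 2

/-- KEY: the obstruction group vanishes -/
def KeyStmt : Prop := ∀ (G X B : Type u) [Group G] [Finite G] [MulAction G X] [AddCommGroup B]
  (p : ℕ) [Fact p.Prime], Syl p G X → ∀ (j : Multiplicative B →* G)
  (hj : ∀ b g, g * j b = j b * g), Function.Injective j → IsPGroup p j.range →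
  Van (⊤ : Subgroup G) (fun l : List X => Cen p j.range (St (⊤ : Subgroup G) l))
    (fun l => K1 j hj (St ⊤ l)) (fun l => Hm B j.range (St ⊤ l)) 2

/-- EXT: a stable central extension of a Sylow subgroup extends to the group -/
def ExtStmt : Prop := ∀ (S : Type u) (L : Type v) [Group S] [Finite S] [Group L] [Finite L] (p : ℕ)
  [Fact p.Prime], IsPGroup p S → ∀ θ : S →* L, θ.ker ≤ center S → ¬ p ∣ θ.range.index →
  (∀ g : L, ∃ φ : S → S, (∀ a ∈ θ.ker, φ a = a) ∧ ∀ s, g * θ s * g⁻¹ ∈ θ.range →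
    θ (φ s) = g * θ s * g⁻¹ ∧ ∀ t, g * θ t * g⁻¹ ∈ θ.range → φ (s * t) = φ s * φ t) →
  ∃ (G : Type (max u v)) (_ : Group G) (_ : Finite G) (π : G →* L) (ι : S →* G),
    Function.Surjective π ∧ Function.Injective ι ∧ (∀ s, π (ι s) = θ s) ∧
    π.ker = θ.ker.map ι ∧ π.ker ≤ center G

/-- UNIQ: a saturated system is determined by its central quotient -/
def UniqStmt : Prop := ∀ (Ω : Type u) [Group Ω] (S : Subgroup Ω) [Finite S] (p : ℕ) [Fact p.Prime]
  (F : FusionSystem S), F.IsSaturated p → ∀ A : Subgroup Ω, F.IsCentral A →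
  ∀ (G : Type v) [Group G] [Finite G] (ι : S →* G) (T : Sylow p G), Function.Injective ι →
  (T : Subgroup G) = ι.range → (A.subgroupOf S).map ι ≤ center G →
  (∀ P (hP : P ≤ S), A ≤ P → ∀ φ ∈ F.Hom P, ∃ g : G, ∀ (x : P) (h : φ x ∈ S),
    ι ⟨φ x, h⟩ * (g * ι ⟨x, hP x.2⟩ * g⁻¹)⁻¹ ∈ (A.subgroupOf S).map ι) →
  (∀ P (hP : P ≤ S), A ≤ P → ∀ g : G, (∀ x : P, g * ι ⟨x, hP x.2⟩ * g⁻¹ ∈ ι.range) →
    ∃ φ ∈ F.Hom P, ∀ (x : P) (h : φ x ∈ S),
      ι ⟨φ x, h⟩ * (g * ι ⟨x, hP x.2⟩ * g⁻¹)⁻¹ ∈ (A.subgroupOf S).map ι) →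
  ∃ α : S →* G, F.IsRealizedBy α ∧ (T : Subgroup G) = α.range

end Cfsg.Agent.H1.ML
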