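import Cfsg.Agent.H34.PDefs
import Cfsg.Agent.H22.UHeisA
import Cfsg.Agent.H36.UKitB

/-!
# ENDU, piece SIMP: the Levi factor is irreducible on `Q / Z` and quasisimple
-/

set_option autoImplicit false
set_option linter.unusedSectionVars false

namespace Cfsg.Agent.H1.EndSimp

open Cfsg Cfsg.Agent.H63 Cfsg.Agent.H63.SL Cfsg.Agent.H34 Cfsg.Agent.H34.TW Cfsg.Agent.H34.UM
  Cfsg.Agent.H34.UE Cfsg.Agent.H31 Subgroup Module
open Cfsg.Agent.H27.End (Rt CQ)
open scoped commutatorElement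

universe u v

variable {F E V : Type v} [Field F] [Field E] [AddCommGroup V] [Module E V] [Finite F] [Finite E]
  [Finite V] [FiniteDimensional E V] {i : F →+* E} {σ : E ≃+* E}
  {B : V →ₛₗ[(σ : E →+* E)] V →ₗ[E] E} {G : Type u} [Group G] [Finite G] {φ : sisom B →* G}
  {L : Subgroup G} (c : UCtx i φ L)
include c

/-- Every element of `F` is a trace. -/
theorem exists_tr (w : V) : ∃ d : E, d + σ d = B w w := by
  obtain ⟨ω, hω⟩ := c.qf.tr
  refine ⟨ω * B w w, ?_⟩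
  rw [map_mul, c.symm, hω]
  linear_combination (ω * B w w) * c.qf.two

theorem ZQ {v : V} (hv : Pt B v) : ZV i φ v ≤ QV φ v := by
  intro g hg
  obtain ⟨a, rfl⟩ := (c.mem_ZV hv.1).1 hg
  refine (c.mem_QV hv).2 ⟨0, i a, by simp, ?_, (UCtx.EE_zero v a).symm⟩
  rw [(c.qf.fix (i a)).2 ⟨a, rfl⟩]
  simp only [map_zero]
  linear_combination (i a) * c.qf.two

theorem TT_span {v x : V} (hx : x ∈ E ∙ v) (a : F) : TT i φ x a ∈ ZV i φ v := by
  rw [← c.AS_span v]
  exact TT_mem_AS hx a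

/-- The root elements centralizing `Z`. -/
theorem rc {v : V} (hv : Pt B v) {r : G} (h : r ∈ RC L (ZV i φ v) (TT i φ v 1)) :
    ∃ x, Pt B x ∧ B v x = 0 ∧ r = TT i φ x 1 := by
  obtain ⟨⟨m, hm, e⟩, h2⟩ := h
  obtain ⟨s, rfl⟩ := c.surj hm
  rw [c.TT_conj s hv.1] at e
  refine ⟨s.1 v, hv.map s, ?_, e⟩
  have hx := hv.map s
  generalize s.1 v = x at hx e
  obtain ⟨t, ht, et⟩ := c.tt hx.1 (1 : F)
  rw [e, ← et] at h2
  obtain ⟨a, ha⟩ := H36.UKB.eig c hv h2
  rw [ht] at ha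
  by_contra hne
  have h1 := congrArg (B v) ha
  rw [map_add, sm_right, sm_right, hv.1, map_one, one_mul, zero_add, mul_zero] at h1
  exact mul_ne_zero (fun h => hne (c.flip h)) hne h1

theorem rc' {v x : V} (hv : Pt B v) (hx : Pt B x) (h : B v x = 0) :
    TT i φ x 1 ∈ RC L (ZV i φ v) (TT i φ v 1) := by
  obtain ⟨s, rfl⟩ := c.trans hv hx
  exact ⟨⟨φ s, c.mem s, (c.TT_conj s hv.1 1).symm⟩,
    (H22.UH.YZ_le' (H22.UH.TT_YZ c hv.1 hx.1 h 1)).2⟩

theorem li {v x : V} (hv : v ≠ 0) (hx : x ∉ E ∙ v) : LinearIndependent E ![v, x] := by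
  rw [LinearIndependent.pair_iff' hv]
  intro a e
  exact hx (e ▸ Submodule.smul_mem _ a (Submodule.mem_span_singleton_self v))

/-- The stabilizer of `v` is transitive on the isotropic vectors of `v^⊥` outside `E v`. -/
theorem mv2 (h6 : 6 ≤ finrank E V) {v x y : V} (hv : Pt B v) (hx : B x x = 0) (hy : B y y = 0)
    (ex : B v x = 0) (ey : B v y = 0) (nx : x ∉ E ∙ v) (ny : y ∉ E ∙ v) :
    ∃ s : sisom B, s.1 v = v ∧ s.1 x = y := by
  obtain ⟨f, f', hf⟩ := c.exists_fr2' hv hx ex nx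
  obtain ⟨n1, n2⟩ := c.perp_pair hx hf.ef'
  have hvU : v ∈ perp B (Submodule.span E {x, f'}) :=
    UCtx.mem_perp_pair.2 ⟨c.flip ex, c.flip hf.o2⟩
  obtain ⟨d, hd, d1, d2⟩ := c.herm.exists_nonisotropic_perp n1 hvU (Or.inl (by omega))
  have d3 : B d x = 0 := c.flip (UCtx.mem_perp_pair.1 hd).1
  obtain ⟨s, hs⟩ := c.wit (u := ![v, x]) (w := ![v, y]) (li c hv.2 nx) (li c hv.2 ny)
    (by
      intro j k
      fin_cases j <;> fin_cases k <;> simp [hv.1, hx, hy, ex, ey, c.flip ex, c.flip ey])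
    d1 (by
      intro j
      fin_cases j
      · simpa using d2
      · simpa using d3)
  exact ⟨s, hs 0, hs 1⟩

theorem fix_YZ {v : V} (hv : Pt B v) {s : sisom B} (hs : s.1 v = v) :
    φ s ∈ YZ L (ZV i φ v) := by
  have := H36.UKB.stab_le c.qf c.herm c.dim hv.1 hv.2 (K := (YZ L (ZV i φ v)).comap φ)
    (fun w hw e a => by
      rw [mem_comap, ← H36.UKB.TT_eq c.qf c.herm hw a]
      exact H22.UH.TT_YZ c hv.1 hw e a) hs
  exact this

theorem EE_span {v w : V} {d : E} (hv : Pt B v) (hw : w ∈ E ∙ v) (h3 : d + σ d = B w w) :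
    EE φ v w d ∈ ZV i φ v := by
  obtain ⟨e, rfl⟩ := Submodule.mem_span_singleton.1 hw
  have e1 : EE φ v (e • v) d = EE φ v 0 (d + e + σ e) := by
    rw [← UCtx.EE_shift, zero_add]
  rw [sm_left, sm_right, hv.1, mul_zero, mul_zero] at h3
  obtain ⟨a, ha⟩ := (c.qf.fix (d + e + σ e)).1 (by
    rw [map_add, map_add, c.qf.sq]
    linear_combination h3 - d * c.qf.two)
  rw [e1, ha, UCtx.EE_zero]
  exact TT_mem_ZV v a

/-- A vector of `v^⊥` is a sum of two isotropic vectors and a multiple of `v`. -/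
theorem dec {v w : V} (hv : Pt B v) (hw : B v w = 0) :
    ∃ (y z : V) (e : E), B y y = 0 ∧ B z z = 0 ∧ B v y = 0 ∧ B v z = 0 ∧ w = y + z + e • v := by
  obtain ⟨v', h1, h2⟩ := c.hyp hv
  obtain ⟨n1, n2⟩ := c.perp_pair hv.1 h2
  have h4 := c.four
  have hw0 : w - B v' w • v ∈ perp B (Submodule.span E {v, v'}) := by
    refine UCtx.mem_perp_pair.2 ⟨?_, ?_⟩
    · rw [map_sub, sm_right, hw, hv.1, mul_zero, sub_zero]
    · rw [map_sub, sm_right, c.flip1 h2, mul_one, sub_self]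
  obtain ⟨y, hy, z, hz, k1, k2, k3⟩ := c.herm.exists_add_isotropic n1 (by omega) hw0
  exact ⟨y, z, B v' w, k1, k2, (UCtx.mem_perp_pair.1 hy).1, (UCtx.mem_perp_pair.1 hz).1,
    by rw [← k3, sub_add_cancel]⟩

/-- An isotropic vector of `v^⊥` not orthogonal to a given vector. -/
theorem exists_np {v w : V} (hv : Pt B v) (nw : w ∉ E ∙ v) (hw : B v w = 0) :
    ∃ x, B x x = 0 ∧ B v x = 0 ∧ B x w ≠ 0 := by
  obtain ⟨u, hu, h1⟩ := c.herm.exists_perp_of_notMem nw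
  obtain ⟨y, z, e, k1, k2, k3, k4, rfl⟩ := dec c hv (mem_perp_span_singleton.1 hu)
  by_contra hh
  push Not at hh
  apply h1
  rw [map_add, map_add, LinearMap.add_apply, LinearMap.add_apply, hh y k1 k3, hh z k2 k4, sm_left,
    hw, mul_zero, add_zero, add_zero]

theorem irr (h6 : 6 ≤ finrank E V) {v : V} (hv : Pt B v) (A : Subgroup G) (hZ : ZV i φ v ≤ A)
    (hQ : A ≤ QV φ v) (hN : YZ L (ZV i φ v) ≤ N[A]) : A ≤ ZV i φ v ∨ QV φ v ≤ A := by
  by_cases hA : A ≤ ZV i φ v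
  · exact Or.inl hA
  right
  obtain ⟨g, hg, gZ⟩ := SetLike.not_le_iff_exists.1 hA
  obtain ⟨w, d, w1, w2, rfl⟩ := (c.mem_QV hv).1 (hQ hg)
  have nw : w ∉ E ∙ v := fun h => gZ (EE_span c hv h w2)
  -- the image of `A` in `v^⊥`
  let S : V → Prop := fun w => B v w = 0 ∧ ∀ d, d + σ d = B w w → EE φ v w d ∈ A
  have S1 : ∀ w d, B v w = 0 → d + σ d = B w w → EE φ v w d ∈ A → S w := by
    intro w d w1 w2 h
    refine ⟨w1, fun d' h' => ?_⟩
    obtain ⟨a, ha⟩ := (c.qf.fix (d + d')).1 (by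
      rw [map_add]
      linear_combination w2 + h' - (d + d' - B w w) * c.qf.two)
    have e : d' = d + i a := by rw [← ha]; linear_combination (-d) * c.qf.two
    rw [e, ← (H22.UH.EE_T c hv.1 w1 w2 a).1]
    exact A.mul_mem h (hZ (TT_mem_ZV v a))
  have S2 : ∀ w w', S w → S w' → S (w + w') := by
    intro w w' h h'
    obtain ⟨d, hd⟩ := exists_tr c w
    obtain ⟨d', hd'⟩ := exists_tr c w'
    refine S1 _ (d + d' + B w w') (by rw [map_add, h.1, h'.1, add_zero]) ?_ ?_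
    · rw [map_add, map_add, c.symm, map_add, map_add, LinearMap.add_apply, LinearMap.add_apply]
      linear_combination hd + hd'
    · rw [← c.EE_mul hv.1 h.1 hd h'.1 hd']
      exact A.mul_mem (h.2 d hd) (h'.2 d' hd')
  have S3 : ∀ (s : sisom B) w, s.1 v = v → S w → S (s.1 w) := by
    intro s w hs h
    refine ⟨by rw [← hs, iso_map, h.1], fun d hd => ?_⟩
    rw [iso_map] at hd
    have := c.EE_conj s hv.1 h.1 hd
    rw [hs] at this
    rw [← this]
    exact (mem_normalizer_iff.1 (hN (fix_YZ c hv hs)) _).1 (h.2 d hd)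
  have S4 : ∀ w ∈ E ∙ v, S w := by
    intro w hw
    refine ⟨?_, fun d hd => hZ (EE_span c hv hw hd)⟩
    obtain ⟨e, rfl⟩ := Submodule.mem_span_singleton.1 hw
    rw [sm_right, hv.1, mul_zero]
  obtain ⟨x, x1, x2, x3⟩ := exists_np c hv nw w1
  have S5 : S (B x w • x) := by
    obtain ⟨t, ht, -⟩ := c.tt x1 (1 : F)
    have h1 := S2 _ _ (S3 t w (by rw [ht, c.flip x2, mul_zero, zero_smul, add_zero])
      (S1 w d w1 w2 hg)) (S1 w d w1 w2 hg)
    rw [ht, map_one, one_mul, add_right_comm, c.add_self, zero_add] at h1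
    exact h1
  have S6 : ∀ y, B y y = 0 → B v y = 0 → S y := by
    intro y y1 y2
    by_cases ny : y ∈ E ∙ v
    · exact S4 y ny
    have nx : B x w • x ∉ E ∙ v := by
      intro h
      obtain ⟨e, he⟩ := Submodule.mem_span_singleton.1 h
      have := congrArg (fun z => B z w) he
      simp only [sm_left, w1, mul_zero] at this
      exact mul_ne_zero (by simpa using x3) x3 this.symm
    obtain ⟨s, s1, s2⟩ := mv2 c h6 hv (x := B x w • x) (y := y)
      (by rw [sm_left, sm_right, x1, mul_zero, mul_zero]) y1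
      (by rw [sm_right, x2, mul_zero]) y2 nx ny
    exact s2 ▸ S3 s _ s1 S5
  intro g hg
  obtain ⟨w, d, w1, w2, rfl⟩ := (c.mem_QV hv).1 hg
  obtain ⟨y, z, e, k1, k2, k3, k4, rfl⟩ := dec c hv w1
  exact (S2 _ _ (S2 _ _ (S6 y k1 k3) (S6 z k2 k4))
    (S4 _ (Submodule.smul_mem _ e (Submodule.mem_span_singleton_self v)))).2 d w2

theorem ne {v : V} (hv : Pt B v) : ∃ r ∈ RC L (ZV i φ v) (TT i φ v 1), r ∉ QV φ v := by
  obtain ⟨v', h1, h2⟩ := c.hyp hv
  obtain ⟨x, y, hf⟩ := c.exists_fr2 hv.1 h1 h2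
  have hx : Pt B x := ⟨hf.ee', fun h => by simpa [h] using hf.ef'⟩
  refine ⟨TT i φ x 1, rc' c hv hx hf.o1, fun h => ?_⟩
  obtain ⟨w, d, w1, w2, e⟩ := (c.mem_QV hv).1 h
  obtain ⟨t, ht, et⟩ := c.tt hx.1 (1 : F)
  obtain ⟨s, hs, es⟩ := c.ee hv.1 w1 w2
  have e1 : t = s := H22.UH.eq_of_fix c (v := v) (by rw [et, es, e]) hv.2 (by
    rw [ht, hs, c.flip hf.o1, hv.1, c.flip w1]; simp)
  have e2 := congrArg (B y) ((ht y).symm.trans (e1 ▸ hs y))
  simp only [map_add, sm_right, hf.ff', hf.o2, c.flip hf.o2, hf.ef', c.flip1 hf.ef', map_one] at e2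
  simp at e2

section Simp

variable {v : V} (hv : Pt B v) {K : Subgroup G} (hN : L ⊓ C[ZV i φ v] ≤ N[K]) (hQ : QV φ v ≤ K)
include hv hN hQ

omit hQ in
theorem conjK {s : sisom B} (hs : s.1 v = v) {g : G} (hg : g ∈ K) : φ s * g * (φ s)⁻¹ ∈ K :=
  (mem_normalizer_iff.1 (hN ⟨c.mem s, H22.UH.C_of_fix c hv.1 hs⟩) _).1 hg

/-- One transvection outside `Z` suffices. -/
theorem stepA (kb : KitB i φ L) (h6 : 6 ≤ finrank E V) {y : V} (y1 : B y y = 0) (y2 : B v y = 0)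
    (ny : y ∉ E ∙ v) {a : F} (ha : a ≠ 0) (h : TT i φ y a ∈ K) : YZ L (ZV i φ v) ≤ K := by
  rw [kb.ygen v hv, closure_le]
  rintro _ ⟨x, x1, x2, b, rfl⟩
  by_cases nx : x ∈ E ∙ v
  · exact hQ (ZQ c hv (TT_span c nx b))
  by_cases hb : b = 0
  · rw [hb, UCtx.TT_zero]; exact K.one_mem
  obtain ⟨l, hl⟩ := c.qf.norm_surj (b / a)
  have l0 : l ≠ 0 := by
    rintro rfl
    rw [zero_mul, eq_comm, map_eq_zero] at hl
    exact div_ne_zero hb ha hl
  obtain ⟨s, s1, s2⟩ := mv2 c h6 hv (x := y) (y := l • x) y1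
    (by rw [sm_left, sm_right, x1, mul_zero, mul_zero]) y2 (by rw [sm_right, x2, mul_zero]) ny
    (fun h => nx ((Submodule.smul_mem_iff _ l0).1 h))
  have := conjK c hv hN s1 h
  rw [c.TT_conj s y1, s2, UCtx.TT_smul x hl.symm, div_mul_cancel₀ _ ha] at this
  exact this

omit hv hN hQ in
/-- The product of four transvections on a line. -/
theorem four {x y : V} (hx : B x x = 0) (hy : B y y = 0) (h : B x y = 0) {ω : E}
    (hω : σ ω = ω + 1) :
    TT i φ x 1 * TT i φ (x + y) 1 * (TT i φ (x + ω • y) 1 * TT i φ (x + (ω + 1) • y) 1) =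
      TT i φ y 1 := by
  have k : ∀ l : E, B (x + l • y) (x + l • y) = 0 := fun l =>
    c.iso_add hx (by rw [sm_left, sm_right, hy, mul_zero, mul_zero]) (by rw [sm_right, h, mul_zero])
  obtain ⟨t1, h1, e1⟩ := c.tt hx (1 : F)
  obtain ⟨t2, h2, e2⟩ := c.tt (c.iso_add hx hy h) (1 : F)
  obtain ⟨t3, h3, e3⟩ := c.tt (k ω) (1 : F)
  obtain ⟨t4, h4, e4⟩ := c.tt (k (ω + 1)) (1 : F)
  obtain ⟨t5, h5, e5⟩ := c.tt hy (1 : F)
  rw [← e1, ← e2, ← e3, ← e4, ← e5, ← map_mul, ← map_mul, ← map_mul]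
  congr 1
  refine s_ext fun z => ?_
  have h' := c.flip h
  have two := c.qf.two
  simp only [mul_app, h1, h2, h3, h4, h5, map_add, LinearMap.add_apply, sm_left, sm_right, hx, hy,
    h, h', map_one, mul_zero, add_zero, one_mul, hω]
  have e : (2 : E) • x = 0 := by rw [two, zero_smul]
  have e' : (2 : E) • y = 0 := by rw [two, zero_smul]
  linear_combination (norm := module) (2 * B x z + (ω + 2) * B y z) • e +
    ((ω + 1) * B x z + (ω ^ 2 + 2 * ω + 1) * B y z) • e'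

/-- Moving one factor along a line. -/
theorem stepB {x x' y : V} (hx : B x x = 0) (hx' : B x' x' = 0) (hy : B y y = 0) (h : B x y = 0)
    (hk : TT i φ x 1 * TT i φ x' 1 ∈ K)
    (hs : ∀ l : E, ∃ s : sisom B, s.1 v = v ∧ s.1 x' = x' ∧ s.1 x = x + l • y) :
    TT i φ y 1 ∈ K := by
  obtain ⟨ω, hω⟩ := c.qf.tr
  have k : ∀ l : E, TT i φ (x + l • y) 1 * TT i φ x' 1 ∈ K := by
    intro l
    obtain ⟨s, s1, s2, s3⟩ := hs l
    have := conjK c hv hN s1 hk
    rw [← conj_mul, c.TT_conj s hx, c.TT_conj s hx', s2, s3] at this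
    exact this
  have iso : ∀ l : E, B (x + l • y) (x + l • y) = 0 := fun l =>
    c.iso_add hx (by rw [sm_left, sm_right, hy, mul_zero, mul_zero]) (by rw [sm_right, h, mul_zero])
  have k2 : ∀ l l' : E, TT i φ (x + l • y) 1 * TT i φ (x + l' • y) 1 ∈ K := by
    intro l l'
    have := K.mul_mem (k l) (K.inv_mem (k l'))
    rw [mul_inv_rev, mul_assoc, mul_inv_cancel_left,
      inv_eq_of_mul_eq_one_right (c.TT_sq (iso l') 1)] at this
    exact this
  have := K.mul_mem (k2 0 1) (k2 ω (ω + 1))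
  rw [zero_smul, add_zero, one_smul, four c hx hy h hω] at this
  exact this

theorem simp0 (kb : KitB i φ L) (h6 : 6 ≤ finrank E V) {x x' : V} (hx : Pt B x) (hx' : Pt B x')
    (ex : B v x = 0) (ex' : B v x' = 0) (hk : TT i φ x 1 * TT i φ x' 1 ∈ K) :
    TT i φ x 1 * TT i φ x' 1 ∈ QV φ v ∨ YZ L (ZV i φ v) ≤ K := by
  by_cases nx' : x' ∈ E ∙ v
  · have h1 : TT i φ x' 1 ∈ QV φ v := ZQ c hv (TT_span c nx' 1)
    by_cases nx : x ∈ E ∙ v
    · exact Or.inl (mul_mem (ZQ c hv (TT_span c nx 1)) h1)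
    · exact Or.inr (stepA c hv hN hQ kb h6 hx.1 ex nx one_ne_zero
        ((K.mul_mem_cancel_right (hQ h1)).1 hk))
  by_cases hs : x ∈ Submodule.span E {x', v}
  · obtain ⟨l, m, rfl⟩ := Submodule.mem_span_pair.1 hs
    have i1 : B (l • x') (l • x') = 0 := by rw [sm_left, sm_right, hx'.1, mul_zero, mul_zero]
    have i2 : B (m • v) (m • v) = 0 := by rw [sm_left, sm_right, hv.1, mul_zero, mul_zero]
    have i3 : B (m • v) (l • x') = 0 := by rw [sm_left, sm_right, ex', mul_zero, mul_zero]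
    have e := c.BB_TT i1 i2 i3 1
    have q1 : BB (TT i φ) (l • x') (m • v) 1 ∈ QV φ v := by
      rw [e, c.EE_smul]
      refine (c.mem_QV hv).2 ⟨_, _, ?_, ?_, rfl⟩
      · simp only [sm_right, ex', mul_zero]
      · simp only [sm_left, sm_right, hx'.1, mul_zero, zero_mul, map_zero, add_zero]
    have q2 : TT i φ (l • x' + m • v) 1 * TT i φ (l • x') 1 ∈ QV φ v :=
      ((QV φ v).mul_mem_cancel_right (ZQ c hv (TT_span c
        (Submodule.smul_mem _ m (Submodule.mem_span_singleton_self v)) 1))).1 q1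
    obtain ⟨n, hn⟩ := (c.qf.fix (l * σ l)).1 (by rw [map_mul, c.qf.sq, mul_comm])
    have e2 : TT i φ (l • x' + m • v) 1 * TT i φ x' 1 =
        TT i φ (l • x' + m • v) 1 * TT i φ (l • x') 1 * TT i φ x' (n + 1) := by
      rw [c.TT_add hx'.1, UCtx.TT_smul x' hn.symm, mul_one, mul_assoc, ← mul_assoc (TT i φ x' n),
        c.TT_sq hx'.1, one_mul]
    by_cases hn1 : n + 1 = 0
    · left
      rw [e2, hn1, UCtx.TT_zero, mul_one]
      exact q2
    · right
      rw [e2] at hk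
      exact stepA c hv hN hQ kb h6 hx'.1 ex' nx' hn1 ((K.mul_mem_cancel_left (hQ q2)).1 hk)
  right
  by_cases ho : B x' x = 0
  · obtain ⟨w, hw, w1⟩ := c.herm.exists_perp_of_notMem hs
    obtain ⟨w2, w3⟩ := UCtx.mem_perp_pair.1 hw
    refine stepA c hv hN hQ kb h6 hx'.1 ex' nx' one_ne_zero
      (stepB c hv hN hQ hx.1 hx'.1 hx'.1 (c.flip ho) hk fun l => ?_)
    obtain ⟨d, hd⟩ := exists_tr c (σ (l / B w x) • w)
    obtain ⟨s, hs, -⟩ := c.ee hx'.1 (w := σ (l / B w x) • w) (by rw [sm_right, w2, mul_zero]) hd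
    refine ⟨s, ?_, ?_, ?_⟩
    · rw [hs, sm_left, c.flip ex', c.flip w3]; simp
    · rw [hs, sm_left, hx'.1, c.flip w2]; simp
    · rw [hs, sm_left, ho, c.qf.sq, div_mul_cancel₀ _ w1]; simp
  · have h1 : B x' ((B x' x)⁻¹ • x) = 1 := by rw [sm_right, inv_mul_cancel₀ ho]
    obtain ⟨n1, n2⟩ := c.perp_pair hx'.1 h1
    set U := perp B (Submodule.span E {x', (B x' x)⁻¹ • x}) with hU
    have hvU : v ∈ U := UCtx.mem_perp_pair.2
      ⟨c.flip ex', by rw [sm_left, c.flip ex, mul_zero]⟩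
    obtain ⟨v', hv'U, v1, v2⟩ :=
      c.herm.toIsHermSymm.exists_hyperbolic_of_nondegOn n1 hv.1 hv.2 hvU
    have hg : B v v * B v' v' - B v v' * B v' v ≠ 0 := by
      rw [hv.1, v2, c.flip1 v2]; simp
    have n3 := c.herm.toIsHermSymm.nondegOn_span_pair hg
    have le : Submodule.span E {v, v'} ≤ U := by
      rw [Submodule.span_le]
      rintro _ (rfl | rfl)
      exacts [hvU, hv'U]
    have n4 := c.herm.nondegOn_inf_perp n3 n1 le
    have n5 := c.herm.finrank_inf_perp n3 le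
    rw [finrank_span_pair_of_gram hg] at n5
    obtain ⟨y, ⟨y1, y2⟩, y0, y3⟩ := c.herm.exists_isotropic n4 (by omega)
    obtain ⟨a1, a2⟩ := UCtx.mem_perp_pair.1 y1
    obtain ⟨a3, a4⟩ := UCtx.mem_perp_pair.1 y2
    have a5 : B x y = 0 := by
      rw [sm_left] at a2
      exact (mul_eq_zero.1 a2).resolve_left (by simpa using ho)
    have ny : y ∉ E ∙ v := by
      intro h
      obtain ⟨e, rfl⟩ := Submodule.mem_span_singleton.1 h
      rw [sm_right, c.flip1 v2, mul_one] at a4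
      exact y0 (by rw [a4, zero_smul])
    refine stepA c hv hN hQ kb h6 y3 a3 ny one_ne_zero
      (stepB c hv hN hQ hx.1 hx'.1 y3 a5 hk fun l => ?_)
    obtain ⟨s, hs, -⟩ := c.ee hx'.1 (w := (l / B x' x) • y) (d := 0)
      (by rw [sm_right, a1, mul_zero]) (by rw [sm_left, sm_right, y3]; simp)
    refine ⟨s, ?_, ?_, ?_⟩
    · rw [hs, sm_left, c.flip ex', c.flip a3]; simp
    · rw [hs, sm_left, hx'.1, c.flip a1]; simp
    · rw [hs, sm_left, c.flip a5, smul_smul, mul_div_cancel₀ _ ho]; simp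

end Simp

omit c in
/-- **E-SIMP** -/
theorem simp : SimpStmt.{u, v} := by
  intro F E V _ _ _ _ _ _ _ _ i σ B G _ _ φ L c _ kb h6 v hv
  refine ⟨irr c h6 hv, fun K hN hQ r hr r' hr' hk => ?_, ne c hv⟩
  obtain ⟨x, x1, x2, rfl⟩ := rc c hv hr
  obtain ⟨x', x1', x2', rfl⟩ := rc c hv hr'
  exact simp0 c hv hN hQ kb h6 x1 x1' x2 x2' hk

end Cfsg.Agent.H1.EndSimp
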