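import Cfsg.Agent.H4.CoprimeGen
import Cfsg.Agent.H8.SylowIn
import Cfsg.Agent.H3.Cores

/-! An inequality for the fixed points of a `p`-group acting coprimely. -/

set_option autoImplicit false
set_option linter.unusedSectionVars false
set_option linter.style.haveILetI false

namespace Cfsg.Agent.H1.FixCount

open scoped Pointwise commutatorElement
open Finset

/-- fixed points of an automorphism -/
def Fx {V : Type*} [Group V] (β : MulAut V) : Subgroup V where
  carrier := {v | β v = v}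
  mul_mem' := fun {a b} ha hb => by
    have ha' : β a = a := ha
    have hb' : β b = b := hb
    change β (a * b) = a * b
    rw [map_mul, ha', hb']
  one_mem' := map_one β
  inv_mem' := fun {a} ha => by
    have ha' : β a = a := ha
    change β a⁻¹ = a⁻¹
    rw [map_inv, ha']

theorem mem_Fx {V : Type*} [Group V] {β : MulAut V} {v : V} : v ∈ Fx β ↔ β v = v := Iff.rfl

section abelian

variable {V : Type*} [CommGroup V] [Finite V] {α ζ : MulAut V} {p : ℕ}

theorem pow_apply_of_fix {β : MulAut V} {v : V} (h : β v = v) (n : ℕ) : (β ^ n) v = v := by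
  induction n with
  | zero => rfl
  | succ n ih => rw [pow_succ, MulAut.mul_apply, h, ih]

theorem eq_one_of_fix (hζ : ζ ^ p = 1) (hV : (Nat.card V).Coprime p) {v w : V} (hw : ζ w * w⁻¹ = v)
    (h : ζ v = v) : v = 1 := by
  have h1 : ∀ n : ℕ, (ζ ^ n) w = v ^ n * w := by
    intro n
    induction n with
    | zero => simp
    | succ n ih =>
      rw [pow_succ', MulAut.mul_apply, ih, map_mul, map_pow, h, mul_inv_eq_iff_eq_mul.1 hw, pow_succ,
        mul_assoc]
  have h2 := h1 p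
  rw [hζ, MulAut.one_apply, eq_comm, mul_eq_right] at h2
  exact orderOf_eq_one_iff.1 (Nat.eq_one_of_dvd_coprimes hV (orderOf_dvd_natCard v)
    (orderOf_dvd_of_pow_eq_one h2))

theorem indep (hp : p.Prime) (hc : Commute α ζ) (hζ : ζ ^ p = 1) (hV : (Nat.card V).Coprime p)
    (S : Finset (Fin p)) : ∀ v : Fin p → V, (∀ i ∈ S, (α * ζ ^ (i : ℕ)) (v i) = v i) →
      (∀ i ∈ S, ∃ w, ζ w * w⁻¹ = v i) → ∏ i ∈ S, v i = 1 → ∀ i ∈ S, v i = 1 := by
  induction S using Finset.induction_on with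
  | empty => simp
  | insert j S hj ih =>
    intro v h1 h2 h3
    have hcm : ∀ (β γ : MulAut V), Commute β γ → ∀ x, β (γ x) = γ (β x) := fun β γ h x => by
      rw [← MulAut.mul_apply, h.eq, MulAut.mul_apply]
    have hcc : ∀ a b : ℕ, Commute (α * ζ ^ a) (α * ζ ^ b) := fun a b =>
      ((Commute.refl α).mul_right (hc.pow_right b)).mul_left
        ((hc.symm.pow_left a).mul_right (Commute.pow_pow_self ζ a b))
    have h4 := ih (fun i => (α * ζ ^ (j : ℕ)) (v i) * (v i)⁻¹) (fun i hi => by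
      rw [map_mul, map_inv, hcm _ _ (hcc i j), h1 i (mem_insert_of_mem hi)]) (fun i hi => by
      obtain ⟨w, hw⟩ := h2 i (mem_insert_of_mem hi)
      refine ⟨(α * ζ ^ (j : ℕ)) w * w⁻¹, ?_⟩
      rw [← hw]
      simp only [map_mul, map_inv, mul_inv_rev, inv_inv]
      rw [hcm _ ζ (hc.mul_left ((Commute.refl ζ).pow_left _))]
      simp only [mul_assoc, mul_comm, mul_left_comm]) (by
      rw [prod_insert hj, mul_eq_one_iff_inv_eq] at h3
      rw [prod_mul_distrib, prod_inv_distrib, ← map_prod, ← h3, map_inv, h1 j (mem_insert_self _ _),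
        mul_inv_cancel])
    have h5 : ∀ i ∈ S, v i = 1 := by
      intro i hi
      obtain ⟨w, hw⟩ := h2 i (mem_insert_of_mem hi)
      refine eq_one_of_fix hζ hV hw ?_
      have h6 := mul_inv_eq_one.1 (h4 i hi)
      have h7 := h6.trans (h1 i (mem_insert_of_mem hi)).symm
      rw [MulAut.mul_apply, MulAut.mul_apply, α.apply_eq_iff_eq] at h7
      have key : ∀ a b : ℕ, a < b → b < p → (ζ ^ a) (v i) = (ζ ^ b) (v i) → ζ (v i) = v i := by
        intro a b hab hb e
        obtain ⟨k, rfl⟩ := Nat.exists_eq_add_of_lt hab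
        rw [add_assoc, pow_add, MulAut.mul_apply, MulEquiv.apply_eq_iff_eq] at e
        obtain ⟨m, hm⟩ := exists_pow_eq_self_of_coprime (x := ζ) (n := k + 1)
          ((Nat.coprime_of_lt_prime k.succ_ne_zero (by omega) hp).symm.coprime_dvd_right
            (orderOf_dvd_of_pow_eq_one hζ))
        rw [← hm]; exact pow_apply_of_fix e.symm m
      have hne : (i : ℕ) ≠ j := fun e => hj (Fin.ext e ▸ hi)
      rcases lt_or_gt_of_ne hne with h8 | h8
      · exact key _ _ h8 j.2 h7.symm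
      · exact key _ _ h8 i.2 h7
    intro i hi
    rcases mem_insert.1 hi with rfl | hi
    · rwa [prod_insert hj, prod_eq_one h5, mul_one] at h3
    · exact h5 i hi

theorem abelian (hp : p.Prime) (hc : Commute α ζ) (hζ : ζ ^ p = 1) (hV : (Nat.card V).Coprime p) :
    (∏ i : Fin p, Nat.card (Fx (α * ζ ^ (i : ℕ)))) * Nat.card (Fx ζ) ≤
      Nat.card V * Nat.card (Fx α ⊓ Fx ζ : Subgroup V) ^ p := by
  let Φ : ((i : Fin p) → Fx (α * ζ ^ (i : ℕ))) × Fx ζ →* V :=
    { toFun z := (∏ i, (z.1 i : V)) * z.2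
      map_one' := by simp
      map_mul' a b := by
        simp only [Prod.fst_mul, Pi.mul_apply, Subgroup.coe_mul, Prod.snd_mul, prod_mul_distrib]
        simp only [mul_assoc, mul_comm, mul_left_comm] }
  have hΦ : ∀ z, Φ z = (∏ i, (z.1 i : V)) * z.2 := fun _ => rfl
  have hker : ∀ z ∈ Φ.ker, ∀ i, (z.1 i : V) ∈ Fx α ⊓ Fx ζ := by
    intro z hz i
    rw [MonoidHom.mem_ker, hΦ, mul_eq_one_iff_eq_inv] at hz
    have h1 := indep hp hc hζ hV univ (fun i => ζ (z.1 i) * (z.1 i : V)⁻¹) (fun i _ => by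
      have e : (α * ζ ^ (i : ℕ)) (z.1 i) = z.1 i := (z.1 i).2
      rw [map_mul, map_inv, ← MulAut.mul_apply, (hc.mul_left ((Commute.refl ζ).pow_left _)).eq,
        MulAut.mul_apply, e]) (fun i _ => ⟨_, rfl⟩) (by
      have e : ζ z.2 = z.2 := z.2.2
      rw [prod_mul_distrib, prod_inv_distrib, ← map_prod, hz, map_inv, e, mul_inv_cancel]) i (mem_univ _)
    have h2 : ζ (z.1 i) = z.1 i := mul_inv_eq_one.1 h1
    have e : (α * ζ ^ (i : ℕ)) (z.1 i) = z.1 i := (z.1 i).2
    rw [MulAut.mul_apply, pow_apply_of_fix h2] at e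
    exact ⟨e, h2⟩
  have h1 : Nat.card Φ.ker ≤ Nat.card (Fin p → (Fx α ⊓ Fx ζ : Subgroup V)) := by
    refine Nat.card_le_card_of_injective (fun z i => ⟨z.1.1 i, hker z.1 z.2 i⟩) fun a b e => ?_
    have h2 : a.1.1 = b.1.1 := funext fun i => Subtype.ext (by
      have := congrArg Subtype.val (congrFun e i)
      exact this)
    have ha := a.2
    have hb := b.2
    rw [MonoidHom.mem_ker, hΦ] at ha hb
    rw [h2, ← hb, mul_right_inj] at ha
    exact Subtype.ext (Prod.ext h2 (Subtype.ext ha))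
  rw [Nat.card_fun, Nat.card_eq_fintype_card (α := Fin p), Fintype.card_fin] at h1
  rw [← Nat.card_pi, ← Nat.card_prod, ← Φ.ker.card_mul_index, Subgroup.index_ker, mul_comm]
  exact Nat.mul_le_mul (Subgroup.card_le_card_group _) h1

end abelian

variable {G : Type*} [Group G] [Finite G] {p : ℕ} [Fact p.Prime]

local notation "Ce[" x "]" => Subgroup.centralizer ({x} : Set G)

theorem card_sec (N H K : Subgroup G) [(N.subgroupOf H).Normal] (hK : K ≤ H) :
    Nat.card K = Nat.card (N ⊓ K : Subgroup G) *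
      Nat.card ((K.subgroupOf H).map (QuotientGroup.mk' (N.subgroupOf H))) := by
  rw [H3.card_map_mk', Subgroup.relIndex_subgroupOf hK, H3.card_inf_mul_relIndex]

theorem claimA_solv {P : Subgroup G} (hP : IsPGroup p P) (x z : P) (n : ℕ) :
    ∀ H : Subgroup G, Nat.card H = n → P ≤ Subgroup.normalizer (H : Set G) →
      (Nat.card H).Coprime p → Group.IsSolvable H →
      ⁅(x : G), (z : G)⁆ ∈ Subgroup.centralizer (H : Set G) →
      (z : G) ^ p ∈ Subgroup.centralizer (H : Set G) →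
      (∏ i : Fin p, Nat.card (H ⊓ Ce[(x : G) * (z : G) ^ (i : ℕ)] : Subgroup G)) *
        Nat.card (H ⊓ Ce[(z : G)] : Subgroup G) ≤
      Nat.card H * Nat.card (H ⊓ (Ce[(x : G)] ⊓ Ce[(z : G)]) : Subgroup G) ^ p := by
  induction n using Nat.strong_induction_on with
  | _ n ih =>
  intro H hn hPH hcop hs hc hz
  by_cases hH : H = ⊥
  · subst hH; simp
  set N := ⁅H, H⁆ with hN
  have hNH : N < H := by
    haveI := (Subgroup.nontrivial_iff_ne_bot H).2 hH
    have := (Subgroup.map_lt_map_iff_of_injective H.subtype_injective).2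
      (Group.IsSolvable.commutator_lt_top_of_nontrivial H)
    rwa [H.map_subtype_commutator, ← MonoidHom.range_eq_map, H.range_subtype] at this
  have hPN : P ≤ Subgroup.normalizer (N : Set G) := H4.le_normalizer_commutator hPH hPH
  haveI : (N.subgroupOf H).Normal := (Subgroup.normal_subgroupOf_iff_le_normalizer hNH.le).2
    (H4.le_normalizer_commutator Subgroup.le_normalizer Subgroup.le_normalizer)
  have h1 := ih _ (hn ▸ lt_of_not_ge fun e => hNH.ne (Subgroup.eq_of_le_of_card_ge hNH.le e)) N rfl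
    hPN (hcop.coprime_dvd_left (Subgroup.card_dvd_of_le hNH.le)) (H4.isSolvable_of_le hNH.le hs)
    (Subgroup.centralizer_le hNH.le hc) (Subgroup.centralizer_le hNH.le hz)
  letI : CommGroup (H ⧸ N.subgroupOf H) :=
    { (inferInstance : Group (H ⧸ N.subgroupOf H)) with
      mul_comm := fun a b => by
        obtain ⟨a, rfl⟩ := QuotientGroup.mk_surjective a
        obtain ⟨b, rfl⟩ := QuotientGroup.mk_surjective b
        rw [← QuotientGroup.mk_mul, ← QuotientGroup.mk_mul, QuotientGroup.eq, Subgroup.mem_subgroupOf]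
        have := Subgroup.commutator_mem_commutator (H.inv_mem b.2) (H.inv_mem a.2)
        simpa [commutatorElement_def, mul_assoc] using this }
  set ψ := H4.sectionAct hPH hPN with hψ
  have hker : ∀ a : P, (a : G) ∈ Subgroup.centralizer (H : Set G) → ψ a = 1 := fun a ha =>
    (H4.mem_ker_sectionAct hPH hPN a).2 fun k hk => by
      rw [commutatorElement_eq_one_iff_mul_comm.2 (ha k hk)]; exact N.one_mem
  have h2 := abelian (α := ψ x) (ζ := ψ z) (p := p) Fact.out (by
      rw [← commutatorElement_eq_one_iff_commute, ← map_commutatorElement]; exact hker _ hc)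
    (by rw [← map_pow]; exact hker _ hz)
    (hcop.coprime_dvd_left (Subgroup.card_quotient_dvd_card _))
  have h3 : ∀ y : P, Nat.card (H ⊓ Ce[(y : G)] : Subgroup G) ≤
      Nat.card (N ⊓ Ce[(y : G)] : Subgroup G) * Nat.card (Fx (ψ y)) := by
    intro y
    rw [card_sec N H _ inf_le_left, ← inf_assoc, inf_eq_left.2 hNH.le]
    refine Nat.mul_le_mul_left _ (Subgroup.card_le_of_le ?_)
    rintro _ ⟨h, hh, rfl⟩
    rw [mem_Fx, QuotientGroup.mk'_apply, hψ, H4.sectionAct_mk]
    congr 1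
    exact Subtype.ext (mul_inv_eq_iff_eq_mul.2 (hh.2 _ rfl))
  have h4 : Nat.card (N ⊓ (Ce[(x : G)] ⊓ Ce[(z : G)]) : Subgroup G) *
      Nat.card (Fx (ψ x) ⊓ Fx (ψ z) : Subgroup _) ≤
      Nat.card (H ⊓ (Ce[(x : G)] ⊓ Ce[(z : G)]) : Subgroup G) := by
    rw [card_sec N H (H ⊓ _) inf_le_left, ← inf_assoc N H, inf_eq_left.2 hNH.le]
    refine Nat.mul_le_mul_left _ (Subgroup.card_le_of_le ?_)
    intro v hv
    obtain ⟨h, rfl⟩ := QuotientGroup.mk_surjective v
    have hA : Subgroup.closure {(x : G), (z : G)} ≤ P := by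
      rw [Subgroup.closure_le]; rintro _ (rfl | rfl) <;> exact Subtype.prop _
    have hAp := hP.to_le hA
    obtain ⟨d, hd, e⟩ := H4.exists_mul_mem_centralizer (x := (h : G)) (hA.trans hPN)
      (H4.coprime_card_of_isPGroup (hcop.coprime_dvd_left (Subgroup.card_dvd_of_le hNH.le)) hAp).symm
      (Or.inl (H4.isSolvable_of_isPGroup hAp)) fun a ha => by
        have h5 : ψ ⟨a, hA ha⟩ h = h := by
          induction ha using Subgroup.closure_induction with
          | mem y hy => rcases hy with rfl | rfl; exacts [hv.1, hv.2]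
          | one => exact congrArg (fun β : MulAut _ => β _) (map_one ψ)
          | mul a b ha hb iha ihb =>
            rw [show (⟨a * b, _⟩ : P) = ⟨a, hA ha⟩ * ⟨b, hA hb⟩ from rfl, map_mul, MulAut.mul_apply,
              ihb, iha]
          | inv a ha iha =>
            rw [show (⟨a⁻¹, _⟩ : P) = ⟨a, hA ha⟩⁻¹ from rfl, map_inv, MulAut.inv_apply,
              MulEquiv.symm_apply_eq, iha]
        rw [hψ, H4.sectionAct_mk, eq_comm, QuotientGroup.eq, Subgroup.mem_subgroupOf] at h5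
        exact h5
    refine ⟨h * ⟨d, hNH.le hd⟩, ⟨H.mul_mem h.2 (hNH.le hd), ?_, ?_⟩, ?_⟩
    · rintro _ rfl; exact e _ (Subgroup.subset_closure (Or.inl rfl))
    · rintro _ rfl; exact e _ (Subgroup.subset_closure (Or.inr rfl))
    · rw [QuotientGroup.mk'_apply, eq_comm, QuotientGroup.eq, Subgroup.mem_subgroupOf]
      simpa using hd
  have h5 : Nat.card H = Nat.card N * Nat.card (H ⧸ N.subgroupOf H) := by
    rw [← H3.card_mul_relIndex hNH.le]; rfl
  calc _ ≤ (∏ i : Fin p, (Nat.card (N ⊓ Ce[(x : G) * (z : G) ^ (i : ℕ)] : Subgroup G) *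
          Nat.card (Fx (ψ x * ψ z ^ (i : ℕ))))) *
        (Nat.card (N ⊓ Ce[(z : G)] : Subgroup G) * Nat.card (Fx (ψ z))) := by
        refine Nat.mul_le_mul (prod_le_prod' fun i _ => ?_) (h3 z)
        have := h3 (x * z ^ (i : ℕ))
        rwa [map_mul, map_pow] at this
    _ = _ * _ := by rw [prod_mul_distrib, mul_mul_mul_comm]
    _ ≤ _ := Nat.mul_le_mul h1 h2
    _ ≤ _ := by
        rw [mul_mul_mul_comm, ← h5, ← mul_pow]
        exact Nat.mul_le_mul_left _ (Nat.pow_le_pow_left h4 p)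

theorem sylow_centralizer {q : ℕ} [Fact q.Prime] {U : Subgroup G} (Q : Sylow q U) {y : G}
    (hy : IsPGroup p (Subgroup.zpowers y)) (hU : y ∈ Subgroup.normalizer (U : Set G))
    (hQ : y ∈ Subgroup.normalizer (((Q : Subgroup U).map U.subtype : Subgroup G) : Set G))
    (hcop : (Nat.card U).Coprime p) :
    q ^ (Nat.card (U ⊓ Ce[y] : Subgroup G)).factorization q ≤
      Nat.card ((Q : Subgroup U).map U.subtype ⊓ Ce[y] : Subgroup G) := by
  obtain ⟨R, hR⟩ := H8.exists_isSylowIn q (U ⊓ Ce[y])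
  have hc := (H4.coprime_card_of_isPGroup hcop hy).symm
  have hs := H4.isSolvable_of_isPGroup hy
  have hCY : Subgroup.centralizer (Subgroup.zpowers y : Set G) = Ce[y] := by
    rw [Subgroup.zpowers_eq_closure, Subgroup.centralizer_closure]
  obtain ⟨Q', h1, h2⟩ := H4.exists_invariant_sylow_ge (Subgroup.zpowers_le.2 hU) hc (Or.inl hs)
    (hR.le.trans inf_le_left) hR.isPGroup ((Subgroup.le_centralizer_iff.1
      (hCY ▸ hR.le.trans inf_le_right)).trans (Subgroup.centralizer_le_normalizer _))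
  obtain ⟨c, hc1, rfl⟩ := H4.invariant_sylow_conj (Subgroup.zpowers_le.2 hU) hc (Or.inl hs) Q' Q h2
    (Subgroup.zpowers_le.2 hQ)
  rw [← hR.card_eq, ← H8.card_conj_smul R c]
  refine Subgroup.card_le_of_le (le_inf ?_ ?_)
  · rw [Sylow.pointwise_smul_def, ← H4.conj_smul_map_subtype]
    exact Subgroup.pointwise_smul_le_pointwise_smul_iff.2 h1
  · rintro _ ⟨r, hr, rfl⟩
    rw [hCY] at hc1
    exact Subgroup.mul_mem _ (Subgroup.mul_mem _ hc1 (hR.le hr).2) (Subgroup.inv_mem _ hc1)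

theorem claimA {P U : Subgroup G} (hP : IsPGroup p P) (x z : P)
    (hPU : P ≤ Subgroup.normalizer (U : Set G)) (hcop : (Nat.card U).Coprime p)
    (hc : ⁅(x : G), (z : G)⁆ ∈ Subgroup.centralizer (U : Set G))
    (hz : (z : G) ^ p ∈ Subgroup.centralizer (U : Set G)) :
    (∏ i : Fin p, Nat.card (U ⊓ Ce[(x : G) * (z : G) ^ (i : ℕ)] : Subgroup G)) *
        Nat.card (U ⊓ Ce[(z : G)] : Subgroup G) ≤
      Nat.card U * Nat.card (U ⊓ (Ce[(x : G)] ⊓ Ce[(z : G)]) : Subgroup G) ^ p := by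
  have h0 : ∀ K : Subgroup G, Nat.card K ≠ 0 := fun K => Nat.card_pos.ne'
  have h1 : (∏ i : Fin p, Nat.card (U ⊓ Ce[(x : G) * (z : G) ^ (i : ℕ)] : Subgroup G)) ≠ 0 :=
    prod_ne_zero_iff.2 fun _ _ => h0 _
  refine Nat.le_of_dvd (Nat.pos_of_ne_zero (mul_ne_zero (h0 _) (pow_ne_zero _ (h0 _)))) ?_
  rw [← Nat.factorization_prime_le_iff_dvd (mul_ne_zero h1 (h0 _))
    (mul_ne_zero (h0 _) (pow_ne_zero _ (h0 _)))]
  intro q hq
  haveI := Fact.mk hq
  obtain ⟨Q, hQ⟩ := H4.exists_invariant_sylow hPU (H4.coprime_card_of_isPGroup hcop hP).symm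
    (Or.inl (H4.isSolvable_of_isPGroup hP)) q
  have hS := H8.isSylowIn_map_subtype Q
  have h2 := claimA_solv hP x z _ _ rfl hQ (hcop.coprime_dvd_left (Subgroup.card_dvd_of_le hS.le))
    (H4.isSolvable_of_isPGroup hS.isPGroup) (Subgroup.centralizer_le hS.le hc)
    (Subgroup.centralizer_le hS.le hz)
  have h3 : ∀ y : P, _ := fun y => sylow_centralizer Q (y := y)
    (hP.to_le (Subgroup.zpowers_le.2 y.2)) (hPU y.2) (hQ y.2) hcop
  rw [← Nat.pow_le_pow_iff_right hq.one_lt, Nat.factorization_mul h1 (h0 _),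
    Nat.factorization_mul (h0 _) (pow_ne_zero _ (h0 _)), Nat.factorization_prod fun _ _ => h0 _,
    Nat.factorization_pow, Finsupp.add_apply, Finsupp.add_apply, Finsupp.finsetSum_apply, pow_add,
    pow_add, ← prod_pow_eq_pow_sum, Finsupp.smul_apply, smul_eq_mul, mul_comm p, pow_mul,
    ← hS.card_eq]
  refine (Nat.mul_le_mul (prod_le_prod' fun (i : Fin p) _ => h3 (x * z ^ (i : ℕ))) (h3 z)).trans
    (h2.trans (Nat.mul_le_mul_left _ (Nat.pow_le_pow_left ?_ p)))
  obtain ⟨R, hR⟩ := H8.exists_isSylowIn q (U ⊓ (Ce[(x : G)] ⊓ Ce[(z : G)]))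
  rw [← hR.card_eq]
  exact hR.card_le (hS.isPGroup.to_le inf_le_left) (inf_le_inf_right _ hS.le)

/-- The fixed point inequality for a `p`-group acting on a `p'`-group. -/
theorem prod_card_centralizer_le {P : Type*} [Group P] [Fintype P] (hP : IsPGroup p P)
    (φ : P →* G) (n : ℕ) :
    ∀ U : Subgroup G, Nat.card U = n → φ.range ≤ Subgroup.normalizer (U : Set G) →
      (Nat.card U).Coprime p →
      (∏ x : P, Nat.card (U ⊓ Ce[φ x] : Subgroup G)) ^ p ≤
        Nat.card (U ⊓ Subgroup.centralizer (φ.range : Set G) : Subgroup G) ^ ((p - 1) * Nat.card P) *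
          Nat.card U ^ Nat.card P := by
  induction n using Nat.strong_induction_on with
  | _ n ih =>
  intro U hn hPU hcop
  have hp : p.Prime := Fact.out
  have hle : ∀ x : P, Subgroup.centralizer (φ.range : Set G) ≤ Ce[φ x] := fun x =>
    Subgroup.centralizer_le (Set.singleton_subset_iff.2 ⟨x, rfl⟩)
  by_cases hC : φ.range ≤ Subgroup.centralizer (U : Set G)
  · have h1 := Subgroup.le_centralizer_iff.1 hC
    rw [inf_eq_left.2 h1, prod_congr rfl fun x _ => by rw [inf_eq_left.2 (h1.trans (hle x))],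
      prod_const, card_univ, ← Nat.card_eq_fintype_card, ← pow_mul, ← pow_add]
    refine le_of_eq (congrArg _ ?_)
    obtain ⟨k, rfl⟩ := Nat.exists_eq_add_one_of_ne_zero hp.ne_zero
    simp only [add_tsub_cancel_right]; ring
  let ψ : P →* MulAut U :=
    (U.normalizerMonoidHom.comp (Subgroup.inclusion hPU)).comp φ.rangeRestrict
  have hψ : ∀ a : P, ψ a = 1 ↔ φ a ∈ Subgroup.centralizer (U : Set G) := fun a => by
    rw [MulEquiv.ext_iff, Subgroup.mem_centralizer_iff]
    refine ⟨fun h u hu => ?_, fun h u => Subtype.ext ?_⟩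
    · exact (mul_inv_eq_iff_eq_mul.1 (congrArg Subtype.val (h ⟨u, hu⟩))).symm
    · exact mul_inv_eq_iff_eq_mul.2 (h u u.2).symm
  haveI : Nontrivial ψ.range := by
    rw [Subgroup.nontrivial_iff_ne_bot]
    intro e
    refine hC ?_
    rintro _ ⟨a, rfl⟩
    exact (hψ a).1 (by rw [← Subgroup.mem_bot, ← e]; exact ⟨_, rfl⟩)
  have hR : IsPGroup p ψ.range := hP.of_surjective _ ψ.rangeRestrict_surjective
  haveI := hR.center_nontrivial
  obtain ⟨k, hk, e⟩ := (hR.to_subgroup (Subgroup.center ψ.range)).nontrivial_iff_card.1 inferInstance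
  obtain ⟨⟨⟨_, z, rfl⟩, hz1⟩, hz2⟩ := exists_prime_orderOf_dvd_card' (G := Subgroup.center ψ.range) p
    (e ▸ dvd_pow_self p hk.ne')
  replace hz2 : orderOf (ψ z) = p := by rw [← hz2, Subgroup.orderOf_mk, ← Subgroup.orderOf_coe]
  have hzc : ∀ x : P, ⁅φ x, φ z⁆ ∈ Subgroup.centralizer (U : Set G) := fun x => by
    rw [← map_commutatorElement, ← hψ, map_commutatorElement, commutatorElement_eq_one_iff_mul_comm]
    exact congrArg Subtype.val (Subgroup.mem_center_iff.1 hz1 ⟨_, x, rfl⟩)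
  have hzp : φ z ^ p ∈ Subgroup.centralizer (U : Set G) := by
    rw [← map_pow, ← hψ, map_pow, ← hz2, pow_orderOf_eq_one]
  have hlt : U ⊓ Ce[φ z] < U := lt_of_le_of_ne inf_le_left fun e => by
    have : ψ z = 1 := (hψ z).2 fun u hu => ((inf_eq_left.1 e) hu _ rfl).symm
    rw [this, orderOf_one] at hz2
    exact hp.one_lt.ne hz2
  have h1 := ih _ (hn ▸ lt_of_not_ge fun e => hlt.ne (Subgroup.eq_of_le_of_card_ge hlt.le e))
    (U ⊓ Ce[φ z]) rfl (by
      rintro _ ⟨a, rfl⟩
      refine H8.mem_normalizer_of_conj_smul_le ?_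
      rintro _ ⟨u, hu, rfl⟩
      have h2 : φ a * u * (φ a)⁻¹ ∈ U := H4.conj_mem_of_mem_normalizer (hPU ⟨a, rfl⟩) hu.1
      refine ⟨h2, ?_⟩
      rintro _ rfl
      have h3 := hzc a⁻¹ u hu.1
      have h4 : φ z * u = u * φ z := hu.2 _ rfl
      change φ z * (φ a * u * (φ a)⁻¹) = φ a * u * (φ a)⁻¹ * φ z
      simp only [commutatorElement_def, map_inv] at h3
      generalize φ a = a at *
      generalize φ z = z at *
      calc z * (a * u * a⁻¹) = a * (a⁻¹ * z * a⁻¹⁻¹ * z⁻¹ * (z * u)) * a⁻¹ := by group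
        _ = a * (a⁻¹ * z * a⁻¹⁻¹ * z⁻¹ * u * z) * a⁻¹ := by rw [h4]; group
        _ = _ := by rw [← h3]; group)
    (hcop.coprime_dvd_left (Subgroup.card_dvd_of_le inf_le_left))
  have h2 : U ⊓ Ce[φ z] ⊓ Subgroup.centralizer (φ.range : Set G) =
      U ⊓ Subgroup.centralizer (φ.range : Set G) := by
    rw [inf_assoc, inf_eq_right.2 (hle z)]
  rw [h2] at h1
  have h3 := prod_le_prod' (s := univ) fun (x : P) _ =>
    claimA (hP.of_surjective _ φ.rangeRestrict_surjective) (φ.rangeRestrict x) (φ.rangeRestrict z)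
      hPU hcop (hzc x) hzp
  simp only [MonoidHom.coe_rangeRestrict] at h3
  rw [prod_mul_distrib, prod_mul_distrib, prod_const, prod_const, prod_comm, prod_pow, card_univ,
    ← Nat.card_eq_fintype_card, prod_congr rfl (f := fun i : Fin p => ∏ x : P,
      Nat.card (U ⊓ Ce[φ x * φ z ^ (i : ℕ)] : Subgroup G)) (g := fun _ => ∏ x : P,
      Nat.card (U ⊓ Ce[φ x] : Subgroup G)) fun i _ =>
      Fintype.prod_equiv (Equiv.mulRight (z ^ (i : ℕ))) _ _ fun x => by simp, prod_const, card_univ,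
    Fintype.card_fin] at h3
  simp only [inf_assoc, inf_comm Ce[φ z]] at h1
  refine Nat.le_of_mul_le_mul_right (h3.trans ((Nat.mul_le_mul_left _ h1).trans (le_of_eq ?_)))
    (pow_pos Nat.card_pos _)
  ring

end Cfsg.Agent.H1.FixCount
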