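import Cfsg.Agent.H1.FuEmb
import Cfsg.Agent.H3.Cores

/-!
# The action of `t a (e k)` on the component (FL-ACT)
-/

set_option autoImplicit false

namespace Cfsg.Agent.H1.FU

open Subgroup Cfsg.Agent.H96.FL Cfsg.Agent.H96.FL.Par Cfsg.Agent.H8.GHO Cfsg.Agent.H18.SC
open scoped commutatorElement

universe u

theorem exists_ne3 {m : ℕ} (hm : 4 ≤ m) (a b c : Fin m) : ∃ k, k ≠ a ∧ k ≠ b ∧ k ≠ c := by
  by_contra h
  have : (Finset.univ : Finset (Fin m)) ⊆ {a, b, c} := fun k _ => by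
    by_contra c'
    simp only [Finset.mem_insert, Finset.mem_singleton, not_or] at c'
    exact h ⟨k, c'⟩
  have h1 := Finset.card_le_card this
  have h2 : ({a, b, c} : Finset (Fin m)).card ≤ 3 := Finset.card_le_three
  simp at h1
  omega

section L0

variable {P : Par} {n m : ℕ} {G Y : Type*} [Group G] [Group Y] {t : Fin n → Fin n → G}
  {a b : Fin n} {e : Fin m → Fin n} {p : G → Y} {f : P.G m →* Y}

theorem t_pow (P : Par) {m : ℕ} (c d : Fin m) : P.t c d ^ 2 ^ 1 = 1 := by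
  rw [pow_one, pow_two, P.t_sq]

theorem four_pow {c d : Fin m} {y : P.G m} (h : y * y = P.t c d) : y ^ 2 ^ 2 = 1 := by
  rw [show 2 ^ 2 = 2 * 2 by rfl, pow_mul, pow_two y, h, pow_two, P.t_sq]

/-- the preimage of an odd subgroup normalized by the centralizer of `f s`. -/
theorem oddN_comap [Finite Y] (hk : f.ker ≤ center _) (ho : Odd (Nat.card f.ker)) {s : P.G m}
    {r : ℕ} (hs : s ^ 2 ^ r = 1) {X : Subgroup Y} (hX : OddN X (C1 (f s))) :
    OddN (X.comap f) (C1 s) := by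
  refine ⟨Odd.of_dvd_nat (ho.mul hX.1) (H3.card_comap_dvd f X), fun x hx => mC1.2
    (comm_of_odd_ker hk ho hs (mC1.1 (hX.2.1 hx))), fun c hc x hx => ?_⟩
  rw [mem_comap, map_mul, map_mul, map_inv]
  exact hX.2.2 _ (mC1.2 (by rw [← map_mul, ← map_mul, mC1.1 hc])) _ hx

theorem act_four [Finite G] [Finite Y] (hG : GF P) (hm : 4 ≤ m) (fr : Fr t) (wp : WP t)
    (lab : Lab a b e) (h : L0 P t a b e p f) {c d k : Fin m} (hn : [c, d, k].Nodup) {y : P.G m}
    (hy : y ∈ P.K {c, d}) (h2 : y * y = P.t c d) :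
    p (t a (e k)) * f y * (p (t a (e k)))⁻¹ = f y := by
  have hn' := lab.nodup hn
  have hn2 := hn
  simp only [List.map_cons, List.map_nil, List.nodup_cons, List.mem_cons, not_or,
    List.not_mem_nil, not_false_eq_true, and_true, List.nodup_nil] at hn2 hn'
  obtain ⟨w, w1, w2, w3⟩ := wp a b (e c) (e d) (by simp [hn'])
  have wD : w ∈ C1 (t a b) := sup_le (fr.LL_le a b) (O_le _) w1
  obtain ⟨ω, hω⟩ := h.im_le fr lab w1
  have m := hG.a3 c d k hn ((h.pj.im (CCs t (e c) (e d))).comap f) (fun g hg x hx => by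
      obtain ⟨z, z1, z2, z3⟩ := h.pj.lift1 (fr.mem (e c) (e d) a b) (fr.sq _ _) (y := f g) (by
        rw [← h.tt, mC1, ← map_mul, ← map_mul, mC1.1 (P.Fx_pair hn2.1.1 ▸
          P.K_le_Fx (Or.inl subset_rfl) hg)])
      obtain ⟨r, r1, r2, r3⟩ := h.pj.mem_im.1 hx
      rw [mem_comap, map_mul, map_mul, map_inv, ← z3, ← r3, ← h.pj.conj z1 r2]
      exact h.pj.mem_im_of (nrm_CC z2 r r1) (nrm_C z1 r r2))
    ω (by rw [mem_comap, hω]; exact h.pj.mem_im_of w2 wD)
    (comm_of_odd_ker h.ker h.odd (t_pow P c d) (by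
      rw [hω, h.tt, ← h.pj.mul _ wD _ (fr.mem _ _ _ _), ← h.pj.mul _ (fr.mem _ _ _ _) _ wD,
        mC1.1 w2.1]))
    (eq_of_odd_ker h.ker h.odd (k := 1) (l := 1) (by rw [conj_pow, t_pow]; group) (t_pow P _ _) (by
      rw [map_mul, map_mul, map_inv, hω, h.tt, h.tt, ← h.pj.conj wD (fr.mem _ _ _ _),
        w3 _ (Ne.symm hn'.2.2.1.2) (Ne.symm hn'.2.2.2)]))
    (subset_closure ⟨hy, h2⟩)
  obtain ⟨r, r1, r2, r3⟩ := h.pj.mem_im.1 m
  have s1 := fr.mem a (e k) a b
  have x1 : ⁅r, t a (e k)⁆ ∈ C1 (t a b) :=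
    mul_mem (mul_mem (mul_mem r2 s1) (inv_mem r2)) (inv_mem s1)
  have x2 : ⁅r, t a (e k)⁆ ∈ Oc (t (e c) (e d)) := r1.2 _ (mem_LL (by
    simp [hn', Ne.symm hn'.1.2.1, Ne.symm hn'.1.2.2.1]))
  have o1 := h.pj.oddN (fr.mem (e c) (e d) a b) (fr.sq _ _) (oddN_O (t (e c) (e d)) (t a b))
  rw [← h.tt] at o1
  have o2 := oddN_comap h.ker h.odd (t_pow P c d) o1
  rw [← P.Fx_pair hn2.1.1] at o2
  have x3 := h.pj.mem_im_of (X := Oc (t (e c) (e d)) ⊓ C1 (t a b)) ⟨x2, x1⟩ x1
  rw [h.pj.comm r2 s1, r3] at x3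
  obtain ⟨v, hv⟩ : ⁅f y, p (t a (e k))⁆ ∈ f.range := by
    have := mul_mem (⟨y, rfl⟩ : f y ∈ f.range)
      (h.nor.conj_mem _ (inv_mem (⟨y, rfl⟩ : f y ∈ f.range)) (p (t a (e k))))
    simpa [commutatorElement_def, mul_assoc] using this
  have v1 : Commute y v := hG.g1 (by omega) _ _ o2 (show f v ∈ _ from hv ▸ x3) y
    (P.K_le_Fx (Or.inl subset_rfl) hy)
  have e1 : p (t a (e k)) * f y⁻¹ * (p (t a (e k)))⁻¹ = f (y⁻¹ * v) := by
    rw [map_mul, hv, map_inv, commutatorElement_def]; group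
  have e2 : f v ^ 2 ^ 2 = 1 := by
    have := congrArg (· ^ 2 ^ 2) e1
    simp only [conj_pow] at this
    rw [← map_pow, ← map_pow, v1.inv_left.mul_pow, inv_pow, four_pow h2] at this
    simpa using this.symm
  have e3 : f v = 1 := by
    have := Subgroup.orderOf_dvd_natCard _ (hv ▸ x3)
    exact orderOf_eq_one_iff.1 (Nat.eq_one_of_dvd_coprimes
      (Nat.Coprime.pow_left 2 (Nat.coprime_two_left.2 o1.1)) (orderOf_dvd_of_pow_eq_one e2) this)
  rw [e3, eq_comm, commutatorElement_eq_one_iff_mul_comm] at hv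
  rw [← hv, mul_inv_cancel_right]

theorem act_shift (fr : Fr t) (h : L0 P t a b e p f) {S : Finset (Fin m)} {j k : Fin m}
    (hj : j ∉ S) {y : P.G m} (hy : y ∈ P.K S)
    (h1 : p (t a (e j)) * f (P.cj {k} y) * (p (t a (e j)))⁻¹ = f (P.cj {k} y)) :
    p (t a (e k)) * f y * (p (t a (e k)))⁻¹ = f (P.cj {k} y) := by
  have e1 : P.t j k * y * (P.t j k)⁻¹ = P.cj {k} y := by
    rw [P.t_conj]
    exact P.K_le_Fx (Or.inr (by simpa using hj)) (P.cj_mem_K _ hy)
  rw [← h1, ← fr.mul a (e j) (e k), h.pj.mul _ (fr.mem _ _ _ _) _ (fr.mem _ _ _ _), ← h.tt, ← e1,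
    map_mul, map_mul, map_inv]
  group

end L0

theorem actS (hG : ∀ P, GF P) : ActStmt.{u} := by
  intro P n m hm G Y _ _ _ _ t fr wp a b e lab p f h
  have g := hG P
  have a4 : ∀ c d, c ≠ d → ∀ k, ∀ y ∈ P.K {c, d}, y * y = P.t c d →
      p (t a (e k)) * f y * (p (t a (e k)))⁻¹ = f (P.cj {k} y) := fun c d hcd k y hy h2 => by
    obtain ⟨j, j1, j2, -⟩ := exists_ne3 hm c d c
    exact act_shift fr h (j := j) (by simp [j1, j2]) hy (act_four g hm fr wp lab h
      (by simp [hcd, j1.symm, j2.symm]) (P.cj_mem_K _ hy) (by rw [← map_mul, h2, P.cj_t]))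
  have a2 : ∀ c d k, [c, d, k].Nodup → ∀ y ∈ P.K {c, d},
      p (t a (e k)) * f y * (p (t a (e k)))⁻¹ = f y := fun c d k hn y hy => by
    have hn2 := hn
    simp only [List.nodup_cons, List.mem_cons, not_or,
      List.not_mem_nil, not_false_eq_true, and_true, List.nodup_nil] at hn2
    refine (closure_le (((MulAut.conj (p (t a (e k)))).toMonoidHom.comp f).eqLocus f)).2 ?_
      (g.a5 c d hn2.1.1 hy)
    rintro y ⟨hy, hp⟩
    obtain ⟨y', hy'⟩ := h.nor.conj_mem _ (⟨y, rfl⟩ : f y ∈ f.range) (p (t a (e k)))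
    have yt : y * P.t c d = P.t c d * y :=
      mC1.1 (P.Fx_pair hn2.1.1 ▸ P.K_le_Fx (Or.inl subset_rfl) hy)
    obtain ⟨k1, k2⟩ := g.a4 hm c d hn2.1.1 (y⁻¹ * y')
      (fun z hz => (mC1.1 ((closure_le (C1 (y⁻¹ * y'))).2 (by
        rintro z ⟨z1, z2⟩
        have b1 := act_four g hm fr wp lab h hn z1 z2
        have b2 := act_four g hm fr wp lab h hn (mul_mem (mul_mem hy z1) (inv_mem hy)) (by
          rw [show y * z * y⁻¹ * (y * z * y⁻¹) = y * (z * z) * y⁻¹ by group, z2, yt]; group)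
        have b3 : y' * z * y'⁻¹ = y * z * y⁻¹ := eq_of_odd_ker h.ker h.odd (k := 2) (l := 2)
          (by rw [conj_pow, four_pow z2]; group) (by rw [conj_pow, four_pow z2]; group) (by
            rw [← b2]
            simp only [map_mul, map_inv]
            rw [hy']
            nth_rewrite 1 [← b1]
            group)
        refine mC1.2 ?_
        calc z * (y⁻¹ * y') = y⁻¹ * (y * z * y⁻¹) * y' := by group
          _ = y⁻¹ * y' * z := by rw [← b3]; group) hz)).symm)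
      (fun r s hd z hz => (mC1.1 ((closure_le (C1 (y⁻¹ * y'))).2 (by
        rintro z ⟨z1, z2⟩
        simp only [List.nodup_cons, List.mem_cons, not_or,
          List.not_mem_nil, not_false_eq_true, and_true, List.nodup_nil] at hd
        have dj : Disjoint ({c, d} : Finset (Fin m)) {r, s} := by
          rw [disjoint_comm]; simp [hd]
        have b1 := a4 r s hd.2.2 k _ (P.cj_mem_K {k} z1) (by rw [← map_mul, z2, P.cj_t])
        rw [P.cj_cj] at b1
        have b2 : y' * z = z * y' := comm_of_odd_ker h.ker h.odd (four_pow z2) (by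
          have := congrArg f (P.K_comm dj hy (P.cj_mem_K {k} z1))
          rw [map_mul, map_mul] at this
          rw [hy', ← b1]
          calc _ = p (t a (e k)) * (f y * f (P.cj {k} z)) * (p (t a (e k)))⁻¹ := by group
            _ = _ := by rw [this]; group)
        have b3 : Commute y z := P.K_comm dj hy z1
        exact mC1.2 (b3.inv_left.mul_left b2).symm) hz)).symm)
    have c1 : Commute y (y⁻¹ * y') := (k1 y hy).symm
    have c2 : f (y⁻¹ * y') ^ ringChar P.E = 1 := by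
      have := congrArg f (c1.mul_pow (ringChar P.E))
      rw [mul_inv_cancel_left, hp, one_mul, map_pow, map_pow, hy', conj_pow, ← map_pow, hp] at this
      simpa using this.symm
    obtain ⟨r, hr, hc⟩ := FiniteField.card P.E (ringChar P.E)
    have c3 : f (y⁻¹ * y') = 1 := orderOf_eq_one_iff.1 (Nat.eq_one_of_dvd_coprimes
      (show (ringChar P.E).Coprime (Fintype.card P.E - 1) from
        Nat.Coprime.coprime_dvd_left (hc ▸ dvd_pow_self _ r.ne_zero)
          ((Nat.coprime_self_sub_right Fintype.card_pos).2 (Nat.coprime_one_right _)))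
      (orderOf_dvd_of_pow_eq_one c2)
      (orderOf_dvd_of_pow_eq_one (by rw [← map_pow, k2, map_one])))
    rw [map_mul, map_inv, inv_mul_eq_one, hy'] at c3
    exact c3.symm
  refine ⟨h, fun k y => ?_⟩
  refine g.gen Finset.univ (((MulAut.conj (p (t a (e k)))).toMonoidHom.comp f).eqLocus
    (f.comp (P.cj {k}).toMonoidHom)) (fun c _ d _ hcd y hy => ?_) (P.K_univ ▸ mem_top y)
  obtain ⟨j, j1, j2, -⟩ := exists_ne3 hm c d c
  exact act_shift fr h (j := j) (by simp [j1, j2]) hy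
    (a2 c d j (by simp [hcd, j1.symm, j2.symm]) _ (P.cj_mem_K _ hy))

end Cfsg.Agent.H1.FU
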