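import Cfsg.Agent.H1.FuLd

/-!
# The component of `C(t a b)` (FL-BUILD)
-/

set_option autoImplicit false

namespace Cfsg.Agent.H1.FU

open Subgroup Cfsg.Agent.H96.FL Cfsg.Agent.H96.FL.Par Cfsg.Agent.H8.GHO Cfsg.Agent.H18.SC
open scoped commutatorElement

universe u

theorem hom_eq_of_perfect {Γ L Y : Type*} [Group Γ] [Group L] [Group Y] (h : commutator Γ = ⊤)
    {π : L →* Y} (hk : π.ker ≤ center L) {g g' : Γ →* L} (e : ∀ x, π (g x) = π (g' x)) (x : Γ) :
    g x = g' x := by
  refine (commutator_le (H₃ := g.eqLocus g')).2 (fun a _ b _ => ?_) (h.ge (mem_top x))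
  have k : ∀ y, g y * (g' y)⁻¹ ∈ center L := fun y => hk (by simp [e])
  change g ⁅a, b⁆ = g' ⁅a, b⁆
  rw [map_commutatorElement, map_commutatorElement, ← inv_mul_cancel_right (g a) (g' a),
    ← inv_mul_cancel_right (g b) (g' b)]
  have k1 := mem_center_iff.1 (k a)
  have k2 := mem_center_iff.1 (k b)
  generalize g a * (g' a)⁻¹ = z at k1
  generalize g b * (g' b)⁻¹ = w at k2
  calc ⁅z * g' a, w * g' b⁆ = z * (g' a * (w * g' b) * (g' a)⁻¹) * z⁻¹ * (w * g' b)⁻¹ := by
        rw [commutatorElement_def]; group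
    _ = g' a * (w * (g' b * (g' a)⁻¹ * (g' b)⁻¹) * w⁻¹) := by rw [← k1]; group
    _ = _ := by rw [← k2, commutatorElement_def]; group

theorem O_bot (hR : RigStmt) {P : Par} (hG : GF1 P) (hx : P.x = -3) {G : Type u} [Group G]
    [Finite G] {t : Fin (4 + 2) → Fin (4 + 2) → G} (fr : Fr t) (hl : HL1 P 4 t) (co : Cor t)
    {a b : Fin (4 + 2)} (hab : a ≠ b) : Oc (t a b) = ⊥ := by
  have le : ∀ a b c d, [c, d, a, b].Nodup → Oc (t a b) ≤ Oc (t c d) := fun a b c d hd x h1 => by
    obtain ⟨e, lab, he⟩ := exists_lab (m := 4) (l := [0, 1]) (by simp) hd rfl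
    simp only [List.map_cons, List.map_nil, List.cons.injEq, and_true] at he
    obtain ⟨rfl, rfl⟩ := he
    obtain ⟨Y, _, _, p, f, h⟩ := hl c d e lab
    have cx := fun r s => co.cen _ _ (lab.inj.ne (by decide : (0 : Fin 4) ≠ 1)) r s h1
    have inj : Function.Injective f := by
      have d1 := card_dvd_of_le h.ker
      rw [hG.cardZ 4 (by omega), hx] at d1
      exact (MonoidHom.ker_eq_bot_iff f).1 (card_eq_one.1 (Nat.eq_one_of_dvd_coprimes
        (Nat.Coprime.pow_left 2 (Nat.coprime_two_left.2 h.odd)) d1 dvd_rfl))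
    have := h.nor
    let θ : MulAut (P.G 4) := MulAut.congr (MonoidHom.ofInjective inj).symm
      (MulAut.conjNormal (H := f.range) (p x))
    have h2 : ∀ g, f (θ g) = p x * f g * (p x)⁻¹ := fun g =>
      MonoidHom.apply_ofInjective_symm inj _
    have cm : ∀ r s, p x * p (t r s) = p (t r s) * p x := fun r s => by
      rw [← h.pj.mul _ (cx _ _) _ (fr.mem _ _ _ _), ← h.pj.mul _ (fr.mem _ _ _ _) _ (cx _ _),
        mC1.1 (cx r s)]
    have h3 := hR P hx θ (by
        refine Odd.of_dvd_nat (odd_O (t (e 0) (e 1))) (dvd_trans ?_ (orderOf_dvd_natCard _ h1))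
        exact (orderOf_map_dvd (MulAut.congr (MonoidHom.ofInjective inj).symm).toMonoidHom _).trans
          ((orderOf_map_dvd _ _).trans ((orderOf_map_dvd h.pj.hom ⟨x, cx _ _⟩).trans
            (orderOf_mk x _).dvd)))
      (fun r s => inj (by rw [h2, h.tt, cm]; group))
      fun k g => inj (by
        rw [h2, ← h.act, ← h.act, h2, ← mul_assoc, ← mul_assoc, cm, mul_assoc _ _ (p x)⁻¹,
          ← mul_inv_rev, cm]
        group)
    refine mem_O_of fr h.toL0 h1 (cx _ _) (eq_top_iff.2 fun g _ => mC1.2 ?_)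
    have := h2 g
    rw [h3, MulAut.one_apply, eq_mul_inv_iff_mul_eq] at this
    exact this
  obtain ⟨e, lab, -⟩ := exists_lab (m := 4) (a := a) (b := b) (l := []) (l' := []) (by simp)
    (by simpa using hab) rfl
  have hn := lab.nodup (l := [0, 1, 2]) (by simp)
  simp only [List.map_cons, List.map_nil, List.nodup_cons, List.mem_cons, not_or,
    List.not_mem_nil, not_false_eq_true, and_true, List.nodup_nil] at hn
  have k := le a b (e 1) (e 2) (by simp [hn, lab.na, lab.nb])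
  exact eq_bot_iff.2 ((le_inf (le_inf le_rfl (k.trans (le _ _ _ _ (by simp [hn]))))
    (k.trans (le _ _ _ _ (by simp [hn])))).trans (co.inf a b (e 0) (by simp [hn])).le)

theorem build (hL : LiftStmt.{u}) (hR : RigStmt) (hG : ∀ P, GF P) : BuildStmt.{u} := by
  intro P m hm G _ _ t fr hl co a b e lab
  have g1 := (hG P).toGF1
  obtain ⟨Y, _, _, p, f, h⟩ := hl a b e lab
  have le := fr.LL_le a b
  obtain ⟨π, hπ⟩ : ∃ π : LL t a b →* Y, ∀ x, π x = p x :=
    ⟨h.pj.hom.comp (inclusion le), fun _ => rfl⟩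
  have k0 : ∀ x ∈ π.ker, x.1 ∈ Oc (t a b) := fun x hx =>
    (h.pj.ker _ (le x.2)).1 ((hπ x).symm.trans hx)
  have k1 : π.ker ≤ center _ := fun x hx => mem_center_iff.2 fun y => Subtype.ext (by
    have : LL t a b ≤ centralizer (Oc (t a b) : Set G) := (closure_le _).2 (by
      rintro _ ⟨k, hk, c, d, -, rfl⟩ z hz
      have := mC1.1 (co.cen a b lab.ne c d (nrm_O (inv_mem hk) z hz))
      calc _ = k * (k⁻¹ * z * k⁻¹⁻¹ * t c d) * k⁻¹ := by group
        _ = _ := by rw [this]; group)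
    exact (this y.2 _ (k0 x hx)).symm)
  have k2 : Odd (Nat.card π.ker) := Odd.of_dvd_nat (odd_O (t a b)) ((card_dvd_of_le
    (show π.ker ≤ (Oc (t a b)).comap (LL t a b).subtype from k0)).trans
      (card_comap_dvd_of_injective _ _ Subtype.val_injective))
  have k3 : f.range ≤ π.range := fun y hy => by
    obtain ⟨x, h1, -, rfl⟩ := h.pj.mem_im.1 (le_im g1 hm fr lab h.toL0 hy)
    exact ⟨⟨x, h1⟩, hπ _⟩
  obtain ⟨g, hg⟩ : ∃ g : P.G m →* LL t a b, ∀ x, π (g x) = f x := by
    by_cases c : m = 4 ∧ P.x = -3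
    · obtain ⟨rfl, hx⟩ := c
      have inj : Function.Injective π := (injective_iff_map_eq_one π).2 fun x hx' =>
        Subtype.ext ((O_bot hR g1 hx fr hl co lab.ne).le (k0 x hx'))
      exact ⟨(MonoidHom.ofInjective inj).symm.toMonoidHom.comp
        (f.codRestrict _ fun x => k3 ⟨x, rfl⟩), fun x => MonoidHom.apply_ofInjective_symm inj _⟩
    · obtain ⟨g, hg⟩ := hL P m hm c _ Y π f k1 k3
      exact ⟨g, DFunLike.congr_fun hg⟩
  have k4 : ((LL t a b).subtype.comp g).ker ≤ f.ker := fun x hx => by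
    rw [MonoidHom.mem_ker, ← hg, show g x = 1 from Subtype.ext hx, map_one]
  have k5 : ∀ y : LL t a b, y.1 * y.1 = 1 → ∀ x, x ^ 2 ^ 1 = 1 → f x = p y → g x = y :=
    fun y hy x hx k => eq_of_odd_ker k1 k2 (k := 1) (l := 1) (by rw [← map_pow, hx, map_one])
      (Subtype.ext (by rw [pow_one, pow_two]; exact hy)) (by rw [hg, hπ, k])
  refine ⟨(LL t a b).subtype.comp g, le_antisymm ?_ ((closure_le _).2 fun y hy => ?_),
    k4.trans h.ker, Odd.of_dvd_nat h.odd (card_dvd_of_le k4), fun c d => ?_, fun k x => ?_⟩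
  · rintro _ ⟨x, rfl⟩
    exact (g x).2
  · have m1 : y ∈ LL t a b := subset_closure hy
    have m2 : y * y = 1 := by
      obtain ⟨k, -, c, d, -, rfl⟩ := hy
      rw [conj_mul, fr.sq]; group
    have m3 : p y * p y = 1 := by rw [← h.pj.mul _ (le m1) _ (le m1), m2, h.pj.one]
    obtain ⟨x, hx⟩ := h.toL0.im_le fr lab (mem_sup_left m1)
    obtain ⟨r, hr⟩ := h.odd
    refine ⟨x ^ Nat.card f.ker, congrArg Subtype.val (k5 ⟨y, m1⟩ m2 _ ?_ ?_)⟩
    · rw [← pow_mul, mul_comm, pow_mul]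
      exact congrArg Subtype.val (pow_card_eq_one' (G := f.ker) (x := ⟨x ^ 2 ^ 1, by
        rw [MonoidHom.mem_ker, map_pow, hx, pow_one, pow_two, m3]⟩))
    · rw [map_pow, hx, hr, pow_succ, pow_mul, pow_two, m3, one_pow, one_mul]
  · by_cases c1 : c = d
    · rw [c1, P.t_self, map_one, fr.self]
    · exact congrArg Subtype.val (k5 ⟨_, mem_LL (lab.nodup (l := [c, d]) (by simpa using c1))⟩
        (fr.sq _ _) _ (t_pow P c d) (h.tt c d))
  · have s1 := fr.mem a (e k) a b
    exact congrArg Subtype.val (hom_eq_of_perfect (g1.perf m (by omega)) k1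
      (g := ((MulAut.conj (t a (e k))).toMonoidHom.comp ((LL t a b).subtype.comp g)).codRestrict _
        fun x => nrm_LL s1 _ (g x).2) (g' := g.comp (P.cj {k}).toMonoidHom) (fun x => by
          rw [hπ]
          exact (h.pj.conj s1 (le (g x).2)).trans (by
            rw [← hπ, hg, h.act]; exact (hg _).symm)) x)

end Cfsg.Agent.H1.FU
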