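import Cfsg.Agent.H96.FuLApi

/-!
# Block embeddings `P.G k → P.G m`
-/

set_option autoImplicit false

namespace Cfsg.Agent.H1.FU

open Subgroup Cfsg.Agent.H96.FL Cfsg.Agent.H96.FL.Par

variable {P : Par}

theorem t_ne_one (P : Par) {m : ℕ} {c d : Fin m} (h : c ≠ d) : P.t c d ≠ 1 := fun e => by
  have := congrFun (congrFun (congrArg ent e) c) c
  rw [ent_t, dm_pair _ h, dm_apply, ent_one] at this
  simp only [if_true, Finset.mem_insert, true_or, Matrix.one_apply_eq] at this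
  exact P.two_ne (by linear_combination -this)

/-- the block embedding. -/
theorem emb (hG : GF1 P) {k m : ℕ} (e : Fin k ↪ Fin m) : ∃ φ : P.G k →* P.G m,
    Function.Injective φ ∧ (∀ g a b, ent (φ g) (e a) (e b) = ent g a b) ∧
    (∀ c d, φ (P.t c d) = P.t (e c) (e d)) ∧ (∀ S, (P.K S).map φ = P.K (S.map e)) ∧
    ∀ S g, φ (P.cj S g) = P.cj (S.map e) (φ g) := by
  obtain ⟨φ, h1, h2⟩ := hG.emb e
  have o : ∀ a b, (1 : Matrix (Fin m) (Fin m) P.E) (e a) (e b) =
      (1 : Matrix (Fin k) (Fin k) P.E) a b := fun a b => by simp [Matrix.one_apply]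
  have m1 : ∀ g, φ g ∈ P.K (Finset.univ.map e) := fun g => h2 ▸ ⟨g, rfl⟩
  have ext : ∀ x ∈ P.K (Finset.univ.map e), ∀ y ∈ P.K (Finset.univ.map e),
      (∀ a b, ent x (e a) (e b) = ent y (e a) (e b)) → x = y := fun x hx y hy h => by
    refine P.ent_inj (Matrix.ext fun i j => ?_)
    by_cases c : i ∉ Finset.univ.map e ∨ j ∉ Finset.univ.map e
    · rw [hx i j c, hy i j c]
    · simp only [Finset.mem_map, Finset.mem_univ, true_and, not_or, not_not] at c
      obtain ⟨⟨a, rfl⟩, b, rfl⟩ := c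
      exact h a b
  refine ⟨φ, fun a b h => P.ent_inj (Matrix.ext fun i j => by rw [← h1, ← h1, h]), h1,
    fun c d => ext _ (m1 _) _ (P.K_mono (by simp [Finset.insert_subset_iff]) (P.t_mem_K _ _))
      fun a b => ?_, fun S => le_antisymm ?_ fun g hg => ?_,
    fun S g => ext _ (m1 _) _ (P.cj_mem_K _ (m1 _)) fun a b => ?_⟩
  · rw [h1, ent_t, ent_t]
    simp [dm, Matrix.diagonal_apply]
  · rintro _ ⟨g, hg, rfl⟩ i j h
    by_cases c : i ∉ Finset.univ.map e ∨ j ∉ Finset.univ.map e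
    · exact m1 g i j c
    · simp only [Finset.mem_map, Finset.mem_univ, true_and, not_or, not_not] at c
      obtain ⟨⟨a, rfl⟩, b, rfl⟩ := c
      rw [h1, o, hg a b (by simpa using h)]
  · obtain ⟨x, rfl⟩ : g ∈ φ.range := h2 ▸ P.K_mono (Finset.map_subset_map.2 S.subset_univ) hg
    exact ⟨x, fun a b h => by rw [← h1, ← o, hg _ _ (by simpa using h)], rfl⟩
  · rw [h1, ent_cj_apply, ent_cj_apply, h1]
    simp

theorem exists_ext {k r n : ℕ} (h1 : k ≤ r) (h2 : r ≤ n) (l : Fin k ↪ Fin n) :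
    ∃ l' : Fin r ↪ Fin n, ∀ i, l' (Fin.castLE h1 i) = l i := by
  obtain ⟨π, hπ⟩ := Equiv.Perm.exists_extending_pair (f := Fin.castLE (h1.trans h2)) (g := l)
    (Fin.castLE_injective _) l.injective
  exact ⟨(Fin.castLEEmb h2).trans π.toEmbedding, hπ⟩

end Cfsg.Agent.H1.FU
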