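import Cfsg.Agent.H1.FuLd

/-!
# The fundamental subgroups (FL-RECA)
-/

set_option autoImplicit false

namespace Cfsg.Agent.H1.FU

open Subgroup Cfsg.Agent.H96.FL Cfsg.Agent.H96.FL.Par Cfsg.Agent.H8.GHO Cfsg.Agent.H18.SC
open scoped commutatorElement

universe u

variable {P : Par} {n m : ℕ} {G : Type*} [Group G] {t : Fin n → Fin n → G}
  {a b a' b' : Fin n} {e e' : Fin m → Fin n} {f f' : P.G m →* G}

theorem exists_not_mem {n : ℕ} (l : List (Fin n)) (h : l.length < n) : ∃ k, k ∉ l := by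
  by_contra c
  push Not at c
  have := (Finset.card_le_card (show Finset.univ ⊆ l.toFinset from fun k _ =>
    List.mem_toFinset.2 (c k))).trans l.toFinset_card_le
  simp at this
  omega

theorem t_not_central' (hG : GF1 P) {c d k : Fin m} (h : [c, d, k].Nodup) :
    P.t c d ∉ center (P.G m) := fun z => by
  simp only [List.nodup_cons, List.mem_cons, not_or, List.not_mem_nil, not_false_eq_true,
    and_true, List.nodup_nil] at h
  obtain ⟨x, hx⟩ := (hG.cen m (by have := c.2; have := d.2; have := h.1.1; omega) _).1 z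
  rw [ent_t, dm_pair _ h.1.1] at hx
  have h1 := congrFun (congrFun hx c) c
  have h2 := congrFun (congrFun hx k) k
  simp [dm_apply, Ne.symm h.1.2, Ne.symm h.2] at h1 h2
  exact P.two_ne (by linear_combination h2 - h1)

theorem l2_cent (fr : Fr t) (lab : Lab a b e) (h : L2 P t a b e f) {S : Finset (Fin m)}
    {g : P.G m} (hg : g ∈ P.K S) {r s : Fin n} (hr : ∀ k ∈ S, e k ≠ r) (hs : ∀ k ∈ S, e k ≠ s) :
    f g ∈ C1 (t r s) := by
  have k : ∀ r, (∀ k ∈ S, e k ≠ r) → Commute (f g) (t a r) := fun r hr => by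
    by_cases c1 : r = a
    · rw [c1, fr.self]; exact Commute.one_right _
    by_cases c2 : r = b
    · rw [c2]; exact mC1.1 (fr.LL_le a b (h.ran ▸ ⟨g, rfl⟩))
    obtain ⟨k, rfl⟩ := lab.sur r c1 c2
    have := h.act k g
    rw [show P.cj {k} g = g from P.K_le_Fx (Or.inr (by
      simpa using fun c => hr k c rfl)) hg, mul_inv_eq_iff_eq_mul] at this
    exact this.symm
  rw [← fr.mul r a s, fr.symm r a]
  exact mC1.2 ((k r hr).mul_right (k s hs))

theorem l2_fx (hG : GF1 P) (hm : 4 ≤ m) (h : L2 P t a b e f) {g : P.G m} {k : Fin m}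
    (hg : f g ∈ C1 (t a (e k))) : g ∈ P.Fx {k} :=
  hG.fx_of (by omega) h.ker h.odd (by rw [← h.act, ← mC1.1 hg]; group)

theorem trans3 (hG : GF P) (hm : 4 ≤ m) (fr : Fr t) (lab : Lab a b e) (h : L2 P t a b e f)
    (lab' : Lab a' b' e') (h' : L2 P t a' b' e' f') (l l' : Fin 3 ↪ Fin m)
    (hl : ∀ i, e' (l' i) = e (l i)) :
    (P.K (Finset.univ.map l')).map f' ≤ (P.K (Finset.univ.map l)).map f := by
  obtain ⟨φ, -, -, k1, k2, -⟩ := emb hG.toGF1 l'
  have m1 : ∀ g, φ g ∈ P.K (Finset.univ.map l') := fun g =>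
    k2 _ ▸ mem_map_of_mem φ (P.K_univ ▸ mem_top g)
  have c1 : ∀ g, ∀ r s, (∀ i, e (l i) ≠ r) → (∀ i, e (l i) ≠ s) → f' (φ g) ∈ C1 (t r s) :=
    fun g r s hr hs => l2_cent fr lab' h' (m1 g) (by simpa [hl] using hr) (by simpa [hl] using hs)
  have c2 := (hG.qs 3 le_rfl ((LL t a b).comap (f'.comp φ)) ⟨fun x hx g => by
      rw [mem_comap, map_mul, map_mul, map_inv]
      exact nrm_LL (c1 g a b (fun _ => lab.na _) fun _ => lab.nb _) _ hx⟩).resolve_left
    fun k => t_not_central' hG.toGF1 (c := 0) (d := 1) (k := 2) (by decide) (k (by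
      rw [mem_comap, MonoidHom.comp_apply, k1, h'.tt, hl, hl]
      exact mem_LL (lab.nodup (l := [_, _]) (by simp))))
  have c3 : (⊤ : Subgroup (P.G 3)).map (f'.comp φ) ≤ (P.BB (Finset.univ.map l)).map f := by
    rintro _ ⟨g, -, rfl⟩
    obtain ⟨x, hx⟩ : f' (φ g) ∈ f.range := h.ran ▸ c2.ge (mem_top g)
    refine ⟨x, P.mem_BB.2 fun k hk => l2_fx hG.toGF1 hm h ?_, hx⟩
    rw [hx]
    exact c1 g _ _ (fun _ => lab.na _) fun i c => hk (by simp [← lab.inj c])
  rw [← k2, P.K_univ, map_map, ← hG.perf 3 le_rfl, commutator_def, map_commutator]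
  exact (commutator_mono c3 c3).trans (by rw [← map_commutator]; exact map_mono (hG.g4 _))

theorem trans2 (hG : GF P) (hm : 4 ≤ m) (fr : Fr t) (lab : Lab a b e) (h : L2 P t a b e f)
    (lab' : Lab a' b' e') (h' : L2 P t a' b' e' f') {c d c' d' : Fin m} (hcd : c ≠ d)
    (hc : e' c' = e c) (hd : e' d' = e d) {r : Fin n} (hr : r ∉ [a, b, a', b', e c, e d]) :
    (P.K {c', d'}).map f' ≤ (P.K {c, d}).map f := by
  simp only [List.mem_cons, List.not_mem_nil, or_false, not_or] at hr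
  obtain ⟨k, rfl⟩ := lab.sur r hr.1 hr.2.1
  obtain ⟨k', hk⟩ := lab'.sur _ hr.2.2.1 hr.2.2.2.1
  have n1 : [c, d, k].Nodup := by
    simp [hcd, (lab.inj.ne_iff.1 hr.2.2.2.2.1).symm, (lab.inj.ne_iff.1 hr.2.2.2.2.2).symm]
  have n2 : [c', d', k'].Nodup := List.Nodup.of_map e' (by
    simpa only [List.map_cons, List.map_nil, hc, hd, hk] using n1.map lab.inj)
  have k3 := trans3 hG hm fr lab h lab' h' ⟨![c, d, k], List.nodup_ofFn.1 (by simpa using n1)⟩
    ⟨![c', d', k'], List.nodup_ofFn.1 (by simpa using n2)⟩ (fun i => by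
      fin_cases i <;> assumption)
  have u : ∀ (x y z : Fin m) (hh : Function.Injective ![x, y, z]),
      Finset.univ.map ⟨![x, y, z], hh⟩ = {x, y, z} := fun x y z hh => by
    ext i; simp [Fin.exists_fin_succ, eq_comm]
  rw [u, u] at k3
  have c3 : (P.K {c', d', k'} ⊓ P.Fx {k'}).map f' ≤ (P.BB {c, d}).map f := by
    rintro _ ⟨g, ⟨g1, g2⟩, rfl⟩
    obtain ⟨x, x1, x2⟩ := k3 (mem_map_of_mem f' g1)
    refine ⟨x, P.mem_BB.2 fun j hj => ?_, x2⟩
    by_cases c1 : j = k
    · subst c1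
      refine l2_fx hG.toGF1 hm h ?_
      have b1 : Commute (f' g) (t a' (e j)) := by
        have := h'.act k' g
        rw [show P.cj {k'} g = g from g2, mul_inv_eq_iff_eq_mul, hk] at this
        exact this.symm
      have b2 : Commute (f' g) (t a a') := mC1.1 (l2_cent fr lab' h' g1
        (by simp [hc, hd, hk, lab.na]) fun i _ => lab'.na i)
      rw [x2, ← fr.mul a a']
      exact mC1.2 (b2.mul_right b1)
    · exact P.K_le_Fx (Or.inr (by simpa [c1] using hj)) x1
  refine (map_mono (hG.g3 _ _ _ n2)).trans ?_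
  rw [map_commutator]
  exact (commutator_mono c3 c3).trans (by rw [← map_commutator]; exact map_mono (hG.g4 _))

theorem l2_pm (hG : GF1 P) (fr : Fr t) (lab : Lab a b e) (h : L2 P t a b e f) {c d : Fin m}
    (hcd : c ≠ d) : ∃ g ∈ LL t a b, Pm t g (Equiv.swap (e c) (e d)) := by
  obtain ⟨w, -, -, hw, -⟩ := hG.sw c d hcd
  have m1 : f w ∈ LL t a b := h.ran ▸ ⟨w, rfl⟩
  have k : ∀ r, f w * t a r * (f w)⁻¹ = t a (Equiv.swap (e c) (e d) r) := fun r => by
    by_cases c1 : r = a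
    · rw [c1, Equiv.swap_apply_of_ne_of_ne (lab.na c).symm (lab.na d).symm, fr.self]; simp
    by_cases c2 : r = b
    · rw [c2, Equiv.swap_apply_of_ne_of_ne (lab.nb c).symm (lab.nb d).symm]
      exact mC1'.1 (fr.LL_le a b m1)
    obtain ⟨k, rfl⟩ := lab.sur r c1 c2
    rw [lab.inj.swap_apply, ← fr.mul a (e k) (e (Equiv.swap c d k)), fr.comm, fr.symm (e k),
      ← h.tt, ← hw, map_mul, ← h.act, map_inv]
    group
  refine ⟨f w, m1, fun r s => ?_⟩
  rw [← fr.mul r a s, ← fr.mul _ a (Equiv.swap _ _ s), fr.symm r a, fr.symm _ a, ← k, ← k]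
  group

/-- the join of the `LL t r s` over the pairs with the property `Q`. -/
def JL (t : Fin n → Fin n → G) (Q : Fin n → Fin n → Prop) : Subgroup G :=
  ⨆ p : {p : Fin n × Fin n // Q p.1 p.2}, LL t p.1.1 p.1.2

theorem le_JL {Q : Fin n → Fin n → Prop} {r s : Fin n} (h : Q r s) : LL t r s ≤ JL t Q :=
  le_iSup (fun p : {p : Fin n × Fin n // Q p.1 p.2} => LL t p.1.1 p.1.2) ⟨(r, s), h⟩

theorem JL_le {Q : Fin n → Fin n → Prop} {M : Subgroup G} (h : ∀ r s, Q r s → LL t r s ≤ M) :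
    JL t Q ≤ M := iSup_le fun p => h _ _ p.2

theorem nrm_JL [Finite G] {Q : Fin n → Fin n → Prop} {x : G}
    (h : ∀ r s, Q r s → Nrm x (LL t r s) (JL t Q)) : x ∈ normalizer (JL t Q : Set G) :=
  mem_normalizer_fintype (JL_le (M := (JL t Q).comap (MulAut.conj x).toMonoidHom) h)

theorem JL_top [Finite G] [IsSimpleGroup G] (hn : 6 ≤ n) (fr : Fr t) (gen : Gen t) (ld : LD t)
    (co : Cor t) (sw : ∀ v w r s, [v, w, r, s].Nodup → ∃ x ∈ LL t v w, Pm t x (Equiv.swap r s)) :
    JL t (· ≠ ·) = ⊤ := by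
  have nr : ∀ {x π}, Pm t x π → x ∈ normalizer (JL t (· ≠ ·) : Set G) := fun {x π} hx =>
    nrm_JL fun r s h y hy => le_JL (π.injective.ne h) (hx.LL _ _ y hy)
  have top := gen (normalizer (JL t (· ≠ ·) : Set G)) (fun a b hab y hy => by
      obtain ⟨l, l1, c, c1, c2, rfl⟩ := ld.d5 a b hab y hy
      refine mul_mem (sup_le ((le_JL hab).trans le_normalizer) (fun x hx => nr (π := 1)
          fun r s => mC1'.1 (co.cen a b hab r s hx)) l1) ?_
      have e1 : JL t (· ≠ ·) = JL t fun r s => r ≠ s ∧ c ∈ C1 (t r s) := by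
        refine le_antisymm (JL_le fun r s hrs y hy => ?_) (JL_le fun r s h => le_JL h.1)
        obtain ⟨π, hπ⟩ := exists_perm_list (l := [a, b]) (l' := [r, s])
          (by simpa using hab) (by simpa using hrs) rfl
        simp only [List.map_cons, List.map_nil, List.cons.injEq, and_true] at hπ
        obtain ⟨rfl, rfl⟩ := hπ
        obtain ⟨x, x1, x2⟩ := pm_of_swap (t := t) (M := JL t fun r s => r ≠ s ∧ c ∈ C1 (t r s))
          (fun r s hrs => by
            obtain ⟨v, hv⟩ := exists_not_mem [a, b, r, s] (by simp; omega)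
            obtain ⟨w, hw⟩ := exists_not_mem [a, b, r, s, v] (by simp; omega)
            simp only [List.mem_cons, List.not_mem_nil, or_false, not_or] at hv hw
            obtain ⟨x, x1, x2⟩ := sw v w r s (by simp [hv, hw, hrs, Ne.symm hw.2.2.2.2])
            exact ⟨x, le_JL (Q := fun r s => r ≠ s ∧ c ∈ C1 (t r s)) ⟨Ne.symm hw.2.2.2.2, c2 _ _ (by
              simp [hab, Ne.symm hw.2.2.2.2, Ne.symm hv.1, Ne.symm hv.2.1, Ne.symm hw.1,
                Ne.symm hw.2.1])⟩ x1, x2⟩) π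
        have := x2.inv.LL _ _ y hy
        simp only [Equiv.Perm.coe_inv, Equiv.symm_apply_apply] at this
        simpa [mul_assoc] using mul_mem (mul_mem x1
          (le_JL (Q := fun r s => r ≠ s ∧ c ∈ C1 (t r s)) ⟨hab, c1⟩ this)) (inv_mem x1)
      rw [e1]
      exact nrm_JL fun r s h y hy => le_JL h (nrm_LL h.2 y hy))
    fun π => let ⟨x, hx⟩ := fr.perm π; ⟨x, nr hx, hx⟩
  refine (normalizer_eq_top_iff.1 top).eq_bot_or_eq_top.resolve_left fun k => ?_
  exact fr.ne ⟨2, by omega⟩ ⟨3, by omega⟩ (by simp) (k.le (le_JL (r := ⟨0, by omega⟩)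
    (s := ⟨1, by omega⟩) (by simp) (mem_LL (by simp))))

theorem recA (hG : ∀ P, GF P) : RecAStmt.{u} := by
  intro P m hm G _ _ _ t fr gen ld co hl
  have g := hG P
  obtain ⟨i0, i1, hn⟩ : ∃ c d : Fin m, c ≠ d := ⟨⟨0, by omega⟩, ⟨1, by omega⟩, by simp⟩
  have ex : ∀ a b c d, [a, b, c, d].Nodup → ∃ e f, Lab a b e ∧ L2 P t a b e f ∧ e i0 = c ∧
      e i1 = d := fun a b c d hd => by
    obtain ⟨e, lab, he⟩ := exists_lab (l := [i0, i1]) (by simpa using hn) hd rfl
    simp only [List.map_cons, List.map_nil, List.cons.injEq, and_true] at he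
    obtain ⟨f, h⟩ := hl a b e lab
    exact ⟨e, f, lab, h, he⟩
  obtain ⟨K, hK⟩ : ∃ K : Fin (m + 2) → Fin (m + 2) → Subgroup G, ∀ a b e f, Lab a b e →
      L2 P t a b e f → ∀ c d, c ≠ d → (P.K {c, d}).map f = K (e c) (e d) := by
    refine ⟨fun r s => sSup {X | ∃ a b, ∃ e : Fin m → Fin (m + 2), ∃ f, Lab a b e ∧ L2 P t a b e f ∧
      ∃ c d, e c = r ∧
      e d = s ∧ X = (P.K {c, d}).map f}, fun a b e f lab h c d hcd => le_antisymm
        (le_sSup ⟨a, b, e, f, lab, h, c, d, rfl, rfl, rfl⟩) (sSup_le ?_)⟩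
    rintro _ ⟨a', b', e', f', lab', h', c', d', hc, hd, rfl⟩
    by_cases c1 : a = a'
    · obtain ⟨r, hr⟩ := exists_not_mem [a, b, b', e c, e d] (by simp; omega)
      exact trans2 g hm fr lab h lab' h' hcd hc hd (r := r) (by
        simp only [List.mem_cons, not_or, ← c1] at hr ⊢; tauto)
    obtain ⟨e'', f'', lab'', h'', k1, k2⟩ := ex a a' (e c) (e d) (by
      have := lab'.na c'
      have := lab'.na d'
      simp_all [(lab.na _).symm, lab.inj.ne hcd, eq_comm (a := a')])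
    obtain ⟨r, hr⟩ := exists_not_mem [a, b, a', e c, e d] (by simp; omega)
    obtain ⟨s, hs⟩ := exists_not_mem [a, a', b', e c, e d] (by simp; omega)
    exact (trans2 g hm fr lab'' h'' lab' h' hn (hc.trans k1.symm) (hd.trans k2.symm) (r := s)
      (by simpa [k1, k2] using hs)).trans (trans2 g hm fr lab h lab'' h'' hcd k1 k2 (r := r)
        (by simp only [List.mem_cons, not_or] at hr ⊢; tauto))
  refine ⟨K, fun M hM => ?_, fun l => ?_⟩
  · refine eq_top_iff.2 ((JL_top (by omega) fr gen ld co fun v w r s hd => ?_).ge.trans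
      (JL_le fun a b hab => ?_))
    · obtain ⟨e, f, lab, h, rfl, rfl⟩ := ex v w r s hd
      exact l2_pm g.toGF1 fr lab h hn
    · obtain ⟨e, lab, -⟩ := exists_lab (m := m) (a := a) (b := b) (l := []) (l' := [])
        (by simp) (by simpa using hab) rfl
      obtain ⟨f, h⟩ := hl _ _ e lab
      rw [← h.ran, MonoidHom.range_eq_map, ← P.K_univ, map_le_iff_le_comap]
      exact g.gen _ _ fun c _ d _ hcd => map_le_iff_le_comap.1
        ((hK _ _ e f lab h c d hcd).trans_le (hM _ _ (lab.inj.ne hcd)))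
  · obtain ⟨a, ha⟩ := exists_not_mem (List.ofFn l) (by simp; omega)
    obtain ⟨b, hb⟩ := exists_not_mem (a :: List.ofFn l) (by simp; omega)
    obtain ⟨e, lab, he⟩ := exists_lab (a := b) (b := a) (l := List.ofFn (Fin.castLE hm))
      (l' := List.ofFn l) (List.nodup_ofFn.2 (Fin.castLE_injective hm))
      (List.nodup_cons.2 ⟨hb, List.nodup_cons.2 ⟨ha, List.nodup_ofFn.2 l.injective⟩⟩) (by simp)
    rw [List.map_ofFn, List.ofFn_inj] at he
    obtain ⟨f, h⟩ := hl _ _ e lab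
    obtain ⟨φ, k1, -, k2, k3, -⟩ := emb g.toGF1 (Fin.castLEEmb hm)
    refine ⟨f.comp φ, (injective_iff_map_eq_one _).2 fun z hz => ?_, fun c d => ?_,
      fun c d hcd => ?_⟩
    · have z1 : z ∈ center (P.G 4) := mem_center_iff.2 fun y => k1 (by
        rw [map_mul, map_mul, mem_center_iff.1 (h.ker hz)])
      have d1 := orderOf_dvd_natCard _ z1
      rw [g.cardZ 4 (by omega)] at d1
      have d2 := orderOf_dvd_natCard f.ker hz
      rw [orderOf_injective φ k1] at d2
      exact orderOf_eq_one_iff.1 (Nat.eq_one_of_dvd_coprimes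
        (Nat.Coprime.pow_left 2 (Nat.coprime_two_left.2 h.odd))
        (d1.trans (Int.natCast_dvd_natCast.1 (Int.gcd_dvd_left _ _))) d2)
    · rw [MonoidHom.comp_apply, k2, h.tt, ← he]; rfl
    · rw [← map_map, k3, ← he]
      refine Eq.trans ?_ (hK _ _ e f lab h _ _ ((Fin.castLE_injective hm).ne hcd))
      simp

end Cfsg.Agent.H1.FU
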