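import Cfsg.Agent.H1.FuGf1
import Cfsg.Agent.H1.FuRecA
import Cfsg.Agent.H96.FuLMod
import Cfsg.Agent.H96.FuLMe

/-!
# Frames in `SL_m(q)`, `SU_m(q)` are standard (FL-FR)
-/

set_option autoImplicit false

namespace Cfsg.Agent.H1.FU

open Matrix Subgroup Cfsg.Agent.H96.FL Cfsg.Agent.H96.FL.Par Cfsg.Agent.H8.GHO
open scoped MatrixGroups symmDiff

universe u

/-- an invariant family of `m` bipartitions of `m` labels. -/
theorem weights {m : ℕ} (w : Fin m → Fin m → Prop)
    (h1 : ∀ (π : Equiv.Perm (Fin m)) j, ∃ i, ∀ c d, (w j c ↔ w j d) ↔ (w i (π c) ↔ w i (π d)))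
    {j a b c d : Fin m} (h : [a, b, c, d].Nodup) (h2 : ¬ ((w j a ↔ w j b) ↔ (w j c ↔ w j d))) :
    ∃ τ : Equiv.Perm (Fin m), ∀ c a b, (w (τ c) a ↔ w (τ c) b) ↔ (a = c ↔ b = c) := by
  classical
  have hm : 4 ≤ m := by simpa using h.length_le_card
  obtain ⟨W, hW⟩ : ∃ W : Finset (Fin m), ∀ x, x ∈ W ↔ w j x := ⟨Finset.univ.filter (w j), by simp⟩
  have aux : ∀ x y z v, x ≠ y → x ≠ z → y ≠ z → (w j x ↔ w j y) → (w j x ↔ w j z) →
      ¬ (w j x ↔ w j v) → 0 < W.card ∧ 2 < Wᶜ.card ∨ 2 < W.card ∧ 0 < Wᶜ.card :=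
    fun x y z v e1 e2 e3 e4 e5 e6 => by
      simp only [Finset.card_pos, Finset.two_lt_card, Finset.Nonempty, Finset.mem_compl, hW]
      by_cases e : w j x
      · exact Or.inr ⟨⟨x, e, y, e4.1 e, z, e5.1 e, e1, e2, e3⟩, v, fun c => e6 (iff_of_true e c)⟩
      · exact Or.inl ⟨⟨v, by_contra fun c => e6 (iff_of_false e c)⟩, x, e, y, mt e4.2 e,
          z, mt e5.2 e, e1, e2, e3⟩
  have k1 : 0 < W.card ∧ 2 < Wᶜ.card ∨ 2 < W.card ∧ 0 < Wᶜ.card := by
    simp only [List.nodup_cons, List.mem_cons, List.not_mem_nil, or_false, not_or] at h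
    clear h1
    by_cases e : w j a ↔ w j b
    · by_cases e' : w j a ↔ w j c
      · exact aux a b c d (by tauto) (by tauto) (by tauto) e e' (by tauto)
      · exact aux a b d c (by tauto) (by tauto) (by tauto) e (by tauto) e'
    · by_cases e' : w j c ↔ w j a
      · exact aux c d a b (by tauto) (by tauto) (by tauto) (by tauto) e' (by tauto)
      · exact aux c d b a (by tauto) (by tauto) (by tauto) (by tauto) (by tauto) e'
  have k2 := W.card_add_card_compl
  rw [Fintype.card_fin] at k2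
  obtain ⟨o, ho⟩ : ∃ o, ∀ a b, (w j a ↔ w j b) ↔ (a = o ↔ b = o) := by
    by_cases e : W.card = 1
    · obtain ⟨o, rfl⟩ := Finset.card_eq_one.1 e
      exact ⟨o, fun a b => by simp [← hW]⟩
    by_cases e' : Wᶜ.card = 1
    · obtain ⟨o, ho⟩ := Finset.card_eq_one.1 e'
      refine ⟨o, fun a b => ?_⟩
      simp only [← Finset.mem_singleton, ← ho, Finset.mem_compl, hW, not_iff_not]
    exfalso
    choose ι hι using fun p : Fin m × Fin m => h1 (Equiv.swap p.1 p.2) j
    have := Finset.card_le_card_of_injOn (s := W ×ˢ Wᶜ) (t := Finset.univ) ι (by simp) ?_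
    · rw [Finset.card_product, Finset.card_univ, Fintype.card_fin] at this
      rcases k1 with k1 | k1 <;> nlinarith [show 2 ≤ W.card by omega, show 2 ≤ Wᶜ.card by omega]
    rintro ⟨x, y⟩ hp ⟨x', y'⟩ hp' e
    simp only [Finset.coe_product, Set.mem_prod, Finset.mem_coe, Finset.mem_compl, hW] at hp hp'
    obtain ⟨z, hz⟩ := exists_not_mem [x, y, x', y'] (by simp; omega)
    simp only [List.mem_cons, List.not_mem_nil, or_false, not_or] at hz
    have k : ∀ c, w j (Equiv.swap x y c) ↔ w j (Equiv.swap x' y' c) := fun c => by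
      have a1 := hι (x, y) (Equiv.swap x y c) z
      have a2 := hι (x', y') (Equiv.swap x' y' c) z
      rw [Equiv.swap_apply_self, Equiv.swap_apply_of_ne_of_ne hz.1 hz.2.1] at a1
      rw [Equiv.swap_apply_self, Equiv.swap_apply_of_ne_of_ne hz.2.2.1 hz.2.2.2, ← e, ← a1] at a2
      by_cases b : w j z
      · simpa [b] using a2.symm
      · simpa [b, not_iff_not] using a2.symm
    refine Prod.ext (by_contra fun c => ?_) (by_contra fun c => ?_)
    · have := k x
      rw [Equiv.swap_apply_left, Equiv.swap_apply_of_ne_of_ne c (by rintro rfl; exact hp'.2 hp.1)]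
        at this
      exact hp.2 (this.2 hp.1)
    · have := k y
      rw [Equiv.swap_apply_right, Equiv.swap_apply_of_ne_of_ne (by rintro rfl; exact hp.2 hp'.1) c]
        at this
      exact hp.2 (this.1 hp.1)
  choose τ hτ using fun c => h1 (Equiv.swap o c) j
  have k3 : ∀ c a b, (w (τ c) a ↔ w (τ c) b) ↔ (a = c ↔ b = c) := fun c a b => by
    have := hτ c (Equiv.swap o c a) (Equiv.swap o c b)
    rw [Equiv.swap_apply_self, Equiv.swap_apply_self, ho] at this
    simp [← this, Equiv.swap_apply_eq_iff]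
  refine ⟨Equiv.ofBijective τ (Finite.injective_iff_bijective.1 fun c c' e => by_contra fun n => ?_),
    k3⟩
  obtain ⟨z, hz⟩ := exists_not_mem [c, c'] (by simp; omega)
  have a1 := k3 c c z
  rw [e, k3] at a1
  simp at hz
  simp [hz, n] at a1

theorem fr_sl {F : Type*} [Field F] (h2 : (2 : F) ≠ 0) {m : ℕ} (hm : 4 ≤ m)
    {u : Fin m → Fin m → SL(m, F)} (fr : Fr u) : ∃ g, ∀ c d, u c d = g * tm F c d * g⁻¹ := by
  obtain ⟨o⟩ : Nonempty (Fin m) := ⟨⟨0, by omega⟩⟩
  have mu : ∀ a b : SL(m, F), (a * b).1 = a.1 * b.1 := fun _ _ => rfl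
  obtain ⟨g, S, hS⟩ := diag m (by omega) F h2 (Fin m) (fun c => (u o c).1)
    (fun c => congrArg Subtype.val (fr.sq o c)) fun c d => congrArg Subtype.val (fr.comm o c o d)
  have v : ∀ c d, (g⁻¹ * u c d * g).1 = dm F (S c ∆ S d) := fun c d => by
    have k : ∀ c, (g⁻¹ * u o c * g).1 = dm F (S c) := fun c => by
      rw [mu, mu, hS, Matrix.mul_assoc,
        Matrix.mul_assoc, sl_inv_mul, Matrix.mul_one, ← Matrix.mul_assoc, sl_inv_mul, Matrix.one_mul]
    rw [show g⁻¹ * u c d * g = g⁻¹ * u o c * g * (g⁻¹ * u o d * g) by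
      rw [← fr.mul c o d, fr.symm c o]; group, mu, k, k, dm_mul]
  let l : Fin 4 → Fin m := Fin.castLE hm
  have nd : [l 0, l 1, l 2, l 3].Nodup := by simp [l]
  obtain ⟨j, hj⟩ : ((S (l 0) ∆ S (l 1)) ∆ (S (l 2) ∆ S (l 3))).Nonempty :=
    Finset.nonempty_iff_ne_empty.2 fun e => fr.ne4 _ _ _ _ nd (by
      have : g⁻¹ * u (l 0) (l 1) * g * (g⁻¹ * u (l 2) (l 3) * g) = 1 := Subtype.ext (by
        rw [mu, v, v, dm_mul, e, dm_empty]; rfl)
      calc _ = g * (g⁻¹ * u (l 0) (l 1) * g * (g⁻¹ * u (l 2) (l 3) * g)) * g⁻¹ := by group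
        _ = 1 := by rw [this]; group)
  have inv : ∀ (π : Equiv.Perm (Fin m)) j, ∃ i, ∀ c d,
      (j ∈ S c ↔ j ∈ S d) ↔ (i ∈ S (π c) ↔ i ∈ S (π d)) := fun π j => by
    obtain ⟨h, hh⟩ := fr.perm π
    obtain ⟨i, hi⟩ : ∃ i, (g⁻¹ * h * g).1 i j ≠ 0 := by
      by_contra! z
      exact zero_ne_one ((det_eq_zero_of_column_eq_zero j z).symm.trans (g⁻¹ * h * g).2)
    refine ⟨i, fun c d => ?_⟩
    have : g⁻¹ * h * g * (g⁻¹ * u c d * g) = g⁻¹ * u (π c) (π d) * g * (g⁻¹ * h * g) := by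
      rw [← hh]; group
    have := congrFun (congrFun (congrArg Subtype.val this) i) j
    rw [mu, mu _ (g⁻¹ * h * g), v, v, dm, dm,
      mul_diagonal, diagonal_mul, mul_comm] at this
    have e := mul_right_cancel₀ hi this
    have n := neg_one_ne h2
    simp only [Finset.mem_symmDiff] at e
    split_ifs at e with a b
    · tauto
    · exact absurd e n
    · exact absurd e.symm n
    · tauto
  obtain ⟨τ, hτ⟩ := weights (fun i c => i ∈ S c) inv nd (j := j) (by
    simp only [Finset.mem_symmDiff] at hj; tauto)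
  obtain ⟨k, hk⟩ := exists_pm (F := F) (by omega) τ
  refine ⟨g * k, fun c d => ?_⟩
  have : g⁻¹ * u c d * g = k * tm F c d * k⁻¹ := Subtype.ext (by
    rw [v, mu, mu, coe_tm, dm_mul, hk]
    congr 1
    ext i
    obtain ⟨x, rfl⟩ := τ.surjective i
    have := hτ x c d
    simp only [Finset.mem_map_equiv, Equiv.symm_apply_apply, Finset.mem_symmDiff,
      Finset.mem_singleton, eq_comm (a := x)]
    tauto)
  calc _ = g * (g⁻¹ * u c d * g) * g⁻¹ := by group
    _ = _ := by rw [this]; group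

theorem fr_G {P : Par} {m : ℕ} (hm : 4 ≤ m) {s : Fin m → Fin m → P.G m} (fr : Fr s) :
    ∃ g, ∀ c d, s c d = g * P.t c d * g⁻¹ := by
  obtain ⟨g, hg⟩ := fr_sl P.two_ne hm (u := fun c d => (s c d).1)
    ⟨fun a => by rw [fr.self]; rfl, fun a b => by rw [fr.symm], fun a b c => by rw [← fr.mul a b c]; rfl,
      fun a b h e => fr.ne a b h (Subtype.ext e),
      fun a b c d h e => fr.ne4 a b c d h (Subtype.ext e),
      fun π => let ⟨g, h⟩ := fr.perm π; ⟨g.1, fun a b => congrArg Subtype.val (h a b)⟩⟩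
  have k : ∀ c d, ent (s c d) * g.1 = g.1 * (dm P.E {c} * dm P.E {d}) := fun c d =>
    congrArg Subtype.val (show (s c d).1 * g = g * tm P.E c d from eq_mul_inv_iff_mul_eq.1 (hg c d))
  suffices ∃ l : Fin m → P.E, ∏ i, l i = 1 ∧
      (P.x < 0 → (g.1 * diagonal l)ᵀ * (g.1 * diagonal l).map (sg P) = 1) by
    obtain ⟨l, h1, h2⟩ := this
    refine ⟨mkG P _ (by rw [det_mul, g.2, det_diagonal, h1, one_mul]) h2, fun c d =>
      eq_mul_inv_iff_mul_eq.2 (P.ent_inj ?_)⟩
    rw [ent_mul, ent_mul, ent_mkG, ent_t, ← Matrix.mul_assoc, k, dm, dm, diagonal_mul_diagonal,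
      Matrix.mul_assoc, Matrix.mul_assoc, diagonal_mul_diagonal, diagonal_mul_diagonal]
    simp only [mul_comm]
  by_cases hx : P.x < 0
  swap
  · exact ⟨1, by simp, fun h => absurd h hx⟩
  obtain ⟨M, hM⟩ : ∃ M, M = g.1ᵀ * g.1.map (sg P) := ⟨_, rfl⟩
  have dg : M.IsDiag := fun i j hij => by
    obtain ⟨r, hr⟩ := exists_not_mem [i, j] (by simp; omega)
    simp only [List.mem_cons, List.not_mem_nil, or_false, not_or] at hr
    have e : (ent (s i r) * g.1)ᵀ * (ent (s i r) * g.1).map (sg P) = M := by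
      rw [transpose_mul, Matrix.map_mul, Matrix.mul_assoc, ← Matrix.mul_assoc _ _ (g.1.map _),
        uni_ent P _ hx, Matrix.one_mul, hM]
    rw [k, dm_pair _ (Ne.symm hr.1), transpose_mul, Matrix.map_mul, Matrix.mul_assoc,
      ← Matrix.mul_assoc _ _ ((dm _ _).map _), ← hM, dm, diagonal_transpose,
      diagonal_map (map_zero _)] at e
    have := congrFun (congrFun e i) j
    rw [diagonal_mul, mul_diagonal] at this
    simp only [Finset.mem_insert, Finset.mem_singleton, true_or, if_true, hij.symm, Ne.symm hr.2,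
      or_self, if_false, map_one] at this
    exact mul_left_cancel₀ P.two_ne (by linear_combination -this)
  have pm : ∏ i, M i i = 1 := by
    have : M.det = 1 := by
      rw [hM, det_mul, det_transpose, ← RingHom.mapMatrix_apply, ← RingHom.map_det, g.2]; simp
    rwa [← dg.diagonal_diag, det_diagonal] at this
  have ex : ∀ i, ∃ a : P.E, a * sg P a * M i i = 1 := fun i => by
    have n : M i i ≠ 0 := Finset.prod_ne_zero_iff.1 (pm.trans_ne one_ne_zero) i (Finset.mem_univ _)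
    have f : sg P (M i i) = M i i := by
      rw [hM, mul_apply, map_sum]
      refine Finset.sum_congr rfl fun r _ => ?_
      rw [map_mul, mul_comm, map_apply, transpose_apply, sg_apply P hx (sg P _), sg_apply P hx,
        ← pow_mul, ← pow_two, ← card_neg P hx, FiniteField.pow_card]
    obtain ⟨a, ha⟩ := H31.exists_pow_succ_eq (card_neg P hx) (μ := (M i i)⁻¹)
      (by rw [← sg_apply P hx, map_inv₀, f])
    exact ⟨a, by rw [sg_apply P hx, ← pow_succ', ha, inv_mul_cancel₀ n]⟩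
  choose l hl using ex
  have nl : (∏ i, l i) * sg P (∏ i, l i) = 1 := by
    rw [map_prod, ← mul_one (_ * _), ← pm, ← Finset.prod_mul_distrib, ← Finset.prod_mul_distrib]
    simp [hl, pm]
  obtain ⟨o⟩ : Nonempty (Fin m) := ⟨⟨0, by omega⟩⟩
  refine ⟨fun i => l i * if i = o then sg P (∏ i, l i) else 1, by
    rw [Finset.prod_mul_distrib, Finset.prod_ite_eq', if_pos (Finset.mem_univ _), nl], fun _ => ?_⟩
  rw [transpose_mul, Matrix.map_mul, Matrix.mul_assoc, ← Matrix.mul_assoc _ _ ((diagonal _).map _),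
    ← hM, diagonal_transpose, diagonal_map (map_zero _), ← dg.diagonal_diag, diagonal_mul_diagonal,
    diagonal_mul_diagonal, ← diagonal_one]
  congr 1
  funext i
  have a1 := hl i
  have a2 := congrArg (sg P) nl
  rw [map_mul, map_one] at a2
  rw [diag_apply, map_mul]
  split_ifs
  · linear_combination (sg P (∏ i, l i) * sg P (sg P (∏ i, l i))) * a1 + a2
  · rw [map_one]; linear_combination a1

theorem fr : FrStmt.{u} := by
  intro P m hm L _ f hf hk ho s fr
  have ex : ∀ c d, ∃ y, y ^ 2 ^ 1 = 1 ∧ f y = s c d := fun c d => by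
    obtain ⟨y, hy⟩ := hf (s c d)
    obtain ⟨r, hr⟩ := ho
    refine ⟨y ^ Nat.card f.ker, ?_, ?_⟩
    · have : y ^ 2 ∈ f.ker := by rw [MonoidHom.mem_ker, map_pow, hy, pow_two, fr.sq]
      rw [← pow_mul, mul_comm, pow_mul]
      exact congrArg Subtype.val (pow_card_eq_one' (x := (⟨_, this⟩ : f.ker)))
    · rw [map_pow, hy, hr, pow_succ, pow_mul, pow_two, fr.sq, one_pow, one_mul]
  choose u h1 h2 using ex
  obtain ⟨g, hg⟩ := fr_G hm (s := u)
    ⟨fun a => eq_of_odd_ker hk ho (h1 a a) (l := 0) (by simp) (by rw [h2, fr.self, map_one]),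
      fun a b => eq_of_odd_ker hk ho (h1 _ _) (h1 _ _) (by rw [h2, h2, fr.symm]),
      fun a b c => eq_of_odd_ker hk ho (k := 1) (by
        rw [Commute.mul_pow (comm_of_odd_ker hk ho (h1 b c) (by rw [h2, h2, fr.comm])), h1, h1,
          one_mul]) (h1 _ _) (by rw [map_mul, h2, h2, h2, fr.mul]),
      fun a b h e => fr.ne a b h (by rw [← h2, e, map_one]),
      fun a b c d h e => fr.ne4 a b c d h (by rw [← h2, ← h2, ← map_mul, e, map_one]),
      fun π => by
        obtain ⟨x, hx⟩ := fr.perm π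
        obtain ⟨g, rfl⟩ := hf x
        exact ⟨g, fun a b => eq_of_odd_ker hk ho (k := 1) (by rw [conj_pow, h1]; group) (h1 _ _)
          (by rw [map_mul, map_mul, map_inv, h2, h2, hx])⟩⟩
  exact ⟨g, fun c d => by rw [← hg, h2]⟩

end Cfsg.Agent.H1.FU
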