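import Cfsg.Agent.H96.FuLApi
import Cfsg.Agent.H31.HermSU
import Cfsg.Agent.H26.SLBasic
import Cfsg.Agent.H28.Transport
import Cfsg.Agent.S0281

/-!
# Basic facts on `SL_m(q)`, `SU_m(q)` (FL-GF1)
-/

set_option autoImplicit false

namespace Cfsg.Agent.H1.FU

open Matrix Subgroup Cfsg.Agent.H96.FL Cfsg.Agent.H96.FL.Par Cfsg.Agent.H8.GHO
open scoped MatrixGroups commutatorElement

theorem mem_su_iff {n q : ℕ} {F : Type*} [Field F] (σ : F →+* F) (hσ : ∀ x, σ x = x ^ q)
    (A : SL(n, F)) : A ∈ SU n F q ↔ A.1ᵀ * A.1.map σ = 1 := by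
  have e : ∀ x y : Fin n → F, hermForm n F q x y = x ⬝ᵥ (σ ∘ y) := fun x y => by
    simp [hermForm, dotProduct, hσ]
  have e2 : ∀ u v, hermForm n F q (A.1 *ᵥ u) (A.1 *ᵥ v) = (u ᵥ* (A.1ᵀ * A.1.map σ)) ⬝ᵥ (σ ∘ v) :=
    fun u v => by
      rw [e, show σ ∘ (A.1 *ᵥ v) = A.1.map σ *ᵥ (σ ∘ v) from funext (RingHom.map_mulVec σ _ v),
        dotProduct_mulVec, ← vecMul_transpose, vecMul_vecMul]
  refine ⟨fun h => Matrix.ext fun i j => ?_, fun h u v => (e2 u v).trans (by
    rw [h, vecMul_one, e])⟩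
  have := (e2 (Pi.single i 1) (Pi.single j 1)).symm.trans (h (Pi.single i 1) (Pi.single j 1))
  rw [e, show σ ∘ Pi.single j 1 = Pi.single j 1 from funext fun k => by
    simp [Pi.single_apply]] at this
  simpa [Pi.single_apply, Matrix.one_apply, eq_comm] using this

variable (P : Par)

theorem card_neg (h : P.x < 0) : Fintype.card P.E = P.x.natAbs ^ 2 := by
  rcases P.card with ⟨h1, -⟩ | ⟨-, h2⟩
  · omega
  · zify; rw [h2, sq_abs]

theorem three_le : 3 ≤ P.x.natAbs := by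
  have ho := Int.odd_iff.1 P.odd
  rcases P.card with ⟨h1, h2⟩ | ⟨h1, -⟩
  · have : 1 < Fintype.card P.E := Fintype.one_lt_card
    omega
  · have := H31.two_le_of_card_sq (card_neg P h1)
    omega

/-- the field involution in the unitary case. -/
noncomputable def sg : P.E →+* P.E :=
  if h : P.x < 0 then H31.frobQ (card_neg P h) else RingHom.id _

theorem sg_apply (h : P.x < 0) (a : P.E) : sg P a = a ^ P.x.natAbs := by
  rw [sg, dif_pos h]; rfl

theorem mem_G {m : ℕ} {g : SL(m, P.E)} : g ∈ P.G m ↔ (P.x < 0 → g.1ᵀ * g.1.map (sg P) = 1) :=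
  forall_congr' fun h => mem_su_iff _ (sg_apply P h) g

/-- an element of `P.G m` from a matrix. -/
def mkG {m : ℕ} (A : Matrix (Fin m) (Fin m) P.E) (h1 : A.det = 1)
    (h2 : P.x < 0 → Aᵀ * A.map (sg P) = 1) : P.G m := ⟨⟨A, h1⟩, (mem_G P).2 h2⟩

theorem ent_mkG {m : ℕ} (A : Matrix (Fin m) (Fin m) P.E) (h1 : A.det = 1)
    (h2 : P.x < 0 → Aᵀ * A.map (sg P) = 1) : ent (mkG P A h1 h2) = A := rfl

theorem det_ent {m : ℕ} (g : P.G m) : (ent g).det = 1 := g.1.2

theorem uni_ent {m : ℕ} (g : P.G m) (h : P.x < 0) : (ent g)ᵀ * (ent g).map (sg P) = 1 :=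
  (mem_G P).1 g.2 h

theorem gf_emb {k m : ℕ} (e : Fin k ↪ Fin m) : ∃ φ : P.G k →* P.G m,
    (∀ g a b, ent (φ g) (e a) (e b) = ent g a b) ∧ φ.range = P.K (Finset.univ.map e) := by
  let ε : Fin k ⊕ {x // x ∉ Set.range e} ≃ Fin m :=
    (Equiv.sumCongr (Equiv.ofInjective e e.injective) (Equiv.refl _)).trans
      (Equiv.sumCompl (· ∈ Set.range e))
  have h1 : ∀ a, ε (Sum.inl a) = e a := fun _ => rfl
  have h2 : ∀ x, ε (Sum.inr x) ∉ Finset.univ.map e := fun x h => by
    obtain ⟨a, -, ha⟩ := Finset.mem_map.1 h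
    exact x.2 ⟨a, ha⟩
  let M : Matrix (Fin k) (Fin k) P.E → Matrix (Fin m) (Fin m) P.E := fun A =>
    (fromBlocks A 0 0 1).submatrix ε.symm ε.symm
  have m0 : ∀ A i j, M A (ε i) (ε j) = fromBlocks A 0 0 1 i j := fun A i j => by simp [M]
  have m1 : M 1 = 1 := by simp [M]
  have m2 : ∀ A B, M (A * B) = M A * M B := fun A B => by
    simp [M, submatrix_mul_equiv, fromBlocks_multiply]
  have m3 : ∀ A, (M A).det = A.det := fun A => by simp [M]
  have m4 : ∀ A, (M A)ᵀ * (M A).map (sg P) = M (Aᵀ * A.map (sg P)) := fun A => by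
    rw [m2]
    simp [M, fromBlocks_transpose, ← submatrix_map, fromBlocks_map]
  have m5 : ∀ A B, M A = M B → A = B := fun A B h => Matrix.ext fun a b => by
    simpa [m0] using congrFun (congrFun h (ε (Sum.inl a))) (ε (Sum.inl b))
  refine ⟨⟨⟨fun g => mkG P (M (ent g)) (by rw [m3, det_ent]) fun h => by rw [m4, uni_ent P g h, m1],
    P.ent_inj m1⟩, fun a b => P.ent_inj (m2 _ _)⟩, fun g a b => m0 _ (.inl a) (.inl b),
    le_antisymm ?_ fun g hg => ?_⟩
  · rintro _ ⟨g, rfl⟩ i j h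
    obtain ⟨i, rfl⟩ := ε.surjective i
    obtain ⟨j, rfl⟩ := ε.surjective j
    refine (m0 _ i j).trans ?_
    rcases i with a | a <;> rcases j with b | b
    · simp [h1] at h
    · simp
    · simp
    · simp [Matrix.one_apply]
  · have k : M ((ent g).submatrix e e) = ent g := Matrix.ext fun i j => by
      obtain ⟨i, rfl⟩ := ε.surjective i
      obtain ⟨j, rfl⟩ := ε.surjective j
      refine (m0 _ i j).trans ?_
      rcases i with a | a <;> rcases j with b | b
      · rfl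
      · rw [hg _ _ (Or.inr (h2 b))]; simp
      · rw [hg _ _ (Or.inl (h2 a))]; simp
      · rw [hg _ _ (Or.inl (h2 a))]; simp [Matrix.one_apply]
    exact ⟨mkG P ((ent g).submatrix e e) (by rw [← m3, k, det_ent])
      fun h => m5 _ _ (by rw [← m4, k, m1, uni_ent P g h]), P.ent_inj k⟩

theorem gf_sw {m : ℕ} (c d : Fin m) (h : c ≠ d) : ∃ w ∈ P.K {c, d}, w * w = P.t c d ∧
    (∀ e, w * P.cj {e} w⁻¹ = P.t (Equiv.swap c d e) e) ∧
    (∀ a b, w * P.t a b * w⁻¹ = P.t (Equiv.swap c d a) (Equiv.swap c d b)) ∧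
    ∀ S, Nrm w (P.K S) (P.K (S.map (Equiv.swap c d).toEmbedding)) := by
  obtain ⟨Q, hQ⟩ : ∃ Q, Q = (Equiv.swap c d).permMatrix P.E := ⟨_, rfl⟩
  have q1 : ∀ A : Matrix (Fin m) (Fin m) P.E,
      Q * A * Q = A.submatrix (Equiv.swap c d) (Equiv.swap c d) := fun A => by
    rw [hQ, PEquiv.toMatrix_toPEquiv_mul, PEquiv.mul_toMatrix_toPEquiv]
    rfl
  have q2 : Q * Q = 1 := by simpa using q1 1
  have q3 : ∀ e, Q * dm P.E {e} * Q = dm P.E {Equiv.swap c d e} := fun e => by
    rw [q1]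
    ext i j
    simp [dm_apply, Equiv.swap_apply_eq_iff]
  have q4 : ∀ e, dm P.E {c} * dm P.E {e} * dm P.E {c} = dm P.E {e} := fun e => by
    rw [dm_comm _ {c}, mul_assoc, dm_sq, mul_one]
  let w : P.G m := mkG P (Q * dm P.E {c}) (by
      rw [det_mul, det_dm, hQ, det_permutation, Equiv.Perm.sign_swap h]; simp) fun _ => by
    have a1 : Q.map (sg P) = Q := by
      rw [hQ]; ext i j; simp [PEquiv.toMatrix_apply, apply_ite]
    have a2 : (dm P.E {c}).map (sg P) = dm P.E {c} := by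
      ext i j; rw [map_apply, dm_apply]; split_ifs <;> simp
    have a3 : Qᵀ = Q := by rw [hQ, transpose_permMatrix, Equiv.swap_inv]
    rw [transpose_mul, Matrix.map_mul, a1, a2, a3, dm, diagonal_transpose, ← dm, mul_assoc,
      ← mul_assoc Q, q2, one_mul, dm_sq]
  have w1 : ent w = Q * dm P.E {c} := rfl
  have w2 : ent w⁻¹ = dm P.E {c} * Q := left_inv_eq_right_inv (a := ent w)
    (by rw [← ent_mul, inv_mul_cancel, ent_one])
    (by rw [w1, mul_assoc, ← mul_assoc (dm _ _), dm_sq, one_mul, q2])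
  have w3 : ∀ e, ent w * dm P.E {e} * ent w⁻¹ = dm P.E {Equiv.swap c d e} := fun e => by
    rw [w1, w2, ← q3]
    nth_rewrite 2 [← q4 e]
    simp only [mul_assoc]
  refine ⟨w, fun i j hij => ?_, P.ent_inj ?_, fun e => P.ent_inj ?_, fun a b => P.ent_inj ?_,
    fun S g hg i j hij => ?_⟩
  · rw [w1, dm, mul_diagonal, hQ, Matrix.one_apply]
    simp only [Finset.mem_insert, Finset.mem_singleton, not_or] at hij
    rcases hij with k | k
    · by_cases e : i = j
      · simp [← e, k, Equiv.swap_apply_of_ne_of_ne k.1 k.2]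
      · simp [e, Equiv.swap_apply_of_ne_of_ne k.1 k.2]
    · simp [k, Equiv.swap_apply_eq_iff, Equiv.swap_apply_of_ne_of_ne k.1 k.2]
  · rw [ent_mul, w1, ← mul_assoc, q3, Equiv.swap_apply_left, ent_t, dm_comm]
  · rw [ent_mul, ent_cj, ← mul_assoc, ← mul_assoc, w3, ent_t]
  · rw [ent_mul, ent_mul, ent_t, ent_t, ← w3, ← w3]
    simp only [mul_assoc]
    rw [← mul_assoc (ent w⁻¹), ← ent_mul, inv_mul_cancel, ent_one, one_mul]
  · have : ent (w * g * w⁻¹) = Q * ent (P.cj {c} g) * Q := by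
      rw [ent_mul, ent_mul, w1, w2, ent_cj]; simp only [mul_assoc]
    rw [this, q1, submatrix_apply, P.cj_mem_K {c} hg _ _ (by simpa using hij)]
    simp [Matrix.one_apply]

theorem qs_of {G : Type*} [Group G] (h : commutator G = ⊤) [IsSimpleGroup (G ⧸ center G)]
    (N : Subgroup G) (hN : N.Normal) : N ≤ center G ∨ N = ⊤ := by
  refine ((hN.map (QuotientGroup.mk' (center G))
    (QuotientGroup.mk'_surjective _)).eq_bot_or_eq_top).imp (fun k => ?_) fun k => ?_
  · rwa [Subgroup.map_eq_bot_iff, QuotientGroup.ker_mk'] at k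
  · have k1 : ∀ g, ∃ a ∈ N, ∃ z ∈ center G, g = a * z := fun g => by
      obtain ⟨a, ha, e⟩ := k.ge (mem_top (g : G ⧸ center G))
      exact ⟨a, ha, a⁻¹ * g, QuotientGroup.eq.1 e, by group⟩
    rw [eq_top_iff, ← h]
    refine commutator_le.2 fun x _ y _ => ?_
    obtain ⟨a, ha, z, hz, rfl⟩ := k1 x
    have : ⁅a * z, y⁆ = a * (y * a⁻¹ * y⁻¹) := by
      rw [commutatorElement_def, mul_assoc a z, ← mem_center_iff.1 hz y]; group
    rw [this]
    exact N.mul_mem ha (hN.conj_mem _ (N.inv_mem ha) y)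

theorem gf1 : GF1 P := by
  have h3 := three_le P
  have main : ∀ m, 3 ≤ m → commutator (P.G m) = ⊤ ∧ IsSimpleGroup (P.G m ⧸ center (P.G m)) := by
    intro m hm
    rcases P.card with ⟨h1, -⟩ | ⟨h1, -⟩
    · have : Nontrivial (Fin m) := Fin.nontrivial_iff_two_le.2 (by omega)
      have a1 := H26.sl_commutator_eq_top (ι := Fin m) (F := P.E) (Or.inl (by simpa using hm))
      have a2 := H26.psl_isSimpleGroup (ι := Fin m) (F := P.E) (Or.inl (by simpa using hm))
      rw [P.G_top h1]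
      refine ⟨?_, (H31.quotientCenterCongr topEquiv).isSimpleGroup⟩
      rw [← map_subtype_inj, map_subtype_commutator, ← commutator_def, a1,
        ← MonoidHom.range_eq_map, range_subtype]
    · rw [P.G_SU h1]
      exact ⟨H31.commutator_SU (card_neg P h1) hm (by omega),
        H31.isSimpleGroup_PSU (card_neg P h1) hm (by omega)⟩
  refine ⟨gf_emb P, fun m hm => (main m hm).1, fun m hm N hN => ?_, fun m hm g => ?_,
    fun m hm => ?_, ?_, gf_sw P⟩
  · have := (main m hm).2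
    exact qs_of (main m hm).1 N hN
  · refine ⟨fun h => ?_, fun ⟨a, h⟩ => mem_center_iff.2 fun y => P.ent_inj (by
      simp [ent_mul, h])⟩
    rcases P.card with ⟨h1, -⟩ | ⟨h1, -⟩
    · obtain ⟨a, -, ha⟩ := (Matrix.SpecialLinearGroup.mem_center_iff (A := g.1)).1
        (mem_center_iff.2 fun y => congrArg Subtype.val
          (mem_center_iff.1 h ⟨y, (P.G_top h1 m).ge (mem_top y)⟩))
      exact ⟨a, by rw [ent, ← ha, scalar_apply, smul_one_eq_diagonal]⟩
    · exact (H31.mem_center_SU_iff (card_neg P h1) hm (g := ⟨g.1, g.2 h1⟩)).1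
        (mem_center_iff.2 fun y => Subtype.ext (congrArg (Subtype.val : P.G m → _)
          (mem_center_iff.1 h ⟨y, fun _ => y.2⟩)))
  · rcases P.card with ⟨h1, h2⟩ | ⟨h1, -⟩
    · have : Nonempty (Fin m) := ⟨⟨0, by omega⟩⟩
      rw [P.G_top h1, H31.card_center_congr topEquiv, H26.card_center_sl, Fintype.card_fin,
        Nat.card_eq_fintype_card, ← h2, ← Int.gcd_natCast_natCast,
        Nat.cast_sub Fintype.card_pos, Nat.cast_one]
    · rw [P.G_SU h1, H31.card_center_SU (card_neg P h1) hm, ← Int.gcd_natCast_natCast,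
        ← Int.gcd_neg]
      congr 1
      omega
  · rcases P.card with ⟨h1, h2⟩ | ⟨h1, -⟩
    · exact ⟨P.E, _, _, by omega, ⟨(MulEquiv.subgroupCongr (P.G_top h1 2)).trans topEquiv⟩⟩
    · have hE := card_neg P h1
      obtain ⟨p, r, hp, hr, e⟩ := (isPrimePow_nat_iff _).1 ((isPrimePow_pow_iff two_ne_zero).1
        (hE ▸ Fintype.isPrimePow_card_of_field))
      have := Fact.mk hp
      let _ := Fintype.ofFinite (GaloisField p r)
      have hK : Fintype.card (GaloisField p r) = P.x.natAbs := by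
        rw [← Nat.card_eq_fintype_card, GaloisField.card p r hr.ne', e]
      obtain ⟨f⟩ := S0281.result hE hK
      exact ⟨_, _, _, hK, ⟨(MulEquiv.subgroupCongr (P.G_SU h1 2)).trans f⟩⟩

end Cfsg.Agent.H1.FU
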