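import Cfsg.Agent.H96.FuLDefs
import Cfsg.Agent.H80.SLnMult
import Cfsg.Agent.H80.FrameUnit
import Cfsg.Agent.H3.Cores
import Cfsg.Agent.S2090

/-!
# Lifting homomorphisms from `SL_m(q)`, `SU_m(q)` along central extensions (FL-ID, FL-LIFT)
-/

set_option autoImplicit false

namespace Cfsg.Agent.H1.FU

open Subgroup Cfsg.Agent.H96.FL Cfsg.Agent.H80
open scoped MatrixGroups

universe u

/-- a perfect group with multiplier of odd order lifts along central extensions by 2-groups. -/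
theorem lift_two {G A : Type*} [Group G] [Group.IsPerfect G] [CommGroup A]
    (hG : HasSchurMultiplier G A) (ho : Odd (Nat.card A)) {Q : Type*} [Group Q] (π : G →* Q)
    {X : Type*} [Group X] {ξ : X →* Q} (hξ : IsCentralExt ξ) (h2 : IsPGroup 2 ξ.ker) :
    ∃ η : G →* X, ξ.comp η = π := by
  have hP := hξ.pullbackFst π
  obtain ⟨s, hs⟩ := exists_surjective_stemKer hG hP
  let f : commutator (pullback π ξ) →* G := (pullbackFst π ξ).comp (commutator _).subtype
  have hinj : Function.Injective f := by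
    rw [injective_iff_map_eq_one]
    intro x hx
    obtain ⟨a, ha⟩ := hs ⟨x, hx, x.2⟩
    have h1 : x.1 ^ Nat.card A = 1 := by
      rw [show x.1 = (s a).1 from (congrArg Subtype.val ha).symm, ← coe_pow, ← map_pow,
        pow_card_eq_one', map_one, coe_one]
    have hx1 : x.1.1.1 = 1 := hx
    obtain ⟨k, hk⟩ := h2 ⟨x.1.1.2, by
      rw [MonoidHom.mem_ker, ← mem_pullback.1 x.1.2, hx1, map_one]⟩
    have h3 : x.1 ^ 2 ^ k = 1 := Subtype.ext (Prod.ext (by simp [hx1]) (congrArg Subtype.val hk))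
    exact Subtype.ext (eq_one_of_pow_coprime h3 h1
      (Nat.Coprime.pow_left k (Nat.coprime_two_left.2 ho)))
  let e := MulEquiv.ofBijective f ⟨hinj, hP.commutator_restrict.surj⟩
  refine ⟨((pullbackSnd π ξ).comp (commutator _).subtype).comp e.symm.toMonoidHom, ?_⟩
  ext g
  obtain ⟨y, rfl⟩ := e.surjective g
  simp only [MonoidHom.comp_apply, MulEquiv.coe_toMonoidHom, MulEquiv.symm_apply_apply]
  exact (mem_pullback.1 y.1.2).symm

theorem mult_one (P : Par) {m : ℕ} (hm : 4 ≤ m) (h : ¬ (m = 4 ∧ P.x = -3)) :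
    HasCyclicSchurMultiplier (P.G m) 1 := by
  have ho := Int.odd_iff.1 P.odd
  rcases P.card with ⟨h1, h2⟩ | ⟨h1, h2⟩
  · refine hasSchurMultiplier_congr_left (multiplier_SL (K := P.E) (n := m) (by omega) ?_)
      (topEquiv.symm.trans (MulEquiv.subgroupCongr (P.G_top h1 m).symm))
    simp only [Set.mem_insert_iff, Set.mem_singleton_iff, Prod.mk.injEq, Nat.card_eq_fintype_card]
    omega
  · have hF : Fintype.card P.E = P.x.natAbs ^ 2 := by
      zify; rw [h2, sq_abs]
    have h3 := H31.two_le_of_card_sq hF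
    have h4 : ¬ (m = 3 ∧ P.x.natAbs = 2) := by omega
    exact hasSchurMultiplier_congr_left (multiplier_su hF (by omega) h4 (by omega) (by omega))
      ((H78.suE hF h4).trans (MulEquiv.subgroupCongr (P.G_SU h1 m).symm))

theorem mult_odd {P : Par} (hG : GF1 P) {m : ℕ} (hm : 4 ≤ m) :
    ∃ (A : Type) (_ : CommGroup A), HasSchurMultiplier (P.G m) A ∧ Odd (Nat.card A) := by
  by_cases h : m = 4 ∧ P.x = -3
  swap
  · exact ⟨_, _, mult_one P hm h, by simp⟩
  obtain ⟨rfl, hx⟩ := h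
  obtain ⟨A, _, hA⟩ := exists_hasSchurMultiplier (P.G 4)
  refine ⟨A, _, hA, ?_⟩
  obtain ⟨Γ, _, _, σ, hσ, ⟨e⟩⟩ := hA.1
  have : Group.IsPerfect (P.G 4) := ⟨hG.perf 4 (by omega)⟩
  have := isPerfect_of_stem hσ
  have hE : Fintype.card P.E = 9 := by
    rcases P.card with ⟨h1, -⟩ | ⟨-, h2⟩
    · omega
    · rw [hx] at h2; omega
  have e1 : P.G 4 = SU 4 P.E 3 := by rw [P.G_SU (by omega), hx]; rfl
  have hM : HasSchurMultiplier (P.G 4 ⧸ center (P.G 4))
      (Multiplicative (ZMod 4 × ZMod 3 × ZMod 3)) := by rw [e1]; exact S2090.result hE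
  have k := isStemExtension_of_perfect ((IsCentralExt.of_stem hσ).comp_of_perfect
    (ξ := QuotientGroup.mk' (center (P.G 4)))
    ⟨QuotientGroup.mk'_surjective _, (QuotientGroup.ker_mk' _).le⟩)
  obtain ⟨s, hs⟩ := exists_surjective_ker_of_stem hM k
  have d := card_dvd_of_surjective s hs
  rw [← MonoidHom.comap_ker, QuotientGroup.ker_mk', H3.card_comap_of_surjective hσ.1,
    hG.cardZ 4 (by omega), hx, Nat.card_congr e.toEquiv] at d
  have d' : Nat.card A * 4 ∣ 9 * 4 := by simpa using d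
  exact Odd.of_dvd_nat (by decide) (Nat.dvd_of_mul_dvd_mul_right (by omega) d')

theorem lift (hG : ∀ P, GF1 P) : LiftStmt.{u} := by
  intro P m hm h L Y _ _ _ π f hπ hf
  have : Group.IsPerfect (P.G m) := ⟨(hG P).perf m (by omega)⟩
  obtain ⟨g, hg⟩ := exists_lift_of_perfect_of_trivial (mult_one P hm h)
    (f.codRestrict π.range fun x => hf ⟨x, rfl⟩) (ξ := π.rangeRestrict)
    ⟨π.rangeRestrict_surjective, by rwa [MonoidHom.ker_rangeRestrict]⟩
  exact ⟨g, MonoidHom.ext fun x => congrArg Subtype.val (DFunLike.congr_fun hg x)⟩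

theorem idS (hG : ∀ P, GF1 P) : IdStmt.{u} := by
  rintro P m hm L _ _ hL h2 ⟨e⟩
  have : Group.IsPerfect (P.G m) := ⟨(hG P).perf m (by omega)⟩
  obtain ⟨A, _, hA, ho⟩ := mult_odd (hG P) hm
  let ξ : L →* P.G m ⧸ center (P.G m) := e.toMonoidHom.comp (QuotientGroup.mk' (center L))
  have h1 : Function.Surjective ξ := e.surjective.comp (QuotientGroup.mk'_surjective _)
  have h3 : ξ.ker ≤ center L := fun x hx =>
    (QuotientGroup.eq_one_iff x).1 (e.map_eq_one_iff.1 hx)
  obtain ⟨η, hη⟩ := lift_two hA ho (QuotientGroup.mk' (center (P.G m))) ⟨h1, h3⟩ (h2.to_le h3)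
  refine ⟨η, surjective_of_stem ⟨h1, h3, hL ▸ le_top⟩ fun x => ?_, fun x hx => ?_⟩
  · obtain ⟨g, hg⟩ := QuotientGroup.mk'_surjective _ (ξ x)
    exact ⟨g, by rw [← hg, ← hη]; rfl⟩
  · rw [← QuotientGroup.eq_one_iff, ← QuotientGroup.mk'_apply, ← hη, MonoidHom.comp_apply,
      show η x = 1 from hx, map_one]

end Cfsg.Agent.H1.FU
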