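import Cfsg.Agent.H1.FuAl
import Cfsg.Agent.H8.SylowIn
import Cfsg.Agent.H3.Cores
import Cfsg.Prelude.Def_TwoFusion
import Mathlib.GroupTheory.Focal

/-!
# Small tools for fusion equivalences: focal induction, restriction to normal subgroups,
odd elements modulo a normal subgroup
-/

set_option autoImplicit false

namespace Cfsg.Agent.H1.FU

open Subgroup Cfsg.Agent.H8
open scoped commutatorElement Pointwise

variable {X G H K P : Type*} [Group X] [Group G] [Group H] [Group K] [Group P]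

theorem ME.conj {α : X →* G} {β : X →* H} (h : ME α β) {x y : X} {g : G}
    (e : α y = g * α x * g⁻¹) : ∃ k, β y = k * β x * k⁻¹ := by
  obtain ⟨k, -, hk⟩ := (h.fus {(x, y)}).1 ⟨g, mem_top _, by rintro _ rfl; exact e⟩
  exact ⟨k, hk _ rfl⟩

theorem ME.sc {α : X →* G} {β : X →* H} (h : ME α β) (A : Subgroup H) [hA : A.Normal] :
    IsStronglyClosed ((A.comap β).map α) α.range := by
  refine ⟨map_le_range _ _, ?_⟩
  rintro _ ⟨x, hx, rfl⟩ g ⟨y, hy⟩
  obtain ⟨k, hk⟩ := h.conj hy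
  exact ⟨y, show β y ∈ A from hk ▸ hA.conj_mem _ hx k, hy⟩

theorem cj_res {Y : Type*} {i : K →* G} (hi : Function.Injective i) {α₀ : Y → K} {γ : Y → G}
    (hc : ∀ y, i (α₀ y) = γ y) (R : Set (Y × Y)) : Cj i.range γ R ↔ Cj ⊤ α₀ R := by
  constructor
  · rintro ⟨_, ⟨g, rfl⟩, h⟩
    exact ⟨g, mem_top _, fun p hp => hi (by simp [hc, h p hp])⟩
  · rintro ⟨g, -, h⟩
    exact ⟨i g, ⟨g, rfl⟩, fun p hp => by rw [← hc, ← hc, h p hp]; simp⟩

/-- a Sylow subgroup of a product of normal subgroups. -/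
theorem syl_mul [Finite G] (S : Sylow 2 G) (A B : Subgroup G) [A.Normal] [B.Normal] {s : G}
    (hs : s ∈ (S : Subgroup G)) (h : s ∈ A ⊔ B) :
    ∃ a ∈ (S : Subgroup G) ⊓ A, ∃ b ∈ (S : Subgroup G) ⊓ B, s = a * b := by
  have k := (isSylowIn_inf_normal S A).map (QuotientGroup.mk' B)
  have e := k.eq_of_le (Q := (S : Subgroup G).map (QuotientGroup.mk' B) ⊓
    A.map (QuotientGroup.mk' B)) ((S.isPGroup'.map _).to_inf_left) inf_le_right
    (le_inf (map_mono inf_le_left) (map_mono inf_le_right))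
  have m : QuotientGroup.mk' B s ∈ (S : Subgroup G).map (QuotientGroup.mk' B) ⊓
      A.map (QuotientGroup.mk' B) := by
    refine ⟨mem_map_of_mem _ hs, ?_⟩
    obtain ⟨a, ha, b, hb, rfl⟩ := mem_sup_of_normal_right.1 h
    refine ⟨a, ha, ?_⟩
    simp [(QuotientGroup.eq_one_iff b).2 hb]
  rw [e] at m
  obtain ⟨a, ha, e⟩ := m
  exact ⟨a, ha, a⁻¹ * s, ⟨(S : Subgroup G).mul_mem ((S : Subgroup G).inv_mem ha.1) hs, QuotientGroup.eq.1 e⟩, by group⟩

/-- the focal subgroup theorem as an induction principle. -/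
theorem foc_ind [Finite G] {α : X →* G} (hα : Function.Injective α)
    (hS : ∃ S : Sylow 2 G, (S : Subgroup G) = α.range) (B : Subgroup X)
    (hB : ∀ x y g, α y = g * α x * g⁻¹ → x * y⁻¹ ∈ B) {x : X} (hx : α x ∈ commutator G) :
    x ∈ B := by
  obtain ⟨S, hS⟩ := hS
  have m : α x ∈ commutator G ⊓ (S : Subgroup G) := ⟨hx, hS ▸ ⟨x, rfl⟩⟩
  rw [commutator_inf_eq_focalSubgroup, focalSubgroup_def] at m
  have le : closure {g | g ∈ (S : Subgroup G) ∧ ∃ x ∈ (S : Subgroup G), ∃ u : G, g = ⁅x, u⁆} ≤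
      B.map α := by
    rw [closure_le, hS]
    rintro _ ⟨⟨c, hc⟩, _, ⟨a, rfl⟩, u, rfl⟩
    refine ⟨a * (c⁻¹ * a)⁻¹, hB a (c⁻¹ * a) u ?_, ?_⟩
    · rw [map_mul, map_inv, hc, commutatorElement_def]; group
    · rw [← hc]; congr 1; group
  obtain ⟨y, hy, e⟩ := le m
  exact hα e ▸ hy

/-- restriction to a normal subgroup. -/
theorem syl_res [Finite G] {α : X →* G} (hα : Function.Injective α)
    (hS : ∃ S : Sylow 2 G, (S : Subgroup G) = α.range) {i : K →* G} (hi : Function.Injective i)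
    [i.range.Normal] (Q : Subgroup X) (hQ : ∀ x, x ∈ Q ↔ α x ∈ i.range) :
    ∃ α₀ : Q →* K, (∀ y, i (α₀ y) = α y) ∧ Function.Injective α₀ ∧
      ∃ S : Sylow 2 K, (S : Subgroup K) = α₀.range := by
  obtain ⟨S, hS⟩ := hS
  let e := MonoidHom.ofInjective hi
  let α₀ : Q →* K := e.symm.toMonoidHom.comp
    ((α.comp Q.subtype).codRestrict i.range fun y => (hQ y).1 y.2)
  have hc : ∀ y, i (α₀ y) = α y := fun y =>
    MonoidHom.apply_ofInjective_symm hi ⟨α y, (hQ y).1 y.2⟩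
  refine ⟨α₀, hc, fun a b h => Subtype.ext (hα (by rw [← hc, ← hc, h])), ?_⟩
  have hs : Function.Surjective e.symm.toMonoidHom := e.symm.surjective
  refine ⟨(isSylowIn_inf_normal S i.range).toSylow.mapSurjective hs, ?_⟩
  rw [Sylow.coe_mapSurjective, IsSylowIn.coe_toSylow]
  ext k
  constructor
  · rintro ⟨⟨g, hg⟩, ⟨h1, -⟩, rfl⟩
    obtain ⟨x, rfl⟩ : g ∈ α.range := hS ▸ h1
    exact ⟨⟨x, (hQ x).2 hg⟩, rfl⟩
  · rintro ⟨y, rfl⟩
    exact ⟨⟨α y, (hQ y).1 y.2⟩, ⟨hS ▸ ⟨y, rfl⟩, (hQ y).1 y.2⟩, rfl⟩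

theorem aut_pow [Finite P] (hP : IsPGroup 2 P) (Z : Subgroup P) [Z.Normal]
    (hA : IsPGroup 2 (MulAut (P ⧸ Z))) (θ : MulAut P) (hθ : ∀ z ∈ Z, θ z = z) :
    ∃ r, θ ^ 2 ^ r = 1 := by
  have hz : Z.map (θ : P →* P) = Z := by
    ext z
    constructor
    · rintro ⟨y, hy, rfl⟩
      exact (hθ y hy).symm ▸ hy
    · exact fun h => ⟨z, h, hθ z h⟩
  let τ : MulAut (P ⧸ Z) := QuotientGroup.congr Z Z θ hz
  have h1 : ∀ (k : ℕ) (x : P), (τ ^ k) (x : P ⧸ Z) = ((θ ^ k) x : P) := by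
    intro k
    induction k with
    | zero => intro x; rfl
    | succ k ih => intro x; rw [pow_succ', pow_succ', MulAut.mul_apply, MulAut.mul_apply, ih]; rfl
  have h0 : ∀ (k : ℕ), ∀ z ∈ Z, (θ ^ k) z = z := by
    intro k z hz
    induction k with
    | zero => rfl
    | succ k ih => rw [pow_succ', MulAut.mul_apply, ih, hθ z hz]
  obtain ⟨a, ha⟩ := hA τ
  obtain ⟨b, hb⟩ := hP.exists_card_eq
  refine ⟨a + b, MulEquiv.ext fun x => ?_⟩
  have m : x⁻¹ * (θ ^ 2 ^ a) x ∈ Z := QuotientGroup.eq.1 (by rw [← h1, ha]; rfl)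
  have it : ∀ k : ℕ, ((θ ^ 2 ^ a) ^ k) x = x * (x⁻¹ * (θ ^ 2 ^ a) x) ^ k := by
    intro k
    induction k with
    | zero => simp
    | succ k ih =>
      rw [pow_succ', MulAut.mul_apply, ih, map_mul, h0 _ _ (Z.pow_mem m k), pow_succ' _ k,
        ← mul_assoc x, mul_inv_cancel_left]
  rw [pow_add, pow_mul, it, ← hb, pow_card_eq_one', mul_one]
  rfl

/-- odd elements modulo `K'` centralize `γ P`. -/
theorem odd_mod [Finite G] [Finite P] (hP : IsPGroup 2 P) (Z : Subgroup P) [Z.Normal]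
    (hA : IsPGroup 2 (MulAut (P ⧸ Z))) {γ : P →* G} (hγ : Function.Injective γ)
    (hZ : ∀ z ∈ Z, γ z ∈ center G) (K' : Subgroup G) [hK : K'.Normal]
    (hF : ∀ g, ∃ k ∈ K', ∃ n ∈ normalizer (γ.range : Set G), g = k * n) (h : G)
    (ho : Odd (orderOf h)) : ∃ k ∈ K', ∃ c, (∀ y, c * γ y = γ y * c) ∧ h = k * c := by
  obtain ⟨k, hk, n, hn, e⟩ := hF h
  let ε := MonoidHom.ofInjective hγ
  let θ : MulAut P := MulAut.congr ε.symm (γ.range.normalizerMonoidHom ⟨n, hn⟩)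
  have h1 : ∀ x, γ (θ x) = n * γ x * n⁻¹ := fun x =>
    MonoidHom.apply_ofInjective_symm hγ _
  have h2 : ∀ (j : ℕ) x, γ ((θ ^ j) x) = n ^ j * γ x * (n ^ j)⁻¹ := by
    intro j x
    induction j with
    | zero => simp
    | succ j ih => rw [pow_succ', MulAut.mul_apply, h1, ih, pow_succ']; group
  obtain ⟨r, hr⟩ := aut_pow hP Z hA θ fun z hz => hγ (by
    rw [h1, mem_center_iff.1 (hZ z hz) n]; group)
  have hc : Nat.Coprime (2 ^ r) (orderOf h) :=
    Nat.Coprime.pow_left _ ((Nat.coprime_two_left).2 ho)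
  have ht : 0 < Nat.totient (orderOf h) := Nat.totient_pos.2 ho.pos
  have e1 : h ^ (2 ^ r) ^ Nat.totient (orderOf h) = h := by
    rw [(pow_eq_pow_iff_modEq (x := h)).2 (Nat.ModEq.pow_totient hc), pow_one]
  obtain ⟨c, hc⟩ := dvd_pow_self (2 ^ r) ht.ne'
  refine ⟨h * (n ^ (2 ^ r * c))⁻¹, ?_, n ^ (2 ^ r * c), fun y => ?_, by group⟩
  · have : ((h : G) : G ⧸ K') = n := by
      rw [e, QuotientGroup.mk_mul, (QuotientGroup.eq_one_iff k).2 hk, one_mul]
    rw [← QuotientGroup.eq_one_iff, QuotientGroup.mk_mul, QuotientGroup.mk_inv,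
      QuotientGroup.mk_pow, ← this, ← QuotientGroup.mk_pow, ← hc, e1, mul_inv_cancel]
  · have := h2 (2 ^ r * c) y
    rw [pow_mul θ, hr, one_pow, MulAut.one_apply] at this
    rw [eq_mul_inv_iff_mul_eq] at this
    exact this.symm

/-- Frattini argument for a strongly closed subgroup. -/
theorem frattini_sc [Finite G] (S : Sylow 2 G) {Q : Subgroup G}
    (hQ : IsStronglyClosed Q (S : Subgroup G)) (K' : Subgroup G) [K'.Normal] (h : Q ≤ K') (g : G) :
    ∃ k ∈ K', ∃ n ∈ normalizer (Q : Set G), g = k * n := by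
  obtain ⟨k, hk, n, hn, e⟩ := (isSylowIn_inf_normal S K').frattini (g := g)
    (by rw [normalizer_eq_top]; exact mem_top g)
  refine ⟨k, hk, n, mem_normalizer_of_conj_smul_le ?_, e⟩
  rintro _ ⟨x, hx, rfl⟩
  exact hQ.2 x hx n ((mem_normalizer_iff.1 hn x).1 ⟨hQ.1 hx, h hx⟩).1

theorem eq_bot_of_inf [Finite G] (hO : pPrimeCore 2 G = ⊥) (S : Sylow 2 G) (A : Subgroup G)
    [hA : A.Normal] (h : (S : Subgroup G) ⊓ A = ⊥) : A = ⊥ := by
  have k := (isSylowIn_inf_normal S A).not_dvd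
  rw [h, relIndex_bot_left] at k
  exact H3.pPrimeCore_eq_bot_iff.1 hO A hA ((Nat.prime_two.coprime_iff_not_dvd.2 k).symm)

theorem center_two [Finite G] (hO : pPrimeCore 2 G = ⊥) : IsPGroup 2 (center G) := by
  rintro ⟨z, hz⟩
  obtain ⟨a, o, ho, e⟩ := Nat.exists_eq_two_pow_mul_odd (orderOf_pos z).ne'
  have le : zpowers (z ^ 2 ^ a) ≤ center G := zpowers_le.2 (pow_mem hz _)
  have hn : (zpowers (z ^ 2 ^ a)).Normal := ⟨fun b hb g => by
    rw [mem_center_iff.1 (le hb) g]; simpa using hb⟩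
  have := H3.pPrimeCore_eq_bot_iff.1 hO _ hn (by
    rw [Nat.card_zpowers]
    refine Nat.coprime_two_right.2 (Odd.of_dvd_nat ho (orderOf_dvd_of_pow_eq_one ?_))
    rw [← pow_mul, ← e, pow_orderOf_eq_one])
  exact ⟨a, Subtype.ext (zpowers_eq_bot.1 this)⟩

end Cfsg.Agent.H1.FU
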