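import Cfsg.Agent.H1.FuAct

/-!
# Local facts for the signalizer functor argument (FL-LD)
-/

set_option autoImplicit false

namespace Cfsg.Agent.H1.FU

open Subgroup Cfsg.Agent.H96.FL Cfsg.Agent.H96.FL.Par Cfsg.Agent.H8.GHO Cfsg.Agent.H18.SC
open scoped commutatorElement

universe u

variable {P : Par} {n m : ℕ} {G Y : Type*} [Group G] [Group Y] {t : Fin n → Fin n → G}
  {a b : Fin n} {e : Fin m → Fin n} {p : G → Y} {f : P.G m →* Y}

theorem mem_Fx_iff {S : Finset (Fin m)} {g : P.G m} :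
    g ∈ P.Fx S ↔ ∀ i j, i ∈ S → j ∉ S → ent g i j = 0 ∧ ent g j i = 0 := by
  have k : ∀ x : P.E, -x = x → x = 0 := fun x hx =>
    (mul_eq_zero.1 (show 2 * x = 0 by linear_combination -hx)).resolve_left P.two_ne
  constructor
  · intro h i j hi hj
    have h1 := P.ent_cj_apply S g
    rw [show P.cj S g = g from h] at h1
    exact ⟨k _ (by simpa [hi, hj] using (h1 i j).symm), k _ (by simpa [hi, hj] using (h1 j i).symm)⟩
  · intro h
    refine P.ent_inj (Matrix.ext fun i j => ?_)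
    change ent (P.cj S g) i j = ent g i j
    rw [P.ent_cj_apply]
    by_cases hi : i ∈ S <;> by_cases hj : j ∈ S
    · simp [hi, hj]
    · simp [(h i j hi hj).1]
    · simp [(h j i hj hi).2]
    · simp [hi, hj]

theorem K_le_comm (hG : GF3 P) (hm : 4 ≤ m) {S : Finset (Fin m)} {i j : Fin m} (h : i ≠ j)
    (hS : i ∈ S ↔ j ∈ S) : P.K {i, j} ≤ ⁅P.Fx S, P.Fx S⁆ := by
  obtain ⟨l, l1, l2, -⟩ := exists_ne3 hm i j i
  have : P.K {i, j, l} ⊓ P.Fx {l} ≤ P.Fx S := fun g ⟨g1, g2⟩ => by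
    have k : ∀ x y, (x ∈ S ↔ y ∉ S) → ent g x y = 0 := fun x y hxy => by
      have c : x ≠ y := fun c => by simp [c] at hxy
      by_cases c1 : x = l
      · exact (mem_Fx_iff.1 g2 x y (by simp [c1]) (by simpa [← c1] using c.symm)).1
      by_cases c2 : y = l
      · exact (mem_Fx_iff.1 g2 y x (by simp [c2]) (by simpa using c1)).2
      refine (g1 x y ?_).trans (Matrix.one_apply_ne c)
      by_contra c3
      simp only [Finset.mem_insert, Finset.mem_singleton, c1, c2, or_false, not_or, not_and,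
        not_not] at c3
      by_cases a1 : x = i <;> by_cases a2 : y = i <;> by_cases a3 : x = j <;>
        by_cases a4 : y = j <;> simp_all
    exact mem_Fx_iff.2 fun x y hx hy => ⟨k x y (by simp [hx, hy]), k y x (by simp [hx, hy])⟩
  exact (hG.g3 i j l (by simp [h, l1.symm, l2.symm])).trans (commutator_mono this this)

theorem top_of (hG : GF2 P) {M : Subgroup (P.G m)} (v : Fin m)
    (h : ∀ i, i ≠ v → P.K {i, v} ≤ M) : M = ⊤ := by
  rw [eq_top_iff, ← P.K_univ]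
  refine hG.gen _ _ fun i _ j _ hij => ?_
  by_cases c1 : j = v
  · exact c1 ▸ h i (c1 ▸ hij)
  by_cases c2 : i = v
  · rw [c2, Finset.pair_comm]; exact h j c1
  exact (hG.tri i j v (by simp [hij, c1, c2])).trans
    (sup_le (h i c2) (by rw [Finset.pair_comm]; exact h j c1))

theorem t_not_central (hG : GF1 P) (hm : 4 ≤ m) {c d : Fin m} (h : c ≠ d) :
    P.t c d ∉ center (P.G m) := fun z => by
  obtain ⟨k, k1, k2, -⟩ := exists_ne3 hm c d c
  obtain ⟨x, hx⟩ := (hG.cen m (by omega) _).1 z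
  rw [ent_t, dm_pair _ h] at hx
  have h1 := congrFun (congrFun hx c) c
  have h2 := congrFun (congrFun hx k) k
  simp [dm_apply, k1, k2] at h1 h2
  exact P.two_ne (by linear_combination h2 - h1)

theorem le_im (hG : GF1 P) (hm : 4 ≤ m) (fr : Fr t) (lab : Lab a b e) (h : L0 P t a b e p f) :
    f.range ≤ h.pj.im (LL t a b) := by
  have nn : (h.pj.im (LL t a b)).Normal := ⟨fun y hy k => by
    obtain ⟨y, h1, h2, rfl⟩ := h.pj.mem_im.1 hy
    obtain ⟨k, h3, rfl⟩ := h.pj.sur k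
    rw [← h.pj.conj h3 h2]
    exact h.pj.mem_im_of (nrm_LL h3 y h1) (nrm_C h3 y h2)⟩
  have hn : (⟨0, by omega⟩ : Fin m) ≠ ⟨1, by omega⟩ := by simp
  have k := (hG.qs m (by omega) _ (nn.comap f)).resolve_left fun k =>
    t_not_central hG hm hn (k (by
      rw [mem_comap, h.tt]
      exact h.pj.mem_im_of (mem_LL (lab.nodup (l := [_, _]) (by simp))) (fr.mem _ _ _ _)))
  rintro _ ⟨y, rfl⟩
  exact k.ge (mem_top y)

theorem mem_LL_of (hG : GF1 P) (hm : 4 ≤ m) (fr : Fr t) (lab : Lab a b e) (h : L0 P t a b e p f)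
    {x : G} (hx : x ∈ C1 (t a b)) (h1 : p x ∈ f.range) : x ∈ LL t a b ⊔ Oc (t a b) := by
  obtain ⟨z, h1, h2, e2⟩ := h.pj.mem_im.1 (le_im hG hm fr lab h h1)
  exact h.pj.mem_of_im le_sup_right hx (h.pj.mem_im.2 ⟨z, mem_sup_left h1, h2, e2⟩)

theorem pm_G (hG : GF1 P) (π : Equiv.Perm (Fin m)) : ∃ g, Pm (P.t : Fin m → Fin m → P.G m) g π :=
  let ⟨g, _, h⟩ := pm_of_swap (M := ⊤) (fun c d hcd =>
    let ⟨w, _, _, _, h, _⟩ := hG.sw c d hcd; ⟨w, mem_top w, h⟩) π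
  ⟨g, h⟩

/-- an odd subgroup normalized by `C(σ)`, where `σ` acts as `cj S`. -/
theorem key [Finite Y] (hG : GF P) (hm : 4 ≤ m) (hn : f.range.Normal) (hk : f.ker ≤ center _)
    (ho : Odd (Nat.card f.ker)) {σ : Y} {S : Finset (Fin m)}
    (hσ : ∀ g, σ * f g * σ⁻¹ = f (P.cj S g)) {X : Subgroup Y} (hX : OddN X (C1 σ)) {x : Y}
    (hx : x ∈ X) : (∀ c d, P.t c d ∈ (C1 x).comap f) ∧
      ∀ i j, i ≠ j → (i ∈ S ↔ j ∈ S) → P.K {i, j} ≤ (C1 x).comap f := by
  have m1 : ∀ g ∈ P.Fx S, f g ∈ C1 σ := fun g hg => mC1.2 (by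
    have := hσ g
    rw [show P.cj S g = g from hg, mul_inv_eq_iff_eq_mul] at this
    exact this.symm)
  have o := hG.g1 (by omega) S (X.comap f) ⟨Odd.of_dvd_nat (ho.mul hX.1) (H3.card_comap_dvd f X),
    fun u hu => hG.fx_of (by omega) hk ho (by rw [← hσ, ← mC1.1 (hX.2.1 hu)]; group),
    fun c hc u hu => by
      rw [mem_comap, map_mul, map_mul, map_inv]
      exact hX.2.2 _ (m1 c hc) _ hu⟩
  have m2 : ∀ g ∈ P.Fx S, ∃ u, f u ∈ X ∧ x * f g * x⁻¹ = f (u * g) := fun g hg => by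
    obtain ⟨u, hu⟩ := mul_mem (hn.conj_mem _ (⟨g, rfl⟩ : f g ∈ f.range) x)
      (inv_mem (⟨g, rfl⟩ : f g ∈ f.range))
    refine ⟨u, ?_, by rw [map_mul, hu]; group⟩
    have := X.mul_mem hx (hX.2.2 _ (m1 g hg) _ (X.inv_mem hx))
    rw [hu]; simpa [mul_assoc] using this
  refine ⟨fun c d => ?_, fun i j hij hS => (K_le_comm hG.toGF3 hm hij hS).trans
    (commutator_le.2 fun g hg k hk => ?_)⟩
  · obtain ⟨u, h1, h2⟩ := m2 _ (P.cj_t S c d)
    have c1 : Commute (P.t c d) u := o h1 _ (P.cj_t S c d)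
    have e2 : f u ^ 2 ^ 1 = 1 := by
      have := congrArg (· ^ 2 ^ 1) h2
      simp only [conj_pow] at this
      rw [← map_pow, ← map_pow, c1.symm.mul_pow, t_pow] at this
      simpa using this.symm
    have e3 : f u = 1 := orderOf_eq_one_iff.1 (Nat.eq_one_of_dvd_coprimes
      (Nat.Coprime.pow_left 1 (Nat.coprime_two_left.2 hX.1)) (orderOf_dvd_of_pow_eq_one e2)
      (Subgroup.orderOf_dvd_natCard _ h1))
    rw [map_mul, e3, one_mul, mul_inv_eq_iff_eq_mul] at h2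
    exact mC1.2 h2.symm
  · obtain ⟨u, h1, h2⟩ := m2 g hg
    obtain ⟨v, h3, h4⟩ := m2 k hk
    have fv := (hG.fx_of (S := S) (by omega) ‹f.ker ≤ _› ho
      (by rw [← hσ, ← mC1.1 (hX.2.1 h3)]; group) : v ∈ P.Fx S)
    have c1 : Commute g u := o h1 _ hg
    have c2 : Commute k u := o h1 _ hk
    have c3 : Commute v u := o h1 _ fv
    have c4 : Commute g v := o h3 _ hg
    have c5 : Commute k v := o h3 _ hk
    have e1 : ⁅u * g, v * k⁆ = ⁅g, k⁆ := by
      have b1 : Commute u (g * (v * k) * g⁻¹) :=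
        ((c1.symm.mul_right (c3.symm.mul_right c2.symm)).mul_right c1.symm.inv_right)
      have b2 : Commute v (k * g⁻¹ * k⁻¹) :=
        ((c5.symm.mul_right c4.symm.inv_right).mul_right c5.symm.inv_right)
      calc ⁅u * g, v * k⁆ = u * (g * (v * k) * g⁻¹) * u⁻¹ * (v * k)⁻¹ := by
            rw [commutatorElement_def]; group
        _ = g * (v * (k * g⁻¹ * k⁻¹) * v⁻¹) := by rw [b1.eq]; group
        _ = _ := by rw [b2.eq, commutatorElement_def]; group
    rw [mem_comap, mC1, eq_comm, ← mul_inv_eq_iff_eq_mul]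
    nth_rewrite 2 [← e1]
    rw [map_commutatorElement, map_commutatorElement, ← h2, ← h4]
    simp only [commutatorElement_def]
    group

theorem act_b (fr : Fr t) (h : L1 P t a b e p f) (k : Fin m) (g : P.G m) :
    p (t b (e k)) * f g * (p (t b (e k)))⁻¹ = f (P.cj {k} g) := by
  rw [← fr.mul b a, h.pj.mul _ (fr.mem _ _ _ _) _ (fr.mem _ _ _ _), fr.symm b a, ← h.act,
    ← h.pj.central]
  simp only [mul_inv_rev, ← mul_assoc]
  rw [mul_assoc _ _ (f g), ← h.pj.central]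
  group

theorem act_e (h : L0 P t a b e p f) {c d : Fin m} (hcd : c ≠ d) (g : P.G m) :
    p (t (e c) (e d)) * f g * (p (t (e c) (e d)))⁻¹ = f (P.cj {c, d} g) := by
  rw [← h.tt, ← P.t_conj' hcd, map_mul, map_mul, map_inv]

theorem act_ex (fr : Fr t) (lab : Lab a b e) (h : L1 P t a b e p f) {r s : Fin n} (hrs : r ≠ s) :
    t r s = t a b ∨ ∃ S, ∀ g, p (t r s) * f g * (p (t r s))⁻¹ = f (P.cj S g) := by
  have k : ∀ c, c = a ∨ c = b ∨ ∃ i, e i = c := fun c => by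
    by_cases h1 : c = a
    · exact Or.inl h1
    by_cases h2 : c = b
    · exact Or.inr (Or.inl h2)
    exact Or.inr (Or.inr (lab.sur c h1 h2))
  rcases k r with rfl | rfl | ⟨i, rfl⟩ <;> rcases k s with rfl | rfl | ⟨j, rfl⟩
  · exact absurd rfl hrs
  · exact Or.inl rfl
  · exact Or.inr ⟨_, h.act j⟩
  · exact Or.inl (fr.symm _ _)
  · exact absurd rfl hrs
  · exact Or.inr ⟨_, act_b fr h j⟩
  · exact Or.inr ⟨_, fr.symm _ _ ▸ h.act i⟩
  · exact Or.inr ⟨_, fr.symm _ _ ▸ act_b fr h i⟩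
  · exact Or.inr ⟨_, act_e h.toL0 fun c => hrs (c ▸ rfl)⟩

theorem key' [Finite G] [Finite Y] (hG : GF P) (hm : 4 ≤ m) (fr : Fr t) (h : L0 P t a b e p f)
    {r s : Fin n} {S : Finset (Fin m)}
    (hσ : ∀ g, p (t r s) * f g * (p (t r s))⁻¹ = f (P.cj S g)) {x : G} (h1 : x ∈ Oc (t r s))
    (h2 : x ∈ C1 (t a b)) : (∀ c d, P.t c d ∈ (C1 (p x)).comap f) ∧
      ∀ i j, i ≠ j → (i ∈ S ↔ j ∈ S) → P.K {i, j} ≤ (C1 (p x)).comap f :=
  key hG hm h.nor h.ker h.odd hσ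
    (h.pj.oddN (fr.mem r s a b) (fr.sq _ _) (oddN_O (t r s) (t a b))) (h.pj.mem_im_of ⟨h1, h2⟩ h2)

theorem mem_O_of [Finite G] [Finite Y] (fr : Fr t) (h : L0 P t a b e p f) {c d : Fin m} {x : G}
    (h1 : x ∈ Oc (t (e c) (e d))) (h2 : x ∈ C1 (t a b)) (h3 : (C1 (p x)).comap f = ⊤) :
    x ∈ Oc (t a b) := by
  have := h.nor
  have k := bot_of_cent h.pj.core (L := f.range) ⟨_, h.tt c d⟩
    (h.pj.oddN (fr.mem _ _ a b) (fr.sq _ _) (oddN_O (t (e c) (e d)) (t a b)))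
  refine (h.pj.ker x h2).1 (k.le ⟨h.pj.mem_im_of ⟨h1, h2⟩ h2, ?_⟩)
  rintro _ ⟨g, rfl⟩
  exact mC1.1 (h3.ge (mem_top g))

theorem ld (hF : FrStmt.{u}) (hG : ∀ P, GF P) : LdStmt.{u} := by
  intro P m hm G _ _ t fr hl
  have g := hG P
  obtain ⟨i0, i1, i2, hn⟩ : ∃ c d k : Fin m, [c, d, k].Nodup :=
    ⟨⟨0, by omega⟩, ⟨1, by omega⟩, ⟨2, by omega⟩, by simp⟩
  have hn2 := hn
  simp only [List.nodup_cons, List.mem_cons, not_or,
    List.not_mem_nil, not_false_eq_true, and_true, List.nodup_nil] at hn2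
  have d5 : ∀ a b, a ≠ b → ∀ y ∈ C1 (t a b), ∃ l ∈ LL t a b ⊔ Oc (t a b), ∃ c ∈ C1 (t a b),
      (∀ r s, [a, b, r, s].Nodup → c ∈ C1 (t r s)) ∧ y = l * c := by
    intro a b hab y hy
    obtain ⟨e, lab, -⟩ := exists_lab (m := m) (a := a) (b := b) (l := []) (l' := []) (by simp)
      (by simpa using hab) rfl
    obtain ⟨Y, _, _, p, f, h⟩ := hl a b e lab
    have := h.nor
    obtain ⟨s, hs⟩ : ∃ s : Fin m → Fin m → f.range,
        ∀ c d, (s c d : Y) = p y * f (P.t c d) * (p y)⁻¹ :=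
      ⟨fun c d => ⟨_, h.nor.conj_mem _ ⟨_, rfl⟩ _⟩, fun _ _ => rfl⟩
    obtain ⟨k, hk⟩ := hF P m hm f.range f.rangeRestrict f.rangeRestrict_surjective
      (by rw [MonoidHom.ker_rangeRestrict]; exact h.ker)
      (by rw [MonoidHom.ker_rangeRestrict]; exact h.odd) s (by
      refine ⟨fun c => Subtype.ext ?_, fun c d => Subtype.ext ?_, fun c d k => Subtype.ext ?_,
        fun c d hcd k => ?_, fun c d r r' hd k => ?_, fun σ => ?_⟩
      · rw [hs, P.t_self]; simp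
      · rw [hs, hs, P.t_symm]
      · rw [coe_mul, hs, hs, hs, ← P.t_mul c d k, map_mul]; group
      · have := congrArg Subtype.val k
        rw [hs, h.tt, coe_one, conj_eq_one_iff] at this
        exact h.pj.ne_one (fr.mem _ _ _ _) (fr.sq _ _) (fr.ne _ _ (lab.inj.ne hcd)) this
      · have := congrArg Subtype.val k
        rw [coe_mul, hs, hs, conj_mul, coe_one, conj_eq_one_iff, h.tt, h.tt,
          ← h.pj.mul _ (fr.mem _ _ _ _) _ (fr.mem _ _ _ _)] at this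
        refine h.pj.ne_one (mul_mem (fr.mem (e c) (e d) _ _) (fr.mem (e r) (e r') _ _)) ?_
          (fr.ne4 _ _ _ _ (hd.map lab.inj)) this
        rw [mul_assoc, ← mul_assoc (t (e r) _), ← fr.comm (e c), mul_assoc, fr.sq, mul_one, fr.sq]
      · obtain ⟨w, hw⟩ := pm_G g.toGF1 σ
        refine ⟨⟨_, h.nor.conj_mem _ ⟨w, rfl⟩ (p y)⟩, fun c d => Subtype.ext ?_⟩
        rw [coe_mul, coe_mul, coe_inv, hs, hs, ← hw, map_mul, map_mul, map_inv]
        group)
    have le : closure {z | ∃ c d, z = t (e c) (e d)} ≤ C1 (t a b) := (closure_le _).2 (by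
      rintro _ ⟨c, d, rfl⟩; exact fr.mem _ _ _ _)
    obtain ⟨c, c1, c2, c3⟩ := h.pj.lift (fr.two.to_le (closure_mono (by
        rintro _ ⟨c, d, rfl⟩; exact ⟨_, _, rfl⟩))) le (y := (f k)⁻¹ * p y) fun q hq => by
      have : closure {z | ∃ c d, z = t (e c) (e d)} ≤
          ((C1 ((f k)⁻¹ * p y)).comap h.pj.hom).map (C1 (t a b)).subtype := (closure_le _).2 (by
        rintro _ ⟨c, d, rfl⟩
        refine ⟨⟨_, fr.mem _ _ _ _⟩, mC1.2 ?_, rfl⟩
        have := congrArg Subtype.val (hk c d)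
        rw [hs, MonoidHom.coe_rangeRestrict, map_mul, map_mul, map_inv, h.tt] at this
        rw [h.pj.hom_apply]
        calc _ = (f k)⁻¹ * (f k * p (t (e c) (e d)) * (f k)⁻¹) * p y := by group
          _ = _ := by rw [← this]; group)
      obtain ⟨q, hq', rfl⟩ := this hq
      exact (mC1.1 (mem_comap.1 hq')).symm
    refine ⟨y * c⁻¹, mem_LL_of g.toGF1 hm fr lab h.toL0 (mul_mem hy (inv_mem c1))
      ⟨k, by rw [h.pj.mul _ hy _ (inv_mem c1), h.pj.inv c1, c3]; group⟩, c, c1,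
      fun r s hd => ?_, by group⟩
    simp only [List.nodup_cons, List.mem_cons, not_or] at hd
    obtain ⟨r, rfl⟩ := lab.sur r (Ne.symm hd.1.2.1) (Ne.symm hd.2.1.1)
    obtain ⟨s, rfl⟩ := lab.sur s (Ne.symm hd.1.2.2.1) (Ne.symm hd.2.1.2.1)
    exact mC1.2 (c2 _ (subset_closure ⟨r, s, rfl⟩))
  refine ⟨fun a b c d r s hd hrs x h1 h2 => ?_, fun a b c d r hd x h1 h2 h3 => ?_,
    fun a b d r hd x h1 h2 h3 => ?_, fun a b hab M h1 h2 y hy => ?_, d5⟩
  · obtain ⟨e, lab, he⟩ := exists_lab (l := [i0, i1]) (by simp [hn2]) hd rfl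
    simp only [List.map_cons, List.map_nil, List.cons.injEq, and_true] at he
    obtain ⟨rfl, rfl⟩ := he
    obtain ⟨Y, _, _, p, f, h⟩ := hl a b e lab
    have s1 := fr.mem (e i0) (e i1) a b
    rcases act_ex fr lab h hrs with k | ⟨S, k⟩
    · rw [k] at h1
      simpa [commutatorElement_def, mul_assoc] using mul_mem (nrm_O s1 _ h1) (inv_mem h1)
    · have := mC1.1 ((key' g hm fr h.toL0 k h1 h2).1 i0 i1)
      refine (h.pj.ker _ (mul_mem (mul_mem (mul_mem s1 h2) (inv_mem s1)) (inv_mem h2))).1 ?_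
      rw [← commutatorElement_def, h.pj.comm s1 h2, commutatorElement_eq_one_iff_mul_comm,
        ← h.tt, this]
  · obtain ⟨e, lab, he⟩ := exists_lab (l := [i0, i1, i2]) hn hd rfl
    simp only [List.map_cons, List.map_nil, List.cons.injEq, and_true] at he
    obtain ⟨rfl, rfl, rfl⟩ := he
    obtain ⟨Y, _, _, p, f, h⟩ := hl a b e lab
    have k1 := (key' g hm fr h.toL0 (act_e h.toL0 hn2.2) h1 h3).2
    have k2 := (key' g hm fr h.toL0 (act_e h.toL0 hn2.1.1) h2 h3).2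
    refine mem_O_of fr h.toL0 h1 h3 (top_of g.toGF2 i0 fun i hi => ?_)
    by_cases c1 : i = i1
    · exact k2 _ _ hi (by simp [c1])
    by_cases c2 : i = i2
    · exact (g.tri i i0 i1 (by simp [hi, c1, hn2])).trans
        (sup_le (k1 _ _ c1 (by simp [c2])) (k2 _ _ (Ne.symm hn2.1.1) (by simp)))
    exact k1 _ _ hi (by simp [c1, c2, hn2])
  · obtain ⟨e, lab, he⟩ := exists_lab (l := [i0, i1]) (by simp [hn2]) hd rfl
    simp only [List.map_cons, List.map_nil, List.cons.injEq, and_true] at he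
    obtain ⟨rfl, rfl⟩ := he
    obtain ⟨Y, _, _, p, f, h⟩ := hl a b e lab
    have k1 := (key' g hm fr h.toL0 (act_e h.toL0 hn2.1.1) h1 h3).2
    have k2 := (key' g hm fr h.toL0 (act_b fr h i0) h2 h3).2
    refine mem_O_of fr h.toL0 h1 h3 (top_of g.toGF2 i1 fun i hi => ?_)
    by_cases c1 : i = i0
    · exact k1 _ _ hi (by simp [c1])
    exact k2 _ _ hi (by simp [c1, Ne.symm hn2.1.1])
  · obtain ⟨l, l1, c, -, c2, rfl⟩ := d5 a b hab y hy
    obtain ⟨e, lab, -⟩ := exists_lab (m := m) (a := a) (b := b) (l := []) (l' := []) (by simp)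
      (by simpa using hab) rfl
    obtain ⟨Y, _, _, p, f, h⟩ := hl a b e lab
    refine mul_mem (h.pj.mem_of_im h1 (sup_le (fr.LL_le a b) (O_le _) l1) ?_)
      (h2 (e i0) (e i1) (e i2) (hn.map lab.inj)
        ⟨c2 _ _ (lab.nodup (l := [_, _]) (by simp [hn2])),
          c2 _ _ (lab.nodup (l := [_, _]) (by simp [hn2]))⟩)
    obtain ⟨z, hz⟩ := h.toL0.im_le fr lab l1
    refine hz ▸ g.gen Finset.univ ((h.pj.im M).comap f) (fun c _ d _ _ w hw => ?_)
      (P.K_univ ▸ mem_top z)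
    obtain ⟨k, k1, k2, -⟩ := exists_ne3 hm c d c
    obtain ⟨x, x1, x2, x3⟩ := h.pj.lift1 (fr.mem a (e k) a b) (fr.sq _ _) (y := f w) (mC1.2 (by
      have := h.act k w
      rw [show P.cj {k} w = w from P.K_le_Fx (Or.inr (by simp [k1, k2])) hw,
        mul_inv_eq_iff_eq_mul] at this
      exact this.symm))
    rw [mem_comap, ← x3]
    exact h.pj.mem_im_of (h2 b a (e k) (by simp [hab.symm, (lab.na k).symm, (lab.nb k).symm])
      ⟨fr.symm a b ▸ x1, x2⟩) x1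

end Cfsg.Agent.H1.FU
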