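import Cfsg.Agent.H1.FuGf1
import Cfsg.Agent.H1.FuLd
import Cfsg.Agent.H81.SL2Four
import Cfsg.Agent.H82.SL2

/-!
# The `2 × 2` blocks of `P.G m`
-/

set_option autoImplicit false

namespace Cfsg.Agent.H1.FU

open Matrix Subgroup Cfsg.Agent.H96.FL Cfsg.Agent.H96.FL.Par Cfsg.Agent.H8.GHO
open scoped MatrixGroups commutatorElement

section SL2

variable {F : Type*} [Field F]

theorem sl2_cent (h2 : (2 : F) ≠ 0) {g : SL(2, F)} (h : ∀ y : SL(2, F), y * y = -1 → g * y = y * g) :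
    g = 1 ∨ g = -1 := by
  let y : SL(2, F) := ⟨!![1, -2; 1, -1], by simp [det_fin_two]; ring⟩
  have a := h _ H81.sl2w_sq
  have b := h y (H81.sl2_sq_of_trace (by simp [y]))
  have a0 := H81.sl2_entries a 0 0
  have a1 := H81.sl2_entries a 0 1
  have b0 := H81.sl2_entries b 0 0
  have b1 := H81.sl2_entries b 1 0
  have d := H81.sl2_det g
  simp only [H81.sl2_mul] at a0 a1 b0 b1
  simp [y, H81.sl2w] at a0 a1 b0 b1
  have c1 : g.1 0 1 = 0 := by grind
  have c2 : g.1 1 0 = 0 := by grind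
  refine H81.sl2_sq_eq_one h2 (H81.sl2_ext ?_ ?_ ?_ ?_) <;>
    simp only [H81.sl2_mul, H81.sl2_one, c1, c2] <;> simp <;> grind

theorem sl2_four [Fintype F] (hF : Odd (Fintype.card F)) {N : Subgroup SL(2, F)} [N.Normal]
    (h : ¬ N ≤ center _) {y : SL(2, F)} (hy : y * y = -1) : y ∈ N := by
  obtain ⟨n, hp, hc⟩ := FiniteField.card F (ringChar F)
  have := Fact.mk hp
  obtain ⟨a, ha, _, ⟨s, rfl⟩, e⟩ := mem_sup_of_normal_left.1
    ((H82.normal_le_center_or.resolve_left h).ge (mem_top y))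
  have e1 : (y : SL(2, F) ⧸ N) ^ ringChar F = 1 := by
    rw [← e, QuotientGroup.mk_mul, (QuotientGroup.eq_one_iff a).2 ha, one_mul,
      ← QuotientGroup.mk_pow]
    exact congrArg _ (H82.uu_pow_char hc _)
  have e2 : (y : SL(2, F) ⧸ N) ^ 2 ^ 2 = 1 := by
    rw [← QuotientGroup.mk_pow, show 2 ^ 2 = 2 * 2 by rfl, pow_mul, pow_two y, hy]; simp
  exact (QuotientGroup.eq_one_iff y).1 (orderOf_eq_one_iff.1 (Nat.eq_one_of_dvd_coprimes
    (Nat.Coprime.pow_left 2 (Nat.coprime_two_left.2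
      (Odd.of_dvd_nat hF (hc ▸ dvd_pow_self _ n.ne_zero))))
    (orderOf_dvd_of_pow_eq_one e2) (orderOf_dvd_of_pow_eq_one e1)))

end SL2

variable {P : Par} {m : ℕ}

theorem odd_char (P : Par) : Odd (ringChar P.E) := by
  obtain ⟨n, hp, -⟩ := FiniteField.card P.E (ringChar P.E)
  exact hp.odd_of_ne_two fun c => P.two_ne (by
    have := ringChar.Nat.cast_ringChar (R := P.E)
    rwa [c] at this)

/-- the block on `c`, `d` is `SL₂(q)`. -/
theorem blk2 (P : Par) {c d : Fin m} (h : c ≠ d) :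
    ∃ (F : Type) (_ : Field F) (_ : Fintype F) (ψ : SL(2, F) →* P.G m) (n : ℕ),
      Fintype.card F = P.x.natAbs ∧ Fintype.card F = ringChar P.E ^ n ∧ Function.Injective ψ ∧
      ψ.range = P.K {c, d} ∧ ψ (-1) = P.t c d := by
  obtain ⟨F, _, _, hF, ⟨e⟩⟩ := (gf1 P).sl2
  obtain ⟨φ, k1, -, k2, k3, -⟩ := emb (gf1 P) (k := 2)
    ⟨![c, d], List.nodup_ofFn.1 (by simpa using h)⟩
  obtain ⟨n, hp, hc⟩ := FiniteField.card F (ringChar F)
  obtain ⟨n', hp', hc'⟩ := FiniteField.card P.E (ringChar P.E)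
  refine ⟨F, _, _, φ.comp e.symm.toMonoidHom, n, hF, ?_, k1.comp e.symm.injective, ?_, ?_⟩
  · rw [hc, (Nat.prime_dvd_prime_iff_eq hp hp').1 (hp.dvd_of_dvd_pow (n := n') ?_)]
    refine (dvd_pow_self _ n.ne_zero).trans ?_
    rw [← hc, ← hc', hF]
    rcases P.card with ⟨h1, h2⟩ | ⟨h1, -⟩
    · exact dvd_of_eq (by omega)
    · rw [card_neg P h1]; exact dvd_pow_self _ two_ne_zero
  · rw [range_comp_equiv, MonoidHom.range_eq_map, ← P.K_univ, k3]
    congr 1
    ext i
    simp [Fin.exists_fin_two, eq_comm]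
  · rw [← (H81.sl2_sq_eq_one (H81.two_ne_zero_of_odd_card (hF ▸ P.odd.natAbs))
      (x := e (P.t 0 1)) (by rw [← map_mul, P.t_sq, map_one])).resolve_left fun c =>
        t_ne_one P (by decide) (e.map_eq_one_iff.1 c)]
    simpa using k2 0 1

theorem mem_K_iff {S : Finset (Fin m)} {y : P.G m} : y ∈ P.K S ↔
    (1 + dm P.E S) * ent y = 1 + dm P.E S ∧ ent y * (1 + dm P.E S) = 1 + dm P.E S := by
  have e : 1 + dm P.E S = diagonal fun i => if i ∈ S then 0 else 2 := by
    ext i j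
    rw [Matrix.add_apply, dm_apply, one_apply, diagonal_apply]
    split_ifs <;> norm_num
  rw [e]
  refine ⟨fun h => ⟨Matrix.ext fun i j => ?_, Matrix.ext fun i j => ?_⟩, fun h i j hij => ?_⟩
  · rw [diagonal_mul, diagonal_apply]
    by_cases c : i ∈ S
    · simp [c]
    · simp [c, h i j (Or.inl c), one_apply]
  · rw [mul_diagonal, diagonal_apply]
    by_cases c : j ∈ S
    · by_cases c' : i = j <;> simp [c, c']
    · by_cases c' : i = j <;> simp [c, c', h _ j (Or.inr c)]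
  · refine mul_left_cancel₀ P.two_ne ?_
    rcases hij with c | c
    · have := congrFun (congrFun h.1 i) j
      rw [diagonal_mul, diagonal_apply] at this
      simpa [c, one_apply] using this
    · have := congrFun (congrFun h.2 i) j
      rw [mul_diagonal, diagonal_apply] at this
      by_cases c' : i = j
      · subst c'
        rw [if_pos rfl, if_neg c] at this
        rw [one_apply_eq, mul_comm, this, mul_one]
      · simpa [c, c', mul_comm] using this

theorem comm_dm {S : Finset (Fin m)} {g : P.G m} (h : g ∈ P.Fx S) :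
    ent g * dm P.E S = dm P.E S * ent g := by
  have : dm P.E S * ent g * dm P.E S = ent g := congrArg ent (show P.cj S g = g from h)
  nth_rewrite 1 [← this]
  rw [mul_assoc, dm_sq, mul_one]

theorem nrm_K {S : Finset (Fin m)} {g : P.G m} (h : g ∈ P.Fx S) : Nrm g (P.K S) (P.K S) := by
  intro y hy
  have k : ∀ x ∈ P.Fx S, Commute (ent x) (1 + dm P.E S) := fun x hx =>
    (Commute.one_right _).add_right (comm_dm hx)
  obtain ⟨h1, h2⟩ := mem_K_iff.1 hy
  refine mem_K_iff.2 ⟨?_, ?_⟩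
  · rw [ent_mul, ent_mul, ← mul_assoc, ← mul_assoc, ← (k g h).eq, mul_assoc (ent g), h1,
      (k g h).eq, mul_assoc, ← ent_mul, mul_inv_cancel, ent_one, mul_one]
  · rw [ent_mul, ent_mul, mul_assoc, (k _ (inv_mem h)).eq, ← mul_assoc, mul_assoc (ent g), h2,
      (k g h).eq, mul_assoc, ← ent_mul, mul_inv_cancel, ent_one, mul_one]

theorem Fx_compl (S : Finset (Fin m)) : P.Fx Sᶜ = P.Fx S := by
  ext g
  simp only [mem_Fx_iff, Finset.mem_compl, not_not]
  exact ⟨fun h i j hi hj => (h j i hj hi).symm, fun h i j hi hj => (h j i hj hi).symm⟩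

theorem K_comm_t {c d : Fin m} (h : c ≠ d) {y : P.G m} (hy : y ∈ P.K {c, d}) :
    y * P.t c d = P.t c d * y := mC1.1 (P.Fx_pair h ▸ P.K_le_Fx (Or.inl subset_rfl) hy)

/-- an element acting on the block by signs centralizes it. -/
theorem cent_of_pm {c d : Fin m} (h : c ≠ d) {g : P.G m}
    (hg : ∀ y ∈ P.K {c, d}, g * y * g⁻¹ = y ∨ g * y * g⁻¹ = P.t c d * y) :
    ∀ y ∈ P.K {c, d}, g * y = y * g := by
  obtain ⟨F, _, _, ψ, n, -, hc, -, hr, -⟩ := blk2 P h
  obtain ⟨_, hp, -⟩ := FiniteField.card P.E (ringChar P.E)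
  have := Fact.mk hp
  have k : ∀ x, x ^ ringChar P.E = 1 → g * ψ x = ψ x * g := fun x hx => by
    have m : ψ x ∈ P.K {c, d} := hr ▸ ⟨x, rfl⟩
    refine mul_inv_eq_iff_eq_mul.1 ((hg _ m).resolve_right fun e => t_ne_one P h ?_)
    have := congrArg (· ^ ringChar P.E) e
    obtain ⟨r, hr⟩ := odd_char P
    simp only [conj_pow] at this
    rw [Commute.mul_pow (K_comm_t h m).symm, ← map_pow, hx, map_one, hr, pow_succ, pow_mul,
      pow_two, P.t_sq] at this
    simpa using this.symm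
  rw [← hr]
  rintro _ ⟨x, rfl⟩
  exact H82.SL2_ind (fun x => g * ψ x = ψ x * g) (fun s => k _ (H82.uu_pow_char hc s))
    (fun s => k _ (H82.ll_pow_char hc s))
    (fun a b ha hb => by rw [map_mul, ← mul_assoc, ha, mul_assoc, hb, mul_assoc]) x

theorem cent_of_four {c d : Fin m} (h : c ≠ d) {g : P.G m}
    (hg : ∀ y ∈ P.K {c, d}, y * y = P.t c d → g * y = y * g) :
    ∀ y ∈ P.K {c, d}, g * y = y * g := by
  obtain ⟨w, w1, w2, -⟩ := (gf1 P).sw c d h
  have fx : g ∈ P.Fx {c, d} := P.Fx_pair h ▸ mC1.2 (by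
    rw [← w2, ← mul_assoc, hg w w1 w2, mul_assoc, hg w w1 w2, mul_assoc])
  obtain ⟨F, _, _, ψ, n, hF, -, hi, hr, ht⟩ := blk2 P h
  refine cent_of_pm h fun y hy => ?_
  obtain ⟨x, rfl⟩ : y ∈ ψ.range := hr ▸ hy
  obtain ⟨x', hx⟩ : _ ∈ ψ.range := hr ▸ nrm_K fx _ hy
  have k : ∀ z, z * z = -1 → g * ψ z = ψ z * g := fun z hz =>
    hg _ (hr ▸ ⟨z, rfl⟩) (by rw [← map_mul, hz, ht])
  rcases sl2_cent (H81.two_ne_zero_of_odd_card (hF ▸ P.odd.natAbs)) (g := x' * x⁻¹)
    (fun z hz => hi (by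
      have := k (x⁻¹ * z * x) (by
        rw [show x⁻¹ * z * x * (x⁻¹ * z * x) = x⁻¹ * (z * z) * x by group, hz]; simp)
      simp only [map_mul, map_inv, hx] at this ⊢
      calc _ = g * ψ x * g⁻¹ * ((ψ x)⁻¹ * ψ z * ψ x * g) * g⁻¹ * (ψ x)⁻¹ := by group
        _ = g * ψ z * ψ x * g⁻¹ * (ψ x)⁻¹ := by rw [← this]; group
        _ = _ := by rw [k z hz]; group)) with e | e
  · exact Or.inl (by rw [← hx, mul_inv_eq_one.1 e])
  · exact Or.inr (by rw [← hx, mul_inv_eq_iff_eq_mul.1 e, map_mul, ht])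

theorem blk_mul {c d : Fin m} (h : c ≠ d) (g : P.G m) {y : P.G m} (hy : y ∈ P.K {c, d})
    {i j : Fin m} (hi : i = c ∨ i = d) (hj : j = c ∨ j = d) :
    ent (g * y) i j = ent g i c * ent y c j + ent g i d * ent y d j ∧
      ent (y * g) i j = ent y i c * ent g c j + ent y i d * ent g d j := by
  refine ⟨?_, ?_⟩
  · rw [ent_mul, mul_apply, Finset.sum_eq_add c d h (fun k _ hk => ?_) (by simp) (by simp)]
    rw [hy k j (Or.inl (by simpa using hk)), one_apply_ne (by rintro rfl; tauto), mul_zero]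
  · rw [ent_mul, mul_apply, Finset.sum_eq_add c d h (fun k _ hk => ?_) (by simp) (by simp)]
    rw [hy i k (Or.inr (by simpa using hk)), one_apply_ne (by rintro rfl; tauto), zero_mul]

/-- an element centralizing the block is scalar on it. -/
theorem sc2 {c d : Fin m} (h : c ≠ d) {g : P.G m} (hg : ∀ y ∈ P.K {c, d}, g * y = y * g) :
    ent g c d = 0 ∧ ent g d c = 0 ∧ ent g c c = ent g d d := by
  obtain ⟨φ, -, k1, -, k3, -⟩ := emb (gf1 P) (k := 2)
    ⟨![c, d], List.nodup_ofFn.1 (by simpa using h)⟩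
  have u : Finset.univ.map ⟨![c, d], List.nodup_ofFn.1 (by simpa using h)⟩ = {c, d} := by
    ext i
    simp [Fin.exists_fin_two, eq_comm]
  let w₀ : P.G 2 := mkG P !![0, -1; 1, 0] (by simp [det_fin_two]) fun _ => by
    ext i j; fin_cases i <;> fin_cases j <;> simp [mul_apply, Fin.sum_univ_two]
  have w1 : φ w₀ ∈ P.K {c, d} := u ▸ k3 _ ▸ mem_map_of_mem _ (P.K_univ ▸ mem_top _)
  have a1 : ent (φ w₀) c c = 0 := k1 w₀ 0 0
  have a2 : ent (φ w₀) c d = -1 := k1 w₀ 0 1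
  have a3 : ent (φ w₀) d c = 1 := k1 w₀ 1 0
  have a4 : ent (φ w₀) d d = 0 := k1 w₀ 1 1
  have cm : ∀ (x : P.G m) {y}, y ∈ P.K {c, d} → x * y = y * x → ∀ i j, (i = c ∨ i = d) →
      (j = c ∨ j = d) → ent x i c * ent y c j + ent x i d * ent y d j =
        ent y i c * ent x c j + ent y i d * ent x d j := fun x y hy e i j hi hj => by
    rw [← (blk_mul h x hy hi hj).1, ← (blk_mul h x hy hi hj).2, e]
  have b1 := cm g w1 (hg _ w1) c c (by simp) (by simp)
  have b2 := cm g w1 (hg _ w1) c d (by simp) (by simp)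
  rw [a1, a2, a3] at b1
  rw [a1, a2, a4] at b2
  suffices k : ent g c d = 0 from ⟨k, by linear_combination b1 - k, by linear_combination -b2⟩
  by_contra k
  obtain ⟨F, _, _, ψ, n, hF, -, hi, hr, ht⟩ := blk2 P h
  have h2 := H81.two_ne_zero_of_odd_card (hF ▸ P.odd.natAbs)
  obtain ⟨x, hx⟩ : _ ∈ ψ.range := hr ▸ w1
  have k1 : ∀ y ∈ P.K {c, d}, φ w₀ * y = y * φ w₀ := fun y hy => by
    have c1 := cm g hy (hg _ hy) c c (by simp) (by simp)
    have c2 := cm g hy (hg _ hy) c d (by simp) (by simp)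
    have c3 : ent y d c = -ent y c d := mul_left_cancel₀ k (by linear_combination c1 + ent y c d * b1)
    have c4 : ent y d d = ent y c c := mul_left_cancel₀ k (by linear_combination c2 + ent y c d * b2)
    refine P.ent_inj (Matrix.ext fun i j => ?_)
    by_cases e : i ∉ ({c, d} : Finset _) ∨ j ∉ ({c, d} : Finset _)
    · rw [mul_mem w1 hy i j e, mul_mem hy w1 i j e]
    · simp only [Finset.mem_insert, Finset.mem_singleton, not_or, not_and_or, not_not] at e
      rw [(blk_mul h _ hy e.1 e.2).1, (blk_mul h _ hy e.1 e.2).2]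
      rcases e with ⟨rfl | rfl, rfl | rfl⟩ <;> simp [a1, a2, a3, a4, c3, c4]
  rcases sl2_cent h2 (g := x) fun y _ => hi (by
    rw [map_mul, map_mul, hx, k1 _ (hr ▸ ⟨y, rfl⟩)]) with e | e
  · rw [← hx, e, map_one, ent_one, one_apply_eq] at a1
    exact one_ne_zero a1
  · rw [← hx, e, ht, ent_t, dm_pair _ h, dm_apply] at a1
    simp at a1

end Cfsg.Agent.H1.FU
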