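import Cfsg.Agent.H76.K4Defs
import Cfsg.Agent.H54.BdCh

set_option autoImplicit false

namespace Cfsg.Agent.H1.K4Set

open Cfsg Cfsg.Agent.H17 Cfsg.Agent.H23 Cfsg.Agent.H23.SecT Cfsg.Agent.H23.KL
open Cfsg.Agent.H18 (ppart isPPart_ppart ppart_eq_iff)
open scoped ComplexConjugate Classical

universe u

theorem set' (ineq : H76.K0.IneqStmt.{u}) : H76.K4.SetStmt.{u} := by
  intro G _ _ _ p _ M hM hk P hP
  have hp := (Fact.out : p.Prime)
  have hB : IsPBlock M (principalBlock M G) := isPBlock_principalBlock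
  have : Nontrivial (P : Subgroup G) := (Subgroup.nontrivial_iff_ne_bot _).mpr hP
  have := P.isPGroup'.center_nontrivial
  obtain ⟨⟨⟨u, huP⟩, hz⟩, hz1⟩ := exists_ne (1 : Subgroup.center (P : Subgroup G))
  have hu1 : u ≠ 1 := fun e => hz1 (Subtype.ext (Subtype.ext e))
  have hup := pelt_of_mem P.isPGroup' huP
  have hPC : (P : Subgroup G) ≤ Cg u := fun t ht =>
    mem_Cg.mpr (congrArg Subtype.val (Subgroup.mem_center_iff.mp hz ⟨t, ht⟩))
  have hconj : ∀ x : G, (∃ k : ℕ, orderOf x = p ^ k) → x ≠ 1 → IsConj u x := fun x hx hx1 =>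
    (principal_key hM hk hup hx hu1 hx1).1
  have hC := (principal_key hM hk hup hup hu1 hu1).2
  set q := Nat.card (P : Subgroup G) with hq
  have hq' : p ^ (Nat.card (Cg u)).factorization p = q :=
    (H8.isSylowIn_of_le P hPC).card_eq.symm
  have hq1 : 1 < q := Finite.one_lt_card
  have hval : ∀ (χ : IrrCharacter G) (x : G), (∃ k : ℕ, orderOf x = p ^ k) → x ≠ 1 →
      χ.1 x = χ.1 u := fun χ x hx hx1 =>
    (H11.classFun_of_isConj (irr_class χ) (hconj x hx hx1)).symm
  have hint : ∀ χ : IrrCharacter G, ∃ a m : ℤ, χ.1 u = a ∧ χ.1 1 = a + q * m := by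
    intro χ
    obtain ⟨n, hn⟩ := S4665.exists_nat_sum_subgroup (P : Subgroup G) (H11.irr_isCharacter χ)
    have h1 : ∑ x : (P : Subgroup G), χ.1 x = χ.1 1 + (q - 1) * χ.1 u := by
      rw [← Finset.add_sum_erase _ _ (Finset.mem_univ (1 : (P : Subgroup G)))]
      congr 1
      rw [Finset.sum_congr rfl (g := fun _ => χ.1 u), Finset.sum_const,
        Finset.card_erase_of_mem (Finset.mem_univ _), Finset.card_univ, ← Nat.card_eq_fintype_card,
        nsmul_eq_mul, Nat.cast_sub hq1.le, Nat.cast_one]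
      intro x hx
      exact hval χ x (pelt_of_mem P.isPGroup' x.2)
        fun e => (Finset.mem_erase.mp hx).1 (Subtype.ext e)
    obtain ⟨d, hd⟩ := H13.exists_nat_degree (H11.irr_isCharacter χ)
    have hq0 : (q : ℂ) - 1 ≠ 0 := sub_ne_zero.mpr (by exact_mod_cast hq1.ne')
    have h2 : χ.1 u = ((((q : ℚ) * n - d) / (q - 1) : ℚ) : ℂ) := by
      push_cast
      rw [eq_div_iff hq0, ← hn, h1, hd]; ring
    obtain ⟨a, ha⟩ := H12.exists_int_of_isIntegral_rat (h2 ▸ irr_isIntegral χ u)
    have ha' : χ.1 u = a := by rw [h2, ha]; simp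
    refine ⟨a, n - a, ha', ?_⟩
    rw [hn, ha'] at h1
    push_cast
    linear_combination -h1
  choose a m ha hm using hint
  have huinv : ∀ χ : IrrCharacter G, χ.1 u⁻¹ = a χ := fun χ => by
    rw [hval χ u⁻¹ (by rwa [orderOf_inv]) (inv_ne_one.mpr hu1), ha]
  have htr : H21.triv G ∈ principalBlock M G := H21.triv_mem_principal hM.2.1
  have hF : ∀ g : G, (q : ℂ) * ind u (ppart p g) =
      ∑ χ ∈ fB (principalBlock M G), a χ * χ.1 g := by
    intro g
    have h1 := tw_eq_sum hM hB (ind_class u) htr g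
    rw [H21.triv_apply, mul_one] at h1
    rw [h1, Finset.mul_sum]
    refine Finset.sum_congr rfl fun χ hχ => ?_
    have h2 := TT_ind_npc hM hup hC htr (mem_fB.mp hχ)
    rw [H21.triv_apply, one_mul, huinv, ← Nat.cast_pow, hq'] at h2
    rw [← mul_assoc, h2]
  have hind : ∀ g : G, ind u (ppart p g) = if p ∣ orderOf g then 1 else 0 := by
    intro g
    split_ifs with h
    · exact ind_of (hconj _ (ppart_elt g) (H20.pPart_ne_one (isPPart_ppart g) h))
    · rw [ppart_eq_iff.mpr (H20.pPart_one_of_not_dvd h)]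
      exact ind_of_not fun e => hu1 (isConj_one_left.mp e)
  have hpu : p ∣ orderOf u := H20.dvd_orderOf_of_pPart_ne_one hp (H20.pPart_self hp hup) hu1
  have e1 : ∑ χ ∈ fB (principalBlock M G), a χ ^ 2 = q := by
    have := hF u
    rw [hind, if_pos hpu, mul_one] at this
    simp only [ha] at this
    have h2 : ((∑ χ ∈ fB (principalBlock M G), a χ ^ 2 : ℤ) : ℂ) = ((q : ℤ) : ℂ) := by
      push_cast; rw [this]; simp only [sq]
    exact_mod_cast h2
  have hq0 : (q : ℂ) ≠ 0 := by exact_mod_cast (by omega : q ≠ 0)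
  refine ⟨u, a, m, ha, e1, ?_, ?_, fun hp2 => ?_, fun w hw => ?_⟩
  · have := hF 1
    rw [hind, if_neg (by simpa using hp.one_lt.ne'), mul_zero] at this
    simp only [hm] at this
    have h2 : ((∑ χ ∈ fB (principalBlock M G), a χ ^ 2 : ℤ) : ℂ) = ((q : ℤ) : ℂ) := by rw [e1]
    have h3 : (q : ℂ) * ((∑ χ ∈ fB (principalBlock M G), a χ * m χ : ℤ) : ℂ) = q * (-1 : ℤ) := by
      push_cast at h2 ⊢
      have h4 : ∑ χ ∈ fB (principalBlock M G), (a χ : ℂ) * (a χ + q * m χ) =
          ∑ χ ∈ fB (principalBlock M G), (a χ : ℂ) ^ 2 +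
            q * ∑ χ ∈ fB (principalBlock M G), (a χ : ℂ) * m χ := by
        rw [Finset.mul_sum, ← Finset.sum_add_distrib]
        exact Finset.sum_congr rfl fun χ _ => by ring
      linear_combination -this - h4 - h2
    exact_mod_cast mul_left_cancel₀ hq0 h3
  · have h1 := hm (H21.triv G)
    rw [← ha, H21.triv_apply, H21.triv_apply] at h1
    have h2 : (q : ℂ) * m (H21.triv G) = 0 := by linear_combination -h1
    exact_mod_cast (mul_eq_zero.mp h2).resolve_left hq0
  · have hsq : ∀ g : G, p ∣ orderOf (g * g) ↔ p ∣ orderOf g := by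
      intro g
      refine ⟨fun h => h.trans (by rw [← sq]; exact orderOf_pow_dvd 2), fun h => ?_⟩
      have h1 : orderOf g ∣ 2 * orderOf (g * g) := by
        rw [orderOf_dvd_iff_pow_eq_one, pow_mul, sq, pow_orderOf_eq_one]
      exact ((hp.dvd_mul.mp (h.trans h1)).resolve_left fun h2 =>
        hp2 ((Nat.prime_dvd_prime_iff_eq hp Nat.prime_two).mp h2))
    have h1 : ∑ g : G, (q : ℂ) * ind u (ppart p (g * g)) = ∑ g : G, (q : ℂ) * ind u (ppart p g) :=
      Finset.sum_congr rfl fun g _ => by simp only [hind, hsq]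
    have h2 := TT_ind_npc hM hup hC htr htr
    rw [H21.triv_apply, H21.triv_apply, one_mul, ← Nat.cast_pow, hq', TT, classInner] at h2
    simp only [tw, H21.triv_coe, mul_one, map_one] at h2
    have hG : (Nat.card G : ℂ) ≠ 0 := Nat.cast_ne_zero.mpr Nat.card_pos.ne'
    calc ∑ χ ∈ fB (principalBlock M G), a χ * nu χ
        = (Nat.card G : ℂ)⁻¹ * ∑ g : G, ∑ χ ∈ fB (principalBlock M G), a χ * χ.1 (g * g) := by
          rw [Finset.sum_comm, Finset.mul_sum]
          refine Finset.sum_congr rfl fun χ _ => ?_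
          rw [nu, ← Finset.mul_sum]; ring
      _ = (Nat.card G : ℂ)⁻¹ * ∑ g : G, (q : ℂ) * ind u (ppart p g) := by
          rw [← h1]; simp only [hF]
      _ = 1 := by rw [← h2, ← Finset.mul_sum]; ring
  · set s := ∑ χ ∈ fB (principalBlock M G), a χ * w χ with hs
    have ht : H21.triv G ∈ fB (principalBlock M G) := mem_fB.mpr htr
    have a1 : a (H21.triv G) = 1 := by
      have h1 := ha (H21.triv G)
      rw [H21.triv_apply] at h1
      exact_mod_cast h1.symm
    have key := (H54.BdCh.gen ineq G (ι := fB (principalBlock M G)) (fun i => i.1)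
      Subtype.val_injective ⟨_, ht⟩ H21.triv_coe (fun i => s * a i.1 - q * w i.1) q (by omega)
      (fun g => by
        have e : (∑ i : fB (principalBlock M G),
            ((s * a i.1 - q * w i.1 : ℤ) : ℂ) * (i.1 : G → ℂ) g) / q =
            s * ind u (ppart p g) - ∑ χ ∈ fB (principalBlock M G), (w χ : ℂ) * χ.1 g := by
          rw [Finset.sum_coe_sort (fB (principalBlock M G))
            (fun χ => ((s * a χ - q * w χ : ℤ) : ℂ) * (χ : G → ℂ) g), div_eq_iff hq0, sub_mul,
            mul_assoc, mul_comm _ (q : ℂ), hF, Finset.mul_sum, Finset.sum_mul,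
            ← Finset.sum_sub_distrib]
          exact Finset.sum_congr rfl fun χ _ => by push_cast; ring
        rw [e, hind]
        refine IsIntegral.sub (IsIntegral.mul (isIntegral_intCast _) ?_)
          (IsIntegral.sum _ fun χ _ => (isIntegral_intCast _).mul (irr_isIntegral χ g))
        split_ifs
        · exact isIntegral_one
        · exact isIntegral_zero)).1
    rw [Finset.sum_coe_sort (fB (principalBlock M G)) (fun χ => (s * a χ - q * w χ) ^ 2)] at key
    have e2 : ∑ χ ∈ fB (principalBlock M G), (s * a χ - q * w χ) ^ 2 =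
        s ^ 2 * ∑ χ ∈ fB (principalBlock M G), a χ ^ 2 -
          2 * s * q * ∑ χ ∈ fB (principalBlock M G), a χ * w χ +
          q ^ 2 * ∑ χ ∈ fB (principalBlock M G), w χ ^ 2 := by
      simp only [Finset.mul_sum]
      rw [← Finset.sum_sub_distrib, ← Finset.sum_add_distrib]
      exact Finset.sum_congr rfl fun χ _ => by ring
    rw [e2, e1, ← hs] at key
    simp only [a1, hw] at key
    have hqp : (0 : ℤ) < q := by exact_mod_cast (by omega : 0 < q)
    refine le_of_mul_le_mul_left ?_ hqp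
    linarith

theorem set0 : H76.K4.SetStmt.{u} := set' H54.BdCh.ineq0

end Cfsg.Agent.H1.K4Set
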