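import Cfsg.Agent.H44.K5Defs

set_option autoImplicit false

namespace Cfsg.Agent.H1.K5Herm

open Matrix

theorem ent {m : ℕ} (A U : Matrix (Fin m) (Fin m) ℤ) (i j : Fin m) :
    (Uᵀ * A * U) i j = (fun r => U r i) ⬝ᵥ A *ᵥ (fun r => U r j) := by
  rw [Matrix.mul_assoc]; rfl

theorem col_ne {m : ℕ} {U : Matrix (Fin m) (Fin m) ℤ} (hU : U.det ≠ 0) (i : Fin m) :
    (fun r => U r i) ≠ 0 := fun h => hU (det_eq_zero_of_column_eq_zero i fun r => congrFun h r)

theorem expand {m : ℕ} (B : Matrix (Fin (m + 1)) (Fin (m + 1)) ℤ) (hB : Bᵀ = B) (k l : ℤ)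
    (y z : Fin m → ℤ) : (Fin.cons k y : Fin (m + 1) → ℤ) ⬝ᵥ B *ᵥ (Fin.cons l z) =
      k * B 0 0 * l + k * ((fun j => B 0 j.succ) ⬝ᵥ z) + l * ((fun j => B 0 j.succ) ⬝ᵥ y) +
        y ⬝ᵥ (B.submatrix Fin.succ Fin.succ) *ᵥ z := by
  have hs : ∀ i : Fin m, B i.succ 0 = B 0 i.succ := fun i => congrFun (congrFun hB 0) i.succ
  simp only [dotProduct, mulVec, Fin.sum_univ_succ, Fin.cons_zero, Fin.cons_succ, hs, mul_add,
    Finset.sum_add_distrib, submatrix_apply]
  have : ∑ i, y i * (B 0 i.succ * l) = l * ∑ i, B 0 i.succ * y i := by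
    rw [Finset.mul_sum]; exact Finset.sum_congr rfl fun _ _ => by ring
  rw [this]; ring

theorem herm : H44.K5.HermStmt := by
  intro n
  induction n with
  | zero => intro A _ _; exact ⟨1, by simp, by simp⟩
  | succ n ih =>
    intro A hA hp
    have hex : ∃ a : ℕ, ∃ U : Matrix (Fin (n + 2)) (Fin (n + 2)) ℤ, IsUnit U.det ∧
        (Uᵀ * A * U) 0 0 = a := ⟨_, 1, by simp, (Int.toNat_of_nonneg
          (by rw [ent]; exact (hp _ (col_ne (by simp) 0)).le)).symm⟩
    classical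
    obtain ⟨U0, hU0, h0⟩ := Nat.find_spec hex
    refine ⟨U0, hU0, ?_⟩
    have hdet : (U0ᵀ * A * U0).det = A.det := by
      rw [det_mul, det_mul, det_transpose]
      rcases Int.isUnit_iff.1 hU0 with h | h <;> rw [h] <;> ring
    have hmin : ∀ U : Matrix (Fin (n + 2)) (Fin (n + 2)) ℤ, IsUnit U.det →
        (U0ᵀ * A * U0) 0 0 ≤ (Uᵀ * (U0ᵀ * A * U0) * U) 0 0 := fun U hU => by
      have hu : IsUnit (U0 * U).det := by rw [det_mul]; exact hU0.mul hU
      have e : Uᵀ * (U0ᵀ * A * U0) * U = (U0 * U)ᵀ * A * (U0 * U) := by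
        simp only [transpose_mul, Matrix.mul_assoc]
      have h1 : 0 ≤ ((U0 * U)ᵀ * A * (U0 * U)) 0 0 := by
        rw [ent]; exact (hp _ (col_ne hu.ne_zero 0)).le
      have h2 := Nat.find_min' hex ⟨U0 * U, hu, (Int.toNat_of_nonneg h1).symm⟩
      rw [e, h0]; omega
    have hB : (U0ᵀ * A * U0)ᵀ = U0ᵀ * A * U0 := by
      simp only [transpose_mul, transpose_transpose, hA, Matrix.mul_assoc]
    have hpB : ∀ x : Fin (n + 2) → ℤ, x ≠ 0 → 0 < x ⬝ᵥ (U0ᵀ * A * U0) *ᵥ x := fun x hx => by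
      rw [← mulVec_mulVec, ← mulVec_mulVec, dotProduct_mulVec, vecMul_transpose]
      exact hp _ fun h => hx (eq_zero_of_mulVec_eq_zero hU0.ne_zero h)
    have ha : 0 < (U0ᵀ * A * U0) 0 0 := by rw [ent]; exact hp _ (col_ne hU0.ne_zero 0)
    rw [← hdet]
    clear h0 hdet
    generalize U0ᵀ * A * U0 = B at *
    set a := B 0 0 with hadef
    set b : Fin (n + 1) → ℤ := fun j => B 0 j.succ with hb
    set C := B.submatrix Fin.succ Fin.succ with hC
    have hq : ∀ y z : Fin (n + 1) → ℤ, y ⬝ᵥ (a • C - vecMulVec b b) *ᵥ z =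
        a * (y ⬝ᵥ C *ᵥ z) - (b ⬝ᵥ y) * (b ⬝ᵥ z) := fun y z => by
      rw [sub_mulVec, dotProduct_sub, smul_mulVec, dotProduct_smul, vecMulVec_mulVec]
      rw [op_smul_eq_smul, dotProduct_smul, dotProduct_comm y b, smul_eq_mul, smul_eq_mul]
      ring
    obtain ⟨V, hV, hS⟩ := ih (a • C - vecMulVec b b)
      (by rw [transpose_sub, transpose_smul, transpose_vecMulVec, hC, transpose_submatrix, hB])
      (fun y hy => by
        have h1 := hpB (Fin.cons (-(b ⬝ᵥ y)) (a • y)) (fun h => hy (by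
          funext i
          have := congrFun h i.succ
          simpa [ha.ne'] using this))
        rw [expand B hB, mulVec_smul, smul_dotProduct, dotProduct_smul, dotProduct_smul] at h1
        rw [hq]
        simp only [smul_eq_mul, ← hb, ← hC, ← hadef] at h1
        refine (mul_pos_iff_of_pos_left ha).1 ?_
        linarith)
    have hdS : (a • C - vecMulVec b b).det = a ^ n * B.det := by
      let E : Matrix (Fin (n + 2)) (Fin (n + 2)) ℤ := Matrix.of fun r c =>
        (Fin.cons (Fin.cons 1 0) (fun j => Fin.cons (-b j) (Pi.single j a)) :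
          Fin (n + 2) → Fin (n + 2) → ℤ) c r
      have hE : E.det = a ^ (n + 1) := by
        rw [det_succ_column_zero, Fin.sum_univ_succ, Finset.sum_eq_zero (by simp [E])]
        have : E.submatrix (Fin.succAbove 0) Fin.succ = a • (1 : Matrix _ _ ℤ) := by
          ext i j; simp [E, Pi.single_apply, one_apply]
        rw [this, det_smul]; simp [E]
      have c0 : (fun r => E r 0) = Fin.cons 1 0 := rfl
      have cs : ∀ j : Fin (n + 1), (fun r => E r j.succ) = Fin.cons (-b j) (Pi.single j a) :=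
        fun _ => rfl
      have hD : (Eᵀ * B * E).det = a * (a ^ (n + 1) * (a • C - vecMulVec b b).det) := by
        rw [det_succ_row_zero, Fin.sum_univ_succ, Finset.sum_eq_zero (fun j _ => by
          rw [ent, c0, cs, expand B hB]; simp [hb, hadef]; left; ring)]
        have : (Eᵀ * B * E).submatrix Fin.succ (Fin.succAbove 0) = a • (a • C - vecMulVec b b) := by
          ext i j
          rw [submatrix_apply, Fin.succAbove_zero, ent, cs, cs, expand B hB, Matrix.smul_apply,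
            Matrix.sub_apply, Matrix.smul_apply]
          simp [vecMulVec_apply, hb, hC, ← hadef]
          ring
        rw [this, det_smul, ent, c0, expand B hB]
        simp [hadef]
      rw [det_mul, det_mul, det_transpose, hE] at hD
      apply mul_left_cancel₀ (pow_ne_zero (n + 2) ha.ne')
      linear_combination -hD
    set y : Fin (n + 1) → ℤ := fun r => V r 0 with hy
    obtain ⟨k, hk⟩ : ∃ k : ℤ, 4 * (b ⬝ᵥ y + k * a) ^ 2 ≤ a ^ 2 := by
      refine ⟨-((2 * (b ⬝ᵥ y) + a) / (2 * a)), ?_⟩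
      have h1 := Int.emod_nonneg (2 * (b ⬝ᵥ y) + a) (by omega : 2 * a ≠ 0)
      have h2 := Int.emod_lt_of_pos (2 * (b ⬝ᵥ y) + a) (by omega : 0 < 2 * a)
      have h3 := Int.emod_add_mul_ediv (2 * (b ⬝ᵥ y) + a) (2 * a)
      generalize (2 * (b ⬝ᵥ y) + a) / (2 * a) = w at *
      generalize (2 * (b ⬝ᵥ y) + a) % (2 * a) = r at *
      have : 2 * (b ⬝ᵥ y + -w * a) = r - a := by linarith
      nlinarith
    let W : Matrix (Fin (n + 2)) (Fin (n + 2)) ℤ := Matrix.of fun r c =>
      (Fin.cons (Fin.cons 1 0) (fun j => Fin.cons k (fun i => V i j)) :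
        Fin (n + 2) → Fin (n + 2) → ℤ) c r
    have hW : W.det = V.det := by
      rw [det_succ_column_zero, Fin.sum_univ_succ, Finset.sum_eq_zero (by simp [W])]
      have : W.submatrix (Fin.succAbove 0) Fin.succ = V := by ext i j; simp [W]
      rw [this]; simp [W]
    have h1 := hmin (W.submatrix id (Equiv.swap 0 (Fin.succ 0))) (by
      rw [det_permute', hW]
      exact (Units.isUnit _).mul hV)
    have cw : (fun r => (W.submatrix id (Equiv.swap 0 (Fin.succ 0))) r 0) = Fin.cons k y := by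
      funext r; rw [submatrix_apply, Equiv.swap_apply_left]; rfl
    rw [ent, cw, expand B hB] at h1
    rw [ent, hq, hdS] at hS
    simp only [← hb, ← hC, ← hadef, ← hy] at h1 hS
    have h2 : 3 * a ^ 2 ≤ 4 * (a * (y ⬝ᵥ C *ᵥ y) - b ⬝ᵥ y * (b ⬝ᵥ y)) := by
      nlinarith [mul_le_mul_of_nonneg_left h1 ha.le]
    have h3 := pow_le_pow_left₀ (by positivity) h2 (n + 1)
    have hm : (n + 1) * (n + 1 + 1) / 2 = n * (n + 1) / 2 + (n + 1) := by
      rw [← Nat.add_mul_div_right _ _ two_pos]; congr 1; ring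
    rw [hm]
    generalize n * (n + 1) / 2 = m at *
    generalize a * (y ⬝ᵥ C *ᵥ y) - b ⬝ᵥ y * (b ⬝ᵥ y) = s at *
    refine le_of_mul_le_mul_left ?_ (pow_pos ha n)
    calc a ^ n * (a ^ (n + 1 + 1) * 3 ^ (m + (n + 1))) = (3 * a ^ 2) ^ (n + 1) * 3 ^ m := by ring
      _ ≤ (4 * s) ^ (n + 1) * 3 ^ m := by gcongr
      _ = 4 ^ (n + 1) * (s ^ (n + 1) * 3 ^ m) := by ring
      _ ≤ 4 ^ (n + 1) * (4 ^ m * (a ^ n * B.det)) := by gcongr
      _ = _ := by ring

end Cfsg.Agent.H1.K5Herm
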