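import Cfsg.Agent.H11.CyLp
import Cfsg.Agent.H1.LpFour

/-! Project CY, chapter LP: the end of piece B4 (`p = 5`, `⨆ A x ≅ L₂(2^a)`). -/

set_option autoImplicit false

namespace Cfsg.Agent.H1.LpB4e

open Subgroup MulAction Cfsg.Agent.H11.Cy Cfsg.Agent.H11.Cy.Lp

theorem fuse {L : Type} [Group L] [Finite L] (h60 : Nat.card L = 60) (z s : L) (z2 : z * z = 1)
    (z1 : z ≠ 1) (s2 : s * s = 1) (s1 : s ≠ 1) (zs : s ≠ z) (c : z * s = s * z)
    (cls : ∀ t : L, t * t = 1 → t ≠ 1 → ∃ g : L, g⁻¹ * z * g = t) :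
    ∃ t a : L, (t = s ∨ t = z * s) ∧ a * z * a⁻¹ = t ∧ a * t * a⁻¹ = z * t := by
  classical
  have : Fact (Nat.Prime 2) := ⟨Nat.prime_two⟩
  have zi : z⁻¹ = z := inv_eq_of_mul_eq_one_right z2
  have si : s⁻¹ = s := inv_eq_of_mul_eq_one_right s2
  have zz : ∀ w, z * (z * w) = w := fun w => by rw [← mul_assoc, z2, one_mul]
  have w2 : z * s * (z * s) = 1 := by rw [mul_assoc, ← mul_assoc s, ← c, mul_assoc, s2, mul_one, z2]
  have w1 : z * s ≠ 1 := fun e => zs (by rw [← zz s, e, mul_one])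
  have wz : z * s ≠ z := fun e => s1 (by rw [← zz s, e, z2])
  have ws : z * s ≠ s := fun e => z1 (mul_right_cancel (e.trans (one_mul s).symm))
  have sw : s * (z * s) = z := by rw [← mul_assoc, ← c, mul_assoc, s2, mul_one]
  have wz' : z * s * z = s := by rw [mul_assoc, ← c, zz]
  have ws' : z * s * s = z := by rw [mul_assoc, s2, mul_one]
  let V : Subgroup L :=
    { carrier := {1, z, s, z * s}
      one_mem' := by simp
      mul_mem' := by
        rintro a b (rfl | rfl | rfl | rfl) (h | h | h | h) <;> rw [h] <;>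
          simp [z2, s2, ← c, zz, w2, sw, wz', ws']
      inv_mem' := by
        rintro a (rfl | rfl | rfl | rfl) <;> simp [zi, si, ← c] }
  have mV : ∀ g, g ∈ V ↔ g = 1 ∨ g = z ∨ g = s ∨ g = z * s := fun g => Iff.rfl
  have cV : Nat.card V = 4 := by
    change Nat.card ({1, z, s, z * s} : Set L) = 4
    rw [Nat.card_coe_set_eq, Set.ncard_insert_of_notMem, Set.ncard_insert_of_notMem,
      Set.ncard_pair ws.symm]
    · simp [zs.symm, wz.symm]
    · simp [z1.symm, s1.symm, w1.symm]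
  let P : Sylow 2 L := Sylow.ofCard V (by
    rw [cV, h60, show (60 : ℕ) = 2 ^ 2 * 15 by norm_num, Nat.factorization_mul (by norm_num) (by norm_num),
      Nat.Prime.factorization_pow Nat.prime_two]
    simp [Nat.factorization_eq_zero_of_not_dvd])
  have hc : IsMulCommutative (P : Subgroup L) := ⟨⟨fun a b => Subtype.ext (by
    obtain ⟨a, ha⟩ := a
    obtain ⟨b, hb⟩ := b
    change a * b = b * a
    rcases (mV a).1 ha with h | h | h | h <;> rcases (mV b).1 hb with h' | h' | h' | h' <;>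
      rw [h, h'] <;> simp [← c, zz, sw, wz', ws'])⟩⟩
  have key : ∀ t ∈ V, t * t = 1 → t ≠ 1 → ∃ n : L, n * z * n⁻¹ = t ∧ ∀ v ∈ V, n * v * n⁻¹ ∈ V := by
    intro t ht t2 t1
    obtain ⟨g, hg⟩ := cls t t2 t1
    obtain ⟨n, hn, e⟩ := P.conj_eq_normalizer_conj_of_mem z g (Or.inr (Or.inl rfl)) (hg ▸ ht)
    refine ⟨n⁻¹, by rw [inv_inv, ← e, hg], fun v hv => ?_⟩
    exact (mem_normalizer_iff.1 (inv_mem hn) v).1 hv
  have cinj : ∀ n u v : L, n * u * n⁻¹ = n * v * n⁻¹ → u = v := fun n u v h =>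
    mul_left_cancel (mul_right_cancel h)
  have cm : ∀ n u v : L, n * (u * v) * n⁻¹ = n * u * n⁻¹ * (n * v * n⁻¹) := fun n u v => by group
  obtain ⟨a, a1, aV⟩ := key s (Or.inr (Or.inr (Or.inl rfl))) s2 s1
  obtain ⟨b, b1, bV⟩ := key (z * s) (Or.inr (Or.inr (Or.inr rfl))) w2 w1
  rcases (mV _).1 (aV s (Or.inr (Or.inr (Or.inl rfl)))) with h | h | h | h
  · exact absurd (cinj a s 1 (by rw [h]; group)) s1
  · rcases (mV _).1 (bV (z * s) (Or.inr (Or.inr (Or.inr rfl)))) with h' | h' | h' | h'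
    · exact absurd (cinj b _ 1 (by rw [h']; group)) w1
    · refine ⟨z * s, a * b, Or.inr rfl, ?_, ?_⟩
      · calc _ = a * (b * z * b⁻¹) * a⁻¹ := by group
          _ = _ := by rw [b1, cm, a1, h, c]
      · calc _ = a * (b * (z * s) * b⁻¹) * a⁻¹ := by group
          _ = _ := by rw [h', a1, zz]
    · exact ⟨z * s, b, Or.inr rfl, b1, by rw [h', zz]⟩
    · exact absurd (cinj b _ z (by rw [h', b1])) wz
  · exact absurd (cinj a s z (by rw [h, a1])) zs
  · exact ⟨s, a, Or.inl rfl, a1, h⟩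

variable {G : Type} [Group G] [Finite G] {Ω : Type} [MulAction G Ω] {A : Ω → Subgroup G}

theorem pair (l : L1 5 A) {z : G} (hz : orderOf z = 2) {u v : Ω} (huv : u ≠ v) (zu : z • u = u)
    (zv : z • v = v) (zF : z ∈ Fl A u v) : ∃ t ∈ Fl A u v, ∃ a ∈ Fl A u v, t • u = v ∧ t * t = 1 ∧
      z * t = t * z ∧ a * z * a⁻¹ = t ∧ a * t * a⁻¹ = z * t := by
  obtain ⟨f, s, c⟩ := l.lc u v huv
  have z2 : z * z = 1 := by rw [← pow_two, ← hz, pow_orderOf_eq_one]
  have z1 : z ≠ 1 := fun e => by rw [e, orderOf_one] at hz; exact absurd hz (by norm_num)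
  have s2 : s * s = 1 := by rw [← pow_two, ← c.so, pow_orderOf_eq_one]
  have s1 : s ≠ 1 := fun e => huv (by rw [← c.sx, e, one_smul])
  have sz : s ≠ z := fun e => huv (by rw [← c.sx, e, zu])
  have zi : z⁻¹ = z := inv_eq_of_mul_eq_one_right z2
  have cz : z * s = s * z := by
    obtain ⟨i, hi⟩ := c.TL z zF ⟨zu, zv⟩
    have : s * z * s⁻¹ = z⁻¹ := by
      rw [← hi]
      change s * f ^ i * s⁻¹ = (f ^ i)⁻¹
      rw [← conj_zpow, c.sf, inv_zpow]
    rw [zi] at this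
    rw [← this, inv_mul_cancel_right, this]
  have h60 : Nat.card (Fl A u v) = 60 := by have := (l.la u v huv).card; omega
  obtain ⟨t, a, ht, a1, a2⟩ := fuse h60 ⟨z, zF⟩ ⟨s, c.sL⟩ (Subtype.ext z2)
    (fun e => z1 (congrArg Subtype.val e)) (Subtype.ext s2) (fun e => s1 (congrArg Subtype.val e))
    (fun e => sz (congrArg Subtype.val e)) (Subtype.ext cz) (fun t t2 t1 => by
      have : Fact (Nat.Prime 2) := ⟨Nat.prime_two⟩
      obtain ⟨g, hg, e⟩ := (l.lv u v huv).cls z zF t t.2 hz (orderOf_eq_prime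
        (by rw [pow_two]; exact congrArg Subtype.val t2) (fun e => t1 (Subtype.ext e)))
      exact ⟨⟨g, hg⟩⁻¹, Subtype.ext (by simpa using e)⟩)
  have b1 : (a : G) * z * (a : G)⁻¹ = t := congrArg Subtype.val a1
  refine ⟨t, t.2, a, a.2, ?_, ?_, ?_, b1, congrArg Subtype.val a2⟩
  · rcases ht with rfl | rfl
    · exact c.sx
    · change (z * s) • u = v
      rw [mul_smul, c.sx, zv]
  · rw [← b1]
    calc _ = (a : G) * (z * z) * (a : G)⁻¹ := by group
      _ = 1 := by rw [z2]; group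
  · rcases ht with rfl | rfl
    · exact cz
    · change z * (z * s) = z * s * z
      rw [mul_assoc, ← cz]

/-- the end of B4 -/
theorem fin (l : L1 5 A) {F : Type} [Field F] (h2 : (2 : F) = 0)
    (e : (⨆ x, A x : Subgroup G) ≃* Matrix.ProjectiveSpecialLinearGroup (Fin 2) F) {z : G}
    (hz : orderOf z = 2) {u v w : Ω} (huv : u ≠ v) (huw : u ≠ w) (hvw : v ≠ w) (zu : z • u = u)
    (zv : z • v = v) (zw : z • w = w) (h1 : z ∈ Fl A u v) (h3 : z ∈ Fl A u w) : False := by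
  have le : ∀ x y, Fl A x y ≤ ⨆ x, A x := fun x y => sup_le (le_iSup A x) (le_iSup A y)
  obtain ⟨s, hs, a, ha, su, s2, cs, a1, a2⟩ := pair l hz huv zu zv h1
  obtain ⟨t, ht, b, hb, tu, t2, ct, b1, b2⟩ := pair l hz huw zu zw h3
  have z2 : z * z = 1 := by rw [← pow_two, ← hz, pow_orderOf_eq_one]
  have z1 : z ≠ 1 := fun e => by rw [e, orderOf_one] at hz; exact absurd hz (by norm_num)
  rcases LpFour.four h2 e ⟨z, le u v h1⟩ ⟨s, le u v hs⟩ ⟨t, le u w ht⟩ ⟨a, le u v ha⟩ ⟨b, le u w hb⟩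
    (Subtype.ext z2) (fun e => z1 (congrArg Subtype.val e)) (Subtype.ext s2) (Subtype.ext t2)
    (Subtype.ext cs) (Subtype.ext ct) (Subtype.ext a1) (Subtype.ext a2) (Subtype.ext b1)
    (Subtype.ext b2) with h | h
  · have : t = s := congrArg Subtype.val h
    exact hvw (by rw [← su, ← tu, this])
  · have : t = z * s := congrArg Subtype.val h
    exact hvw (by rw [← tu, this, mul_smul, su, zv])

end Cfsg.Agent.H1.LpB4e
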