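import Cfsg.Agent.H48.M2Defs
import Cfsg.Agent.H95.ParNeg
import Cfsg.Agent.H49.MonS5

/-! All arks of the Monster are conjugate; normalizers of singular subgroups. -/

set_option autoImplicit false

namespace Cfsg.Agent.H48.M2

open Cfsg Subgroup Cfsg.Agent.H48 Cfsg.Agent.H48.Rec Cfsg.Agent.H49 Cfsg.Agent.H95.Par
open Cfsg.Agent.H97.Gr (DD ZZ)
open Cfsg.Agent.H97.Yt (M)

namespace AC

theorem exZ : ∃ z : M, z ∈ ZZ := ⟨H97.Gr.zA, IsConj.refl _⟩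

theorem ark_of (ak : Ak0Stmt) {A : Subgroup M} {u b : M} {θ : Th u} {R : Lam → M → Prop}
    (h : Std A u b θ R) : Ark A :=
  ⟨u, b, ⟨θ, R, h.ch, h.ass⟩, (ak A u b θ R h b h.ass).1.symm⟩

theorem dd {A : Subgroup M} {u b : M} {θ : Th u} {R : Lam → M → Prop} (h : Std A u b θ R) :
    b ∈ DD :=
  (two (h.ten.sq b h.ten.bE) fun e => h.ten.bQ (e ▸ one_mem _)).resolve_right fun hz =>
    h.ten.nb (ZZ_conj h.ch.zz hz)

theorem ass_conj {G : Type*} [Group G] {z y : G} {θ : centralizer ({z} : Set G) →* Spor.Co1}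
    (hs : Function.Surjective θ) {x w : Co0} (a : Ass θ x y) (e : IsConj (mk1 w) (mk1 x)) :
    ∃ k, k * z * k⁻¹ = z ∧ Ass θ w (k * y * k⁻¹) := by
  obtain ⟨d, hd⟩ := isConj_iff.1 e.symm
  obtain ⟨k, rfl⟩ := hs d
  obtain ⟨h3, hx⟩ := a
  refine ⟨k, by rw [mem_centralizer_singleton_iff.1 k.2, mul_inv_cancel_right],
    (k * ⟨_, h3⟩ * k⁻¹).2, ?_⟩
  change mk1 w = θ (k * ⟨_, h3⟩ * k⁻¹)
  rw [map_mul, map_mul, map_inv, ← hx, ← hd]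
  rfl

end AC

theorem ac_of (ak : Ak0Stmt) : AcStmt := by
  obtain ⟨z, hz⟩ := AC.exZ
  obtain ⟨θ₀, R₀, c₀⟩ := chart hz
  obtain ⟨A₀, b₀, s₀⟩ := exists_std c₀
  refine ⟨A₀, AC.ark_of ak s₀, ?_⟩
  rintro A ⟨u, y, ⟨θ, R, c, a⟩, rfl⟩
  obtain ⟨A, b, s⟩ := exists_std c
  rw [(ak A u b θ R s y a).1, ← (ak A u b θ R s b s.ass).1]
  obtain ⟨g, hg⟩ := isConj_iff.1 (ZZ_conj c.zz hz)
  have h1 : g * b * g⁻¹ ∈ DD := DD_cj g (AC.dd s)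
  have h2 : g * b * g⁻¹ ∉ Qz z := by
    rw [← hg, Qz_cj c.zz, mem_cj]
    simpa [mul_assoc] using s.ten.bQ
  have h3 : g * b * g⁻¹ ∈ centralizer ({z} : Set M) := by
    rw [mem_centralizer_singleton_iff, ← hg, conj_mul, conj_mul, s.ass.comm]
  obtain ⟨x, hx⟩ := mk1_surj (θ₀ ⟨_, h3⟩)
  have a0 : Ass θ₀ x (g * b * g⁻¹) := ⟨h3, hx⟩
  obtain ⟨k, hk, a1⟩ := AC.ass_conj c₀.surj a0 (out z θ₀ R₀ c₀ x _ a0 h1 h2)
  refine ⟨((k : M) * g)⁻¹, ?_⟩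
  rw [← (ak A₀ z b₀ θ₀ R₀ s₀ _ a1).1, ← cj_inv_cj (Ak u b) (k * g), cj_mul, cj_Ak c.zz, hg,
    cj_Ak hz, hk]

theorem sg_of (ak : Ak0Stmt) : SgStmt := by
  obtain ⟨z, hz⟩ := AC.exZ
  obtain ⟨θ, R, c⟩ := chart hz
  obtain ⟨s, r⟩ := c.ex2 (e8 none)
  have h := Ch.ms c r
  obtain ⟨E, b, t, e, a, n⟩ := h.exists_ten2
  have sd : Std E z b θ R := ⟨c, t, fun x => by rw [e]; rfl, a, n⟩
  have f := h.five_two t
  refine ⟨![zpowers z, closure {z, s}, h.pre (spK K5 2), h.pre (spK K5 4)], fun i => ?_,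
    fun U hU sU => ?_⟩
  · fin_cases i <;> exact f _ (by simp)
  · have su : SgU (Qz z) z U := fun u hu u1 => by
      obtain ⟨g, hg⟩ := isConj_iff.1 (ZZ_conj hz (sU u hu u1).1)
      exact ⟨g, hg, by rw [← Qz_cj hz, hg]; exact (sU u hu u1).2⟩
    obtain ⟨g, X, hX, le⟩ := h.sing t e n hU su
    simp only [List.mem_cons, List.not_mem_nil, or_false] at hX
    rcases hX with rfl | rfl | rfl | rfl | rfl
    · exact .inl ⟨0, g, le⟩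
    · exact .inl ⟨1, g, le⟩
    · exact .inl ⟨2, g, le⟩
    · exact .inl ⟨3, g, le⟩
    · exact .inr ⟨_, (AC.ark_of ak sd).cj g, le⟩

end Cfsg.Agent.H48.M2
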