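import Cfsg.Agent.H1.SubCount
import Cfsg.Agent.H9.Taussky
import Cfsg.Agent.H9.SelfCent
import Cfsg.Agent.S0112
import Cfsg.Agent.H7.CommCalc

/-!
Reduction of subgroup counts to a Sylow subgroup; Miller's theorem on the number of cyclic
subgroups of a `p`-group; Kulakoff's theorem.
-/

set_option autoImplicit false
open scoped Pointwise commutatorElement

namespace Cfsg.Agent.H1

open Subgroup

variable {G : Type*} [Group G] {p : ℕ}

theorem le_sylow_of_le_normalizer (P : Sylow p G) {H : Subgroup G} (hH : IsPGroup p H)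
    (h : (P : Subgroup G) ≤ normalizer (H : Set G)) : H ≤ P :=
  le_sup_right.trans (P.3 (P.2.to_sup_of_normal_right' hH h) le_sup_left).le

/-- Frobenius -/
theorem nSub_modEq_one [Finite G] (hp : p.Prime) {k : ℕ} (h : p ^ k ∣ Nat.card G) :
    nSub G (p ^ k) ≡ 1 [MOD p] := by
  have : Fact p.Prime := ⟨hp⟩
  let P : Sylow p G := default
  refine (card_subgroups_modEq hp P.2 (fun H => Nat.card H = p ^ k) fun g _ H hH => by
    rw [card_conj_smul, hH]).trans ?_
  rw [card_subtype_congr (q := fun H : Subgroup G => (Nat.card H = p ^ k ∧ H ≤ P) ∧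
    (P : Subgroup G) ≤ normalizer (H : Set G)) fun H =>
    ⟨fun h => ⟨⟨h.1, le_sylow_of_le_normalizer P (IsPGroup.of_card h.1) h.2⟩, h.2⟩,
      fun h => ⟨h.1.1, h.2⟩⟩]
  exact card_normalized_modEq_one hp P.2 P.2 le_normalizer (P.pow_dvd_card_of_pow_dvd_card h)

theorem card_le_card_sylow [Finite G] [Fact p.Prime] (P : Sylow p G) {H : Subgroup G}
    (hH : IsPGroup p H) : Nat.card H ≤ Nat.card P := by
  obtain ⟨k, hk⟩ := IsPGroup.iff_card.1 hH
  exact hk ▸ Nat.le_of_dvd Nat.card_pos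
    (P.pow_dvd_card_of_pow_dvd_card (hk ▸ H.card_subgroup_dvd_card))

theorem eq_or_eq_of_relIndex_prime [Finite G] (hp : p.Prime) {M T R : Subgroup G} (h1 : M ≤ T)
    (h2 : T ≤ R) (h : M.relIndex R = p) : T = M ∨ T = R := by
  rw [← relIndex_mul_relIndex M T R h1 h2] at h
  rcases (Nat.dvd_prime hp).1 ⟨_, h.symm⟩ with e | e
  · exact Or.inl (le_antisymm (relIndex_eq_one.1 e) h1)
  · rw [e, Nat.mul_eq_left hp.ne_zero] at h
    exact Or.inr (le_antisymm h2 (relIndex_eq_one.1 h))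

/-- P. Hall: modulo `p ^ 2` only subgroups of a Sylow subgroup count -/
theorem nSub_modEq_sylow [Finite G] (hp : p.Prime) (P : Sylow p G) {a : ℕ}
    (h : p ^ (a + 1) ∣ Nat.card G) : nSub G (p ^ a) ≡ nSub P (p ^ a) [MOD p ^ 2] := by
  have : Fact p.Prime := ⟨hp⟩
  have hP : ∀ g ∈ (P : Subgroup G), MulAut.conj g • (P : Subgroup G) = P := fun g hg =>
    mem_normalizer_iff_conj_smul.1 (le_normalizer hg)
  rw [nSub, card_subtype_split _ fun H : Subgroup G => H ≤ P, card_subgroups_le, nSub,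
    card_subtype_congr (q := fun L : Subgroup P => Nat.card L = p ^ a) fun L => by
      rw [card_map_of_injective (subtype_injective _)]]
  refine ((Nat.modEq_iff_dvd' (Nat.le_add_right _ _)).2 ?_).symm
  rw [Nat.add_sub_cancel_left, card_subtype_split _
    fun H : Subgroup G => p ^ 2 ∣ (normalizer (H : Set G)).relIndex P]
  have hrel : ∀ g ∈ (P : Subgroup G), ∀ H : Subgroup G,
      (normalizer ((MulAut.conj g • H : Subgroup G) : Set G)).relIndex P =
        (normalizer (H : Set G)).relIndex P := by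
    intro g hg H
    rw [normalizer_conj_smul]
    conv_lhs => rw [← hP g hg]
    exact relIndex_pointwise_smul _ _ _
  have hinv : ∀ g ∈ (P : Subgroup G), ∀ H : Subgroup G, (Nat.card H = p ^ a ∧ ¬ H ≤ P) →
      (Nat.card (MulAut.conj g • H : Subgroup G) = p ^ a ∧ ¬ MulAut.conj g • H ≤ P) := by
    intro g hg H hH
    refine ⟨by rw [card_conj_smul, hH.1], fun hle => hH.2 ?_⟩
    rwa [← hP g hg, pointwise_smul_le_pointwise_smul_iff] at hle
  refine Dvd.dvd.add (dvd_card_subgroups_of_relIndex (P : Subgroup G) _ (fun g hg H hH =>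
    ⟨hinv g hg H hH.1, by rw [hrel g hg]; exact hH.2⟩) fun H hH => hH.2) ?_
  let τ : Subgroup G → Subgroup G := fun H => (normalizer (H : Set G) ⊓ P) ⊔ H
  have hτ : ∀ g ∈ (P : Subgroup G), ∀ H, τ (MulAut.conj g • H) = MulAut.conj g • τ H := by
    intro g hg H
    simp only [τ, smul_sup, smul_inf, normalizer_conj_smul, hP g hg]
  refine dvd_card_subgroups_of_equivariant (P : Subgroup G) (fun H : Subgroup G =>
    (Nat.card H = p ^ a ∧ ¬ H ≤ P) ∧ ¬ p ^ 2 ∣ (normalizer (H : Set G)).relIndex P) τ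
    (fun g hg x => ?_) fun H₀ hH₀ => ?_
  · refine Nat.card_congr ⟨fun t => ⟨MulAut.conj g⁻¹ • t.1, ⟨hinv _ (inv_mem hg) _ t.2.1.1, ?_⟩, ?_⟩,
      fun t => ⟨MulAut.conj g • t.1, ⟨hinv _ hg _ t.2.1.1, ?_⟩, ?_⟩, fun t => Subtype.ext ?_,
      fun t => Subtype.ext ?_⟩
    · rw [hrel _ (inv_mem hg)]; exact t.2.1.2
    · rw [hτ _ (inv_mem hg), t.2.2, conj_smul_conj_smul, inv_mul_cancel, map_one, one_smul]
    · rw [hrel _ hg]; exact t.2.1.2
    · rw [hτ _ hg, t.2.2]
    · simp only [conj_smul_conj_smul, mul_inv_cancel, map_one, one_smul]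
    · simp only [conj_smul_conj_smul, inv_mul_cancel, map_one, one_smul]
  -- the structure of the exceptional configuration
  have hidx : ∀ H : Subgroup G, Nat.card H = p ^ a → ¬ H ≤ P →
      ¬ p ^ 2 ∣ (normalizer (H : Set G)).relIndex P → (normalizer (H : Set G)).relIndex P = p := by
    intro H h1 h2 h3
    obtain ⟨k, hk⟩ := P.2.index ((normalizer (H : Set G)).subgroupOf P)
    change (normalizer (H : Set G)).relIndex P = _ at hk
    rw [hk] at h3 ⊢
    have hk0 : k ≠ 0 := by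
      rintro rfl
      exact h2 (le_sylow_of_le_normalizer P (IsPGroup.of_card h1) (relIndex_eq_one.1 hk))
    have : ¬ 2 ≤ k := fun h => h3 (pow_dvd_pow p h)
    rw [show k = 1 by omega, pow_one]
  obtain ⟨⟨h1, h2⟩, h3⟩ := hH₀
  set M := normalizer (H₀ : Set G) ⊓ P with hM
  set R := τ H₀ with hR
  have hMP : M.relIndex P = p := by rw [hM, inf_relIndex_right, hidx H₀ h1 h2 h3]
  have hRp : IsPGroup p R :=
    P.2.to_inf_right.to_sup_of_normal_right' (IsPGroup.of_card h1) inf_le_left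
  have hMR : M ≤ R := le_sup_left
  have hH₀M : ¬ H₀ ≤ M := fun h => h2 (h.trans inf_le_right)
  have hMc : Nat.card M * p = Nat.card P := by
    have := card_mul_relIndex (inf_le_right : M ≤ P)
    rwa [hMP] at this
  have hMR' : M.relIndex R = p := by
    obtain ⟨k, hk⟩ := hRp.index (M.subgroupOf R)
    change M.relIndex R = _ at hk
    have hk0 : k ≠ 0 := by
      rintro rfl
      exact hH₀M (le_sup_right.trans (relIndex_eq_one.1 hk))
    have := card_le_card_sylow P hRp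
    rw [← card_mul_relIndex hMR, ← hMc, hk] at this
    have := Nat.le_of_mul_le_mul_left this Nat.card_pos
    rw [← pow_one p, ← pow_mul, Nat.pow_le_pow_iff_right hp.one_lt] at this
    rw [hk, show k = 1 by omega, pow_one]
  have hRc : Nat.card R = Nat.card P := by rw [← card_mul_relIndex hMR, hMR', hMc]
  have hRP : R ⊓ P = M := (eq_or_eq_of_relIndex_prime hp (le_inf hMR inf_le_right) inf_le_left
    hMR').resolve_right fun e => h2 (le_sup_right.trans (inf_eq_left.1 e))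
  have hNR : p ∣ (normalizer (R : Set G)).relIndex P := by
    obtain ⟨k, hk⟩ := P.2.index ((normalizer (R : Set G)).subgroupOf P)
    change (normalizer (R : Set G)).relIndex P = _ at hk
    rw [hk]
    refine dvd_pow_self p ?_
    rintro rfl
    exact h2 (le_sup_right.trans (le_sylow_of_le_normalizer P hRp (relIndex_eq_one.1 hk)))
  rw [pow_two]
  refine Nat.mul_dvd_mul hNR ?_
  have hpa : p ^ a ∣ Nat.card M := by
    have := P.pow_dvd_card_of_pow_dvd_card h
    rw [← hMc, pow_succ] at this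
    exact Nat.dvd_of_mul_dvd_mul_right hp.pos this
  have hRM : R ≤ normalizer (M : Set G) := by
    have := hRp.isNilpotent
    have hlt := (SnIn.of_isNilpotent hMR).lt_inf_normalizer fun e => hH₀M (e ▸ le_sup_right)
    exact inf_eq_left.1 ((eq_or_eq_of_relIndex_prime hp hlt.le inf_le_left hMR').resolve_left
      hlt.ne')
  have c1 := card_normalized_modEq_one hp hRp hRp le_normalizer (hpa.trans (card_dvd_of_le hMR))
  have c2 := card_normalized_modEq_one hp (hRp.to_le hMR) hRp hRM hpa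
  rw [card_subtype_split _ fun H => H ≤ M, card_subtype_congr
    (q := fun H : Subgroup G => (Nat.card H = p ^ a ∧ H ≤ M) ∧ R ≤ normalizer (H : Set G))
    fun H => ⟨fun h => ⟨⟨h.1.1.1, h.2⟩, h.1.2⟩, fun h => ⟨⟨⟨h.1.1, h.1.2.trans hMR⟩, h.2⟩, h.1.2⟩⟩]
    at c1
  have c3 := (Nat.modEq_zero_iff_dvd).1 (Nat.ModEq.add_left_cancel c2.symm
    (by simpa using c1.symm)).symm
  refine c3.trans (dvd_of_eq (card_subtype_congr fun H => ⟨?_, ?_⟩))
  · rintro ⟨⟨⟨a1, a2⟩, a3⟩, a4⟩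
    have a5 : ¬ H ≤ P := fun h => a4 (hRP ▸ le_inf a2 h)
    have a6 : normalizer (H : Set G) ⊓ P = M :=
      (eq_or_eq_of_relIndex_prime hp (le_inf (hMR.trans a3) inf_le_right) inf_le_right
        hMP).resolve_right fun e => a5 (le_sylow_of_le_normalizer P (IsPGroup.of_card a1)
          (inf_eq_right.1 e))
    refine ⟨⟨⟨a1, a5⟩, ?_⟩, ?_⟩
    · rw [← inf_relIndex_right, a6, hMP]
      exact fun h => hp.one_lt.ne' (Nat.dvd_one.1 (Nat.dvd_of_mul_dvd_mul_left hp.pos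
        (by rwa [mul_one])))
    · change _ ⊔ H = R
      rw [a6]
      exact (eq_or_eq_of_relIndex_prime hp le_sup_left (sup_le hMR a2) hMR').resolve_left
        fun e => a4 (e ▸ le_sup_right)
  · rintro ⟨⟨⟨a1, a2⟩, -⟩, a4⟩
    exact ⟨⟨⟨a1, a4 ▸ le_sup_right⟩, a4 ▸ sup_le inf_le_left le_normalizer⟩,
      fun h => a2 (h.trans inf_le_right)⟩

theorem commutator_le_center_of_card_sq [Finite G] (hp : p.Prime) (hG : IsPGroup p G)
    {R : Subgroup G} [R.Normal] (hR : Nat.card R = p ^ 2) :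
    ⁅R, ⊤⁆ < R ∧ ⁅R, ⊤⁆ ≤ center G := by
  have : Fact p.Prime := ⟨hp⟩
  have : Group.IsNilpotent (⊤ : Subgroup G) := (hG.to_subgroup ⊤).isNilpotent
  have h0 : R ≠ ⊥ := fun e => by
    rw [e, card_bot] at hR
    exact (Nat.one_lt_pow two_ne_zero hp.one_lt).ne hR
  have h1 := commutator_lt_of_isNilpotent (le_top : R ≤ ⊤) le_normalizer_of_normal h0
  refine ⟨h1, ?_⟩
  rw [← centralizer_univ, ← coe_top, ← commutator_eq_bot_iff_le_centralizer]
  by_contra h2
  have h3 : ⁅R, (⊤ : Subgroup G)⁆ ≠ ⊥ := fun e => h2 (by rw [e, commutator_bot_left])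
  have h4 := commutator_lt_of_isNilpotent (le_top (a := ⁅R, (⊤ : Subgroup G)⁆)) le_normalizer_of_normal h3
  obtain ⟨i, hi⟩ := IsPGroup.iff_card.1 (hG.to_subgroup ⁅R, ⊤⁆)
  obtain ⟨j, hj⟩ := IsPGroup.iff_card.1 (hG.to_subgroup ⁅⁅R, (⊤ : Subgroup G)⁆, ⊤⁆)
  have a1 := card_lt_of_lt h1
  have a2 := card_lt_of_lt h4
  rw [hi, hR, Nat.pow_lt_pow_iff_right hp.one_lt] at a1
  rw [hi, hj, Nat.pow_lt_pow_iff_right hp.one_lt] at a2
  exact h2 (card_eq_one.1 (by rw [hj, show j = 0 by omega, pow_zero]))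

/-- Miller's theorem in the presence of a normal subgroup of type `(p, p)` -/
theorem pow_dvd_card_orderOf_of_normal_sq [Finite G] (hp : p.Prime) (hG : IsPGroup p G)
    {R : Subgroup G} [R.Normal] [IsMulCommutative R] (hR : Nat.card R = p ^ 2)
    (hRp : ∀ r ∈ R, r ^ p = 1) {n : ℕ} (hex : p = 2 → n = 0 → ¬ centralizer (R : Set G) ≤ R) :
    p ^ (n + 2) ∣ Nat.card {x : G // orderOf x = p ^ (n + 2)} := by
  have : Fact p.Prime := ⟨hp⟩
  obtain ⟨hD, hDc⟩ := commutator_le_center_of_card_sq hp hG hR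
  have hmul : ∀ (x : G), ∀ r ∈ R, ∀ m : ℕ, (x * r) ^ m = ⁅r, x⁆ ^ m.choose 2 * x ^ m * r ^ m := by
    intro x r hr m
    have hc := hDc (commutator_mem_commutator hr (mem_top x))
    exact H7.mul_pow_class2 (by rw [commutatorElement_def]; group) (mem_center_iff.1 hc x)
      (mem_center_iff.1 hc r) m
  have hcp : ∀ (x : G), ∀ r ∈ R, ⁅r, x⁆ ^ p = 1 := fun x r hr =>
    hRp _ (hD.le (commutator_mem_commutator hr (mem_top x)))
  by_cases hc : p ≠ 2 ∨ n ≠ 0
  · have hinv : ∀ (x : G), ∀ r ∈ R, (x * r) ^ p ^ (n + 1) = x ^ p ^ (n + 1) := by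
      intro x r hr
      have h1 : p ∣ (p ^ (n + 1)).choose 2 := by
        rw [Nat.choose_two_right]
        by_cases h2 : p = 2
        · subst h2
          obtain ⟨m, rfl⟩ := Nat.exists_eq_succ_of_ne_zero (hc.resolve_left (by simp))
          rw [pow_succ', mul_assoc, Nat.mul_div_cancel_left _ two_pos]
          exact (dvd_pow_self 2 (by simp)).mul_right _
        · have h3 : 2 ∣ p ^ (n + 1) - 1 :=
            ((hp.odd_of_ne_two h2).pow.tsub_odd odd_one).two_dvd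
          rw [Nat.mul_div_assoc _ h3]
          exact (dvd_pow_self p (by simp)).mul_right _
      obtain ⟨k, hk⟩ := h1
      rw [hmul x r hr, hk, pow_mul, hcp x r hr, one_pow, one_mul, pow_succ' p n, pow_mul r,
        hRp r hr, one_pow, mul_one]
    have hle : ∀ s t : G, zpowers (t : G ⧸ R) ≤ zpowers (s : G ⧸ R) →
        ∃ i : ℤ, t ^ p ^ (n + 1) = (s ^ p ^ (n + 1)) ^ i := by
      intro s t h
      obtain ⟨i, hi⟩ := h (mem_zpowers _)
      have h1 : (s ^ i)⁻¹ * t ∈ R := QuotientGroup.eq.1 hi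
      refine ⟨i, ?_⟩
      rw [← mul_inv_cancel_left (s ^ i) t, hinv _ _ h1, ← zpow_natCast, ← zpow_mul, mul_comm,
        zpow_mul, zpow_natCast]
    refine dvd_card_subtype_of_fiber _ (fun x : G => zpowers (x : G ⧸ R)) fun s hs => ?_
    rw [card_subtype_congr (q := fun t : G => zpowers (t : G ⧸ R) = zpowers (s : G ⧸ R)),
      card_preimage_mk R fun y => zpowers y = zpowers (s : G ⧸ R), card_zpowers_eq, hR, pow_add]
    · refine Nat.mul_dvd_mul_right ?_ _
      have h1 : p ^ (n + 1) ∣ orderOf (s : G ⧸ R) := by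
        have h2 : s ^ orderOf (s : G ⧸ R) ∈ R := by
          rw [← QuotientGroup.eq_one_iff, QuotientGroup.mk_pow, pow_orderOf_eq_one]
        have h3 := orderOf_dvd_of_pow_eq_one (pow_mul s _ p ▸ hRp _ h2)
        rw [hs, pow_succ] at h3
        exact Nat.dvd_of_mul_dvd_mul_right hp.pos h3
      refine Dvd.dvd.trans ?_ (Nat.totient_dvd_of_dvd h1)
      rw [Nat.totient_prime_pow_succ hp]
      exact dvd_mul_right _ _
    · refine fun t => ⟨fun h => h.2, fun h => ⟨?_, h⟩⟩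
      obtain ⟨i, hi⟩ := hle s t h.le
      obtain ⟨j, hj⟩ := hle t s h.ge
      refine orderOf_eq_prime_pow (fun e => ?_) ?_
      · rw [e, one_zpow] at hj
        have := orderOf_dvd_of_pow_eq_one hj
        rw [hs, Nat.pow_dvd_pow_iff_le_right hp.one_lt] at this
        omega
      · rw [pow_succ, pow_mul, hi, ← zpow_natCast, ← zpow_mul, mul_comm, zpow_mul, zpow_natCast,
          ← pow_mul, ← pow_succ, ← hs, pow_orderOf_eq_one, one_zpow]
  push Not at hc
  obtain ⟨rfl, rfl⟩ := hc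
  have hT := hex rfl rfl
  set T := centralizer (R : Set G) with hTdef
  have hRT : R ≤ T := le_centralizer R
  have hsq : ∀ (x : G), ∀ r ∈ R, (x * r) ^ 2 = ⁅r, x⁆ * x ^ 2 := fun x r hr => by
    rw [hmul x r hr, hRp r hr]; simp
  have h4 : 2 ^ 2 ∣ Nat.card {x : G // x ^ 2 ^ 2 = 1} :=
    dvd_card_pow_eq_one (hR ▸ R.card_subgroup_dvd_card)
  rw [card_subtype_split _ fun x => x ^ 2 = 1, card_subtype_congr (q := fun x : G => x ^ 2 = 1)
    fun x => ⟨fun h => h.2, fun h => ⟨by rw [pow_two, pow_mul, h, one_pow], h⟩⟩,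
    card_subtype_congr (p := fun x : G => x ^ 2 ^ 2 = 1 ∧ ¬ x ^ 2 = 1)
      (q := fun x : G => orderOf x = 2 ^ (0 + 2)) fun x =>
      ⟨fun h => orderOf_eq_prime_pow (n := 1) h.2 h.1, fun h => ⟨orderOf_dvd_iff_pow_eq_one.1 h.dvd,
        fun e => absurd (h ▸ orderOf_dvd_of_pow_eq_one e) (by norm_num)⟩⟩] at h4
  refine (Nat.dvd_add_right ?_).1 h4
  rw [card_subtype_split _ fun x => x ∈ T]
  refine Dvd.dvd.add ?_ ?_
  · refine dvd_card_subtype_of_fiber _ (fun x : G => (x : G ⧸ R)) fun s hs => ?_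
    rw [card_subtype_congr (q := fun t : G => (t : G ⧸ R) = s), card_preimage_mk R fun y => y = s,
      hR]
    · exact dvd_mul_left _ _
    · refine fun t => ⟨fun h => h.2, fun h => ⟨?_, h⟩⟩
      have h1 : s⁻¹ * t ∈ R := QuotientGroup.eq.1 h.symm
      rw [← mul_inv_cancel_left s t]
      refine ⟨?_, T.mul_mem hs.2 (hRT h1)⟩
      rw [hsq _ _ h1, hs.1, mul_one, commutatorElement_eq_one_iff_mul_comm]
      exact hs.2 _ h1
  by_cases hTt : T = ⊤
  · rw [card_subtype_eq_zero fun x hx => hx.2 (hTt ▸ mem_top x)]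
    exact dvd_zero _
  -- the commutator subgroup `[R, G]` has order two
  obtain ⟨r₀, hr₀, hr₀D⟩ := SetLike.exists_of_lt hD
  have hidx : ∀ X : Subgroup G, X < R → Nat.card X ≤ 2 := by
    intro X hX
    obtain ⟨i, hi⟩ := IsPGroup.iff_card.1 (hG.to_subgroup X)
    have a1 := card_lt_of_lt hX
    rw [hi, hR, Nat.pow_lt_pow_iff_right one_lt_two] at a1
    rw [hi]
    exact Nat.pow_le_pow_right two_pos (by omega : i ≤ 1)
  have hD0 : (⁅R, ⊤⁆ : Subgroup G) ≠ ⊥ := fun e => hTt (top_le_iff.1 (by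
    rwa [commutator_comm, commutator_eq_bot_iff_le_centralizer] at e))
  have hD2 : Nat.card (⁅R, ⊤⁆ : Subgroup G) = 2 :=
    le_antisymm (hidx _ hD) (one_lt_card_iff_ne_bot _ |>.2 hD0)
  have hcent : ∀ x ∉ T, ∀ r ∈ R, r * x = x * r → r ∈ (⁅R, ⊤⁆ : Subgroup G) := by
    intro x hx r hr hc
    have h1 : ⁅R, ⊤⁆ ≤ R ⊓ centralizer {x} := le_inf hD.le (hDc.trans (center_le_centralizer _))
    have h2 : R ⊓ centralizer {x} < R := lt_of_le_of_ne inf_le_left fun e => hx fun r hr =>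
      mem_centralizer_singleton_iff.1 (inf_eq_left.1 e hr)
    rw [eq_of_le_of_card_le h1 (hD2 ▸ hidx _ h2)]
    exact ⟨hr, mem_centralizer_singleton_iff.2 hc⟩
  have huniq : ∀ a ∈ (⁅R, ⊤⁆ : Subgroup G), ∀ b ∈ (⁅R, ⊤⁆ : Subgroup G), a ≠ 1 → b ≠ 1 →
      a * b = 1 := by
    intro a ha b hb ha1 hb1
    obtain ⟨y, -, hy⟩ := (Nat.card_eq_two_iff' (1 : (⁅R, ⊤⁆ : Subgroup G))).1 hD2
    have e : a = b := congrArg Subtype.val ((hy ⟨a, ha⟩ fun e => ha1 (congrArg Subtype.val e)).trans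
      (hy ⟨b, hb⟩ fun e => hb1 (congrArg Subtype.val e)).symm)
    rw [e, ← pow_two, hRp b (hD.le hb)]
  have hne : ∀ x ∉ T, ⁅r₀, x⁆ ≠ 1 := fun x hx e =>
    hr₀D (hcent x hx r₀ hr₀ (commutatorElement_eq_one_iff_mul_comm.1 e))
  have hr₀2 : r₀ * r₀ = 1 := by rw [← pow_two, hRp r₀ hr₀]
  have e1 : Nat.card {x : G // (x ^ 2 ∈ R ∧ x ∉ T) ∧ ¬ x ^ 2 = 1} =
      Nat.card {x : G // x ^ 2 = 1 ∧ x ∉ T} := by
    refine Nat.card_congr ⟨fun x => ⟨x.1 * r₀, ?_, ?_⟩, fun x => ⟨x.1 * r₀, ⟨?_, ?_⟩, ?_⟩,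
      fun x => Subtype.ext ?_, fun x => Subtype.ext ?_⟩
    · rw [hsq _ _ hr₀]
      exact huniq _ (commutator_mem_commutator hr₀ (mem_top _)) _
        (hcent _ x.2.1.2 _ x.2.1.1 (Commute.pow_self _ 2)) (hne _ x.2.1.2) x.2.2
    · exact fun h => x.2.1.2 ((mul_mem_cancel_right (hRT hr₀)).1 h)
    · rw [hsq _ _ hr₀, x.2.1, mul_one]
      exact hD.le (commutator_mem_commutator hr₀ (mem_top _))
    · exact fun h => x.2.2 ((mul_mem_cancel_right (hRT hr₀)).1 h)
    · rw [hsq _ _ hr₀, x.2.1, mul_one]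
      exact hne _ x.2.2
    · simp only [mul_assoc, hr₀2, mul_one]
    · simp only [mul_assoc, hr₀2, mul_one]
  set T' := T.map (QuotientGroup.mk' R)
  have e2 : Nat.card {x : G // x ^ 2 ∈ R ∧ x ∉ T} =
      Nat.card {y : G ⧸ R // y ^ 2 = 1 ∧ y ∉ T'} * 2 ^ 2 := by
    rw [← hR, ← card_preimage_mk R fun y => y ^ 2 = 1 ∧ y ∉ T']
    refine card_subtype_congr fun x => and_congr ?_ (not_congr ?_)
    · rw [← QuotientGroup.mk_pow, QuotientGroup.eq_one_iff]
    · change _ ↔ x ∈ T'.comap (QuotientGroup.mk' R)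
      rw [comap_map_eq, QuotientGroup.ker_mk', sup_of_le_left hRT]
  have hT' : 2 ∣ Nat.card T' := dvd_card_of_isPGroup_of_ne_bot hp
    ((hG.to_quotient R).to_subgroup _) fun e => hT (by
      rwa [Subgroup.map_eq_bot_iff, QuotientGroup.ker_mk'] at e)
  have e3 : 2 ∣ Nat.card {y : G ⧸ R // y ^ 2 = 1 ∧ y ∉ T'} := by
    have a1 := dvd_card_pow_eq_one (hT'.trans T'.card_subgroup_dvd_card)
    have a2 := dvd_card_pow_eq_one hT'
    rw [card_subtype_split _ fun y => y ∈ T'] at a1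
    refine (Nat.dvd_add_right (a2.trans (dvd_of_eq ?_))).1 a1
    exact Nat.card_congr ⟨fun y => ⟨y.1.1, congrArg Subtype.val y.2, y.1.2⟩,
      fun y => ⟨⟨y.1, y.2.2⟩, Subtype.ext y.2.1⟩, fun _ => rfl, fun _ => rfl⟩
  rw [card_subtype_split _ fun x => x ^ 2 = 1, e1, card_subtype_congr
    (q := fun x : G => x ^ 2 = 1 ∧ x ∉ T) fun x => ⟨fun h => ⟨h.2, h.1.2⟩,
      fun h => ⟨⟨h.1 ▸ R.one_mem, h.2⟩, h.1⟩⟩] at e2
  omega

/-- Miller's theorem -/
theorem pow_dvd_card_orderOf [Finite G] (hp : p.Prime) {m : ℕ} (hG : Nat.card G = p ^ m)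
    (hc : ¬ IsCyclic G) (h2 : p = 2 → Group.nilpotencyClass G ≠ m - 1) (n : ℕ) :
    p ^ (n + 2) ∣ Nat.card {x : G // orderOf x = p ^ (n + 2)} := by
  have : Fact p.Prime := ⟨hp⟩
  have hGp := IsPGroup.of_card hG
  have hMC : p = 2 → ∀ a b k, ¬ H9.MC (⊤ : Subgroup G) a b k := by
    rintro rfl a b k h
    refine h2 rfl ?_
    rw [h.nilpotencyClass_eq, Nat.pow_right_injective le_rfl (hG.symm.trans h.card_top)]
    rfl
  by_cases hR : ∃ E : Subgroup G, E.Normal ∧ IsMulCommutative E ∧ Nat.card E = p ^ 2 ∧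
      ∀ e ∈ E, e ^ p = 1
  · obtain ⟨R, hn, hcomm, hR, hRp⟩ := hR
    refine pow_dvd_card_orderOf_of_normal_sq hp hGp hR hRp ?_
    rintro rfl - hle
    exact h2 rfl (S0112.result m hG R hR (le_antisymm hle (le_centralizer R)))
  · push Not at hR
    rcases H9.isCyclic_or_MC_of_no_normal_sq hGp hR with h | ⟨h, a, b, k, h', -⟩
    · exact absurd h hc
    · exact absurd h' (hMC h a b k)

theorem dvd_nCyc [Finite G] (hp : p.Prime) {m : ℕ} (hG : Nat.card G = p ^ m)
    (hc : ¬ IsCyclic G) (h2 : p = 2 → Group.nilpotencyClass G ≠ m - 1) (n : ℕ) :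
    p ∣ nCyc G (p ^ (n + 2)) := by
  have h := pow_dvd_card_orderOf hp hG hc h2 n
  rw [card_orderOf_eq_nCyc, Nat.totient_prime_pow_succ hp, ← mul_assoc] at h
  have h1 : (p ^ (n + 2)).Coprime (p - 1) :=
    ((Nat.coprime_self_sub_right hp.one_le).2 (Nat.coprime_one_right p)).pow_left _
  exact Nat.dvd_of_mul_dvd_mul_right (pow_pos hp.pos (n + 1))
    (pow_succ' p (n + 1) ▸ h1.dvd_of_dvd_mul_right h)

/-- Kulakoff's theorem -/
theorem kulakoff [Finite G] (hp : p.Prime) {m : ℕ} (hG : Nat.card G = p ^ m)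
    (hc : ¬ IsCyclic G) (h2 : p = 2 → Group.nilpotencyClass G ≠ m - 1) {k : ℕ} (hk1 : 1 ≤ k)
    (hk2 : k < m) : nSub G (p ^ k) ≡ 1 + p [MOD p ^ 2] := by
  have h := nSub_add_nCyc_modEq hp k G (IsPGroup.of_card hG) (hG ▸ pow_dvd_pow p hk2)
  obtain ⟨k, rfl⟩ := Nat.exists_eq_add_of_le' hk1
  obtain ⟨c, hc⟩ := dvd_nCyc hp hG hc h2 k
  rw [hc, ← mul_assoc, ← pow_two] at h
  simpa [Nat.ModEq] using h

theorem nSub_of_isCyclic [Finite G] [IsCyclic G] {k : ℕ} (hk : k ∣ Nat.card G) :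
    nSub G k = 1 := by
  classical
  have := Fintype.ofFinite G
  have h1 := IsCyclic.card_orderOf_eq_totient (α := G) (d := k) (by
    rwa [← Nat.card_eq_fintype_card])
  rw [← Fintype.card_subtype, ← Nat.card_eq_fintype_card, card_orderOf_eq_nCyc] at h1
  rw [nSub, card_subtype_congr (q := fun H : Subgroup G => IsCyclic H ∧ Nat.card H = k)
    fun H => ⟨fun h => ⟨inferInstance, h⟩, fun h => h.2⟩]
  exact Nat.eq_of_mul_eq_mul_right (Nat.totient_pos.2 (Nat.pos_of_dvd_of_pos hk Nat.card_pos))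
    (h1.trans (one_mul _).symm)

end Cfsg.Agent.H1
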