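import Cfsg.Agent.H1.MlA0

/-! # Higher limits: coefficient sequences, filtrations, localisation, averaging -/

set_option autoImplicit false

namespace Cfsg.Agent.H1.ML

open Subgroup H83

variable {G X U : Type*} [Group G] [MulAction G X] [AddCommGroup U]

theorem exists_rep {Λ : Type*} (Γ : Subgroup G) (act : G → Λ → Λ) (h1 : ∀ y, act 1 y = y)
    (hm : ∀ g h y, act (g * h) y = act g (act h y)) :
    ∃ (r : Λ → Λ) (γ : Λ → G), ∀ y, γ y ∈ Γ ∧ act (γ y) (r y) = y ∧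
      ∀ g ∈ Γ, r (act g y) = r y := by
  let s : Setoid Λ := ⟨fun a b => ∃ g ∈ Γ, act g a = b, fun a => ⟨1, one_mem _, h1 a⟩,
    fun ⟨g, hg, e⟩ => ⟨g⁻¹, inv_mem hg, by rw [← e, ← hm, inv_mul_cancel, h1]⟩,
    fun ⟨g, hg, e⟩ ⟨k, hk, e'⟩ => ⟨k * g, mul_mem hk hg, by rw [hm, e, e']⟩⟩
  have : ∀ y, ∃ g ∈ Γ, act g (Quotient.mk s y).out = y := fun y => Quotient.mk_out (s := s) y
  choose γ h2 h3 using this
  exact ⟨fun y => (Quotient.mk s y).out, γ, fun y => ⟨h2 y, h3 y, fun g hg =>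
    congrArg Quotient.out (Quotient.sound (s.symm ⟨g, hg, rfl⟩))⟩⟩

variable [DistribMulAction G U] {Γ : Subgroup G} {T : List X → Prop}
  {V V' V'' : List X → AddSubgroup U} {m : ℕ}

theorem chain2 (s : Sy Γ T V V') (s' : Sy Γ T V' V'')
    (ht : ∀ l, T l → ∀ g ∈ St Γ l, ∀ x ∈ V'' l, g • x - x ∈ V l)
    (h : Van Γ T V V'' m) (h1 : Van Γ T V V' (m + 1)) : Van Γ T V' V'' m := by
  intro f a b
  obtain ⟨r, γ, hr⟩ := exists_rep Γ (fun g (l : List X) => g • l) (one_smul G) mul_smul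
  have rl : ∀ l, (r l).length = l.length := fun l => by
    rw [← length_smul (γ l)]; exact congrArg _ (hr l).2.1
  have rT : ∀ l, T l → T (r l) := fun l t =>
    (inv_iff s.inv (hr l).1 _).1 (by rwa [(hr l).2.1])
  set F := res T fun l => γ l • f (r l) with hF
  have hc : ∀ l, l.length = m → Co Γ T V V'' F l := fun l e => by
    have m0 := (a (r l) (by rw [rl, e])).mem
    refine co_res s.inv (fun t => ?_) fun t g hg => ?_
    · have := s'.act' _ (hr l).1 _ (rT l t) _ (m0 (rT l t))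
      rwa [(hr l).2.1] at this
    · have e1 := (hr (g • l)).2.1
      rw [(hr l).2.2 g hg] at e1 ⊢
      have hs : (γ (g • l))⁻¹ * g * γ l ∈ St Γ (r l) :=
        ⟨Γ.mul_mem (Γ.mul_mem (Γ.inv_mem (hr _).1) hg) (hr l).1, by
          change _ • _ = _
          rw [mul_smul, mul_smul, (hr l).2.1, inv_smul_eq_iff, e1]⟩
      have := s.act _ (hr (g • l)).1 _ (rT l t) _ (ht _ (rT l t) _ hs _ (m0 (rT l t)))
      rwa [e1, smul_sub, mul_smul, mul_smul, smul_inv_smul] at this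
  have hd : ∀ l, l.length = m → T l → F l - f l ∈ V' l := fun l e t => by
    have := (a (r l) (by rw [rl, e])).eqv (rT l t) _ (hr l).1
    rwa [(hr l).2.1, ← res_pos (T := T) (f := fun l => γ l • f (r l)) t] at this
  have s'' := s.trans s'
  obtain ⟨k, c, d⟩ := h1 (res T (dl F)) (fun l e => by
      have := co_dl s'' (l := l) fun j x => hc j (by omega)
      refine ⟨fun t => ?_, this.eqv, this.zero⟩
      rw [res_pos t, ← sub_add_cancel (dl F l) (dl f l)]
      refine add_mem (dl_sub_mem fun j hj x => ?_) (b l e t)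
      by_cases y : T j
      · exact s.mono' j l hj.subset y t (hd j (by omega) y)
      · rw [(hc j (by omega)).zero y, (a j (by omega)).zero y, sub_zero]; exact zero_mem _)
    fun l e t => by
      rw [dl_res_dl s t fun j x => (hc j (by omega)).zero]; exact zero_mem _
  obtain ⟨k', c', d'⟩ := h (fun l => F l - k l) (fun l e => (hc l e).sub
      ⟨fun t => s'.le l t ((c l (by omega)).mem t), (c l (by omega)).eqv, (c l (by omega)).zero⟩)
    fun l e t => by
      have := d l e t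
      rwa [res_pos t, ← dl_sub] at this
  refine ⟨k', fun l e => ⟨(c' l e).mem, fun t g hg =>
    s.le _ (s.inv g hg l t) ((c' l e).eqv t g hg), (c' l e).zero⟩, fun l e t => ?_⟩
  convert add_mem (sub_mem (s.le l t (d' l e t)) (hd l e t)) ((c l (by omega)).mem t) using 1
  abel

theorem filt (s : Sy Γ T V V') (ρ : List X → ℕ) (N : ℕ) (hN : ∀ l, T l → ρ l ≤ N)
    (hi : ∀ g ∈ Γ, ∀ l, T l → ρ (g • l) = ρ l) (ha : ∀ a b, a ⊆ b → T a → T b → ρ b ≤ ρ a)
    (h : ∀ n, Van Γ (fun l => T l ∧ ρ l = n) V V' m) : Van Γ T V V' m := by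
  have : ∀ n, Van Γ (fun l => T l ∧ ρ l < n) V V' m := fun n => by
    induction n with
    | zero => exact van_empty fun l _ t => by omega
    | succ n ih =>
      refine ses1 (up := fun l => ρ l = n) (s.and (fun g hg l t x => by rwa [hi g hg l t])
        fun a b c x _ y z _ w _ => (ha a b x y z).trans_lt w)
        (fun g hg l t x => by rwa [hi g hg l t.1]) (fun a b x y z w => ?_)
        ((h n).congrT fun l _ => ⟨fun x => ⟨⟨x.1, by omega⟩, x.2⟩, fun x => ⟨x.1.1, x.2⟩⟩)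
        (ih.congrT fun l _ => ⟨fun x => ⟨⟨x.1, by omega⟩, by omega⟩, fun x => ⟨x.1.1, by omega⟩⟩)
      have := ha a b x y.1 z.1
      omega
  exact (this (N + 1)).congrT fun l _ => ⟨fun x => x.1, fun x => ⟨x, Nat.lt_succ_of_le (hN l x)⟩⟩

theorem loc (s : Sy Γ T V V') (y : List X → Subgroup G)
    (hi : ∀ g ∈ Γ, ∀ l, T l → y (g • l) = cj g (y l)) (hc : ∀ a b, a ⊆ b → T a → T b → y a = y b)
    (h : ∀ Y : Subgroup G, Van (Γ ⊓ normalizer (Y : Set G)) (fun l => T l ∧ y l = Y) V V' m) :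
    Van Γ T V V' m := by
  intro f a b
  have iY : ∀ Y : Subgroup G, ∀ g ∈ Γ ⊓ normalizer (Y : Set G), ∀ l, T l ∧ y l = Y →
      T (g • l) ∧ y (g • l) = Y := fun Y g hg l t =>
    ⟨s.inv g hg.1 l t.1, by rw [hi g hg.1 l t.1, t.2, cj_eq_self hg.2]⟩
  have := fun Y => h Y (res (fun l => T l ∧ y l = Y) f) (fun l e => co_res (iY Y)
    (fun t => (a l e).mem t.1) fun t g hg => (a l e).eqv t.1 g hg.1) fun l e t => by
      rw [dl_congr (g := f) fun j hj x => ?_]
      · exact b l e t.1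
      by_cases z : T j
      · exact res_pos ⟨z, (hc j l hj.subset z t.1).trans t.2⟩
      · rw [res_neg fun n => z n.1, (a j (by omega)).zero z]
  choose k c d using this
  obtain ⟨r, γ, hr⟩ := exists_rep Γ (cj : G → Subgroup G → _) cj_one cj_mul
  have rT : ∀ l, T l → T ((γ (y l))⁻¹ • l) ∧ y ((γ (y l))⁻¹ • l) = r (y l) := fun l t =>
    ⟨s.inv _ (Γ.inv_mem (hr _).1) l t, by
      rw [hi _ (Γ.inv_mem (hr _).1) l t]
      exact (congrArg _ (hr (y l)).2.1.symm).trans (cj_inv_cj _ _)⟩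
  refine ⟨res T fun l => γ (y l) • k (r (y l)) ((γ (y l))⁻¹ • l), fun l e => ?_, fun l e t => ?_⟩
  · have c0 := c (r (y l)) ((γ (y l))⁻¹ • l) (by rwa [length_smul])
    refine co_res s.inv (fun t => ?_) fun t g hg => ?_
    · have := s.act' _ (hr (y l)).1 _ (rT l t).1 _ (c0.mem (rT l t))
      rwa [smul_inv_smul] at this
    · have e1 := (hr (y (g • l))).2.1
      have e2 : r (y (g • l)) = r (y l) := by rw [hi g hg l t, (hr _).2.2 g hg]
      rw [e2] at e1 ⊢
      have hs : (γ (y (g • l)))⁻¹ * g * γ (y l) ∈ Γ ⊓ normalizer (r (y l) : Set G) :=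
        ⟨Γ.mul_mem (Γ.mul_mem (Γ.inv_mem (hr _).1) hg) (hr _).1, cj_eq_self_iff.1 (by
          rw [cj_mul, cj_mul, (hr (y l)).2.1, ← hi g hg l t]
          exact (congrArg _ e1.symm).trans (cj_inv_cj _ _))⟩
      have := s.act _ (hr (y (g • l))).1 _ (iY _ _ hs _ (rT l t)).1 _ (c0.eqv (rT l t) _ hs)
      simpa only [smul_sub, mul_smul, smul_inv_smul] using this
  · rw [dl_congr (g := fun j => γ (y l) • k (r (y l)) ((γ (y l))⁻¹ • j)) fun j hj x => ?_]
    · rw [dl_smul, dl_act]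
      have h1 := s.act _ (hr (y l)).1 _ (rT l t).1 _ (d _ _ (by rwa [length_smul]) (rT l t))
      have h2 := (a _ (by rwa [length_smul])).eqv (rT l t).1 _ (hr (y l)).1
      rw [res_pos (rT l t), smul_sub] at h1
      rw [smul_inv_smul] at h1 h2
      simpa using sub_mem h1 h2
    by_cases z : T j
    · rw [res_pos z, hc j l hj.subset z t]
    · rw [res_neg z, (c _ _ (by rw [length_smul]; omega)).zero
        fun n => z ((inv_iff s.inv (Γ.inv_mem (hr _).1) j).1 n.1), smul_zero]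

/-- `filt` by the order of a monotone label, then `loc` -/
theorem filt_loc [Finite G] (s : Sy Γ T V V') (y : List X → Subgroup G)
    (hi : ∀ g ∈ Γ, ∀ l, T l → y (g • l) = cj g (y l)) (hc : ∀ a b, a ⊆ b → T a → T b → y b ≤ y a)
    (h : ∀ Y : Subgroup G, Van (Γ ⊓ normalizer (Y : Set G)) (fun l => T l ∧ y l = Y) V V' m) :
    Van Γ T V V' m := by
  refine filt s (fun l => Nat.card (y l)) (Nat.card G) (fun l _ => card_le_card_group _)
    (fun g hg l t => by rw [hi g hg l t, card_cj]) (fun a b x z w => card_le_of_le (hc a b x z w))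
    fun n => loc (s.and (fun g hg l t x => by rwa [hi g hg l t, card_cj])
      fun a b c x x' z w v p q => le_antisymm (p ▸ card_le_of_le (hc a b x z w))
        (q ▸ card_le_of_le (hc b c x' w v))) y (fun g hg l t => hi g hg l t.1)
      (fun a b x z w => (eq_of_le_of_card_ge (hc a b x z.1 w.1) (z.2.trans w.2.symm).le).symm)
      fun Y => ?_
  by_cases e : Nat.card Y = n
  · exact (h Y).congrT fun l _ => ⟨fun x => ⟨⟨x.1, by rw [x.2, e]⟩, x.2⟩, fun x => ⟨x.1.1, x.2⟩⟩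
  · exact van_empty fun l _ x => e (x.2 ▸ x.1.2)

theorem mv (s : Sy Γ T V V') (hu : ∀ a b, a ⊆ b → T b → T a) (O : Finset X)
    (hO : ∀ g ∈ Γ, ∀ y ∈ O, g • y ∈ O)
    (hT : ∀ y ∈ O, ∀ l, T l → T (y :: l) ∧ V (y :: l) ≤ V l ∧ V' (y :: l) ≤ V' l) (c : ℕ)
    (hc : ∀ l, T l → ∀ x ∈ V' l, (c * O.card) • x - x ∈ V l) (m : ℕ) : Van Γ T V V' m := by
  intro f a b
  refine ⟨res T fun l => c • ∑ y ∈ O, f (y :: l), fun l e => co_res s.inv
    (fun t => nsmul_mem (sum_mem fun y hy =>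
      (hT y hy l t).2.2 ((a (y :: l) e).mem (hT y hy l t).1)) _) fun t g hg => ?_, fun l e t => ?_⟩
  · rw [smul_comm g c, ← smul_sub, Finset.smul_sum,
      ← Finset.sum_nbij' (s := O) (t := O) (f := fun y => f (g • y :: g • l))
        (g := fun y => f (y :: g • l)) (g • ·) (g⁻¹ • ·) (hO g hg) (hO _ (Γ.inv_mem hg))
        (fun y _ => inv_smul_smul g y) (fun y _ => smul_inv_smul g y) fun _ _ => rfl,
      ← Finset.sum_sub_distrib]
    exact nsmul_mem (sum_mem fun y hy => (hT _ (hO g hg y hy) _ (s.inv g hg l t)).2.1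
      ((a (y :: l) e).eqv (hT y hy l t).1 g hg)) _
  · rw [dl_congr (g := fun l => c • ∑ y ∈ O, f (y :: l)) fun j hj _ =>
      res_pos (hu j l hj.subset t)]
    have e1 := dl_map (nsmulAddMonoidHom (α := U) c) (fun l => ∑ y ∈ O, f (y :: l)) l
    simp only [nsmulAddMonoidHom_apply] at e1
    have := nsmul_mem (sum_mem fun y hy =>
      (hT y hy l t).2.1 (b (y :: l) (by simp [e]) (hT y hy l t).1)) c
    simp only [dl_cons, Finset.sum_sub_distrib, Finset.sum_const, smul_sub, ← mul_smul] at this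
    rw [e1, dl_sum]
    simpa using sub_mem this (hc l t _ ((a l e).mem t))

theorem Adm.pSt {p : ℕ} (ad : Adm p G X) (Γ : Subgroup G) {l : List X} (h : l ≠ []) :
    IsPGroup p (St Γ l) := by
  obtain ⟨x, hx⟩ := List.exists_mem_of_ne_nil l h
  exact (ad.pg x).to_le fun g hg => (mem_St.1 hg).2 x hx

theorem Syl.adm [Finite G] {p : ℕ} [Fact p.Prime] (h : Syl p G X) : Adm p G X :=
  ⟨fun x => (h.syl x).isPGroup, fun P hP => by
    obtain ⟨x⟩ := h.ne
    obtain ⟨g, -, hg⟩ := (h.syl x).exists_conj_le le_top hP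
    refine ⟨g⁻¹ • x, fun k hk => ?_⟩
    have : (g * k * g⁻¹) • x = x := hg (conj_mem_cj hk)
    change k • _ = _
    rwa [mul_smul, mul_smul, smul_eq_iff_eq_inv_smul] at this⟩

theorem exists_inv_mod {p n : ℕ} [hp : Fact p.Prime] (h : ¬ p ∣ n) (k : ℕ) :
    ∃ c d : ℕ, c * n = 1 + d * p ^ k := by
  have h1 : n.Coprime (p ^ k) := (hp.out.coprime_iff_not_dvd.2 h).symm.pow_right k
  have h2 : n ^ (p ^ k).totient ≡ 1 [MOD p ^ k] := Nat.ModEq.pow_totient h1
  have h3 : 0 < (p ^ k).totient := Nat.totient_pos.2 (pow_pos hp.out.pos k)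
  have e' : 0 < n := Nat.pos_of_ne_zero fun e => h (e ▸ dvd_zero p)
  obtain ⟨d, hd⟩ := (Nat.modEq_iff_dvd' (Nat.one_le_pow _ _ e')).1 h2.symm
  refine ⟨n ^ ((p ^ k).totient - 1), d, ?_⟩
  rw [← pow_succ, Nat.sub_add_cancel h3, mul_comm, ← hd,
    Nat.add_sub_cancel' (Nat.one_le_pow _ _ e')]

/-- an orbit of size prime to `p` -/
theorem Adm.exists_orbit [Finite G] {p : ℕ} [Fact p.Prime] (ad : Adm p G X) (Γ : Subgroup G) :
    ∃ (x : X) (O : Finset X), IsSylowIn p (St Γ [x]) Γ ∧ (∀ y, y ∈ O ↔ ∃ g ∈ Γ, g • x = y) ∧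
      ¬ p ∣ O.card := by
  obtain ⟨S, hS⟩ := exists_isSylowIn p Γ
  obtain ⟨x, hx⟩ := ad.ex S hS.isPGroup
  have h1 : IsSylowIn p (St Γ [x]) Γ := hS.of_card_ge St_le (ad.pSt Γ (by simp))
    (card_le_of_le fun g hg => mem_St.2 ⟨hS.le hg, by simpa using hx hg⟩)
  have hf : (MulAction.orbit Γ x).Finite := Set.finite_range _
  refine ⟨x, hf.toFinset, h1, fun y => ?_, ?_⟩
  · rw [hf.mem_toFinset]
    exact ⟨fun ⟨g, e⟩ => ⟨g, g.2, e⟩, fun ⟨g, hg, e⟩ => ⟨⟨g, hg⟩, e⟩⟩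
  · rw [← Set.ncard_eq_toFinset_card _ hf, ← MulAction.index_stabilizer]
    convert h1.not_dvd_relIndex using 2
    refine congrArg Subgroup.index (Subgroup.ext fun g => ?_)
    rw [mem_subgroupOf, mem_St]
    exact ⟨fun a => ⟨g.2, fun y hy => by rw [List.mem_singleton.1 hy]; exact a⟩,
      fun a => a.2 x (by simp)⟩

theorem mv_syl [Finite G] {p : ℕ} [Fact p.Prime] (ad : Adm p G X) {Y : Subgroup G}
    (hY : IsPGroup p Y) (hl : Y ≤ Γ) (hn : Γ ≤ normalizer (Y : Set G)) {V0 V1 : AddSubgroup U}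
    (h : V0 ≤ V1) (h0 : ∀ g ∈ Γ, ∀ x ∈ V0, g • x ∈ V0) (h1 : ∀ g ∈ Γ, ∀ x ∈ V1, g • x ∈ V1)
    {k : ℕ} (hk : ∀ x ∈ V1, p ^ k • x ∈ V0) (m : ℕ) :
    Van Γ (fun l : List X => Y ≤ St Γ l) (fun _ => V0) (fun _ => V1) m := by
  obtain ⟨x, O, hx, hO, hp⟩ := ad.exists_orbit Γ
  obtain ⟨c, d, hc⟩ := exists_inv_mod hp k
  have hi : ∀ g ∈ Γ, ∀ l : List X, Y ≤ St Γ l → Y ≤ St Γ (g • l) := fun g hg l t => by
    rw [St_smul hg, ← cj_eq_self (hn hg)]; exact cj_mono g t
  refine mv (sy_const h h0 h1 hi fun a b c _ e _ t => t.trans (St_anti e))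
    (fun a b e t => t.trans (St_anti e)) O (fun g hg y hy => ?_)
    (fun y hy l t => ⟨fun a ha => ?_, le_rfl, le_rfl⟩) c (fun l _ u hu => ?_) m
  · obtain ⟨g', hg', rfl⟩ := (hO y).1 hy
    exact (hO _).2 ⟨g * g', mul_mem hg hg', mul_smul _ _ _⟩
  · obtain ⟨g, hg, rfl⟩ := (hO y).1 hy
    have := (mem_St.1 (hi g hg [x] (hx.le_of_norm hl hY (St_le.trans hn)) ha)).2
    exact mem_St.2 ⟨hl ha, by simpa using ⟨by simpa using this, (mem_St.1 (t ha)).2⟩⟩
  · rw [hc, add_smul, one_smul, add_sub_cancel_left, mul_smul]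
    exact nsmul_mem (hk u hu) d

end Cfsg.Agent.H1.ML
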