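import Cfsg.Agent.H1.MlD

/-! # Higher limits: the coboundary, change of coefficients, the exact sequences -/

set_option autoImplicit false

namespace Cfsg.Agent.H1.ML

open Subgroup H83

variable {G X U : Type*} [Group G] [MulAction G X] [AddCommGroup U]

theorem dl_nil (f : List X → U) : dl f [] = 0 := rfl
theorem dl_cons (f : List X → U) (x : X) (l : List X) :
    dl f (x :: l) = f l - dl (fun k => f (x :: k)) l := rfl
theorem dl_map {U' : Type*} [AddCommGroup U'] (φ : U →+ U') (f : List X → U) (l : List X) :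
    dl (fun k => φ (f k)) l = φ (dl f l) := by
  induction l generalizing f with
  | nil => simp [dl_nil]
  | cons x l ih => rw [dl_cons, dl_cons, map_sub, ← ih]
theorem dl_mem {W : AddSubgroup U} {f : List X → U} {l : List X}
    (h : ∀ k, k.Sublist l → k.length + 1 = l.length → f k ∈ W) : dl f l ∈ W := by
  induction l generalizing f with
  | nil => exact W.zero_mem
  | cons x l ih =>
    rw [dl_cons]
    exact W.sub_mem (h l (List.sublist_cons_self x l) rfl)
      (ih fun k hk e => h _ (hk.cons_cons x) (by simp [e]))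
theorem dl_sub (f g : List X → U) (l : List X) :
    dl (fun k => f k - g k) l = dl f l - dl g l := by
  induction l generalizing f g with
  | nil => simp [dl_nil]
  | cons x l ih => rw [dl_cons, dl_cons, dl_cons, ih]; abel
theorem dl_add (f g : List X → U) (l : List X) :
    dl (fun k => f k + g k) l = dl f l + dl g l := by
  induction l generalizing f g with
  | nil => simp [dl_nil]
  | cons x l ih => rw [dl_cons, dl_cons, dl_cons, ih]; abel
theorem dl_sum {ι : Type*} (s : Finset ι) (f : ι → List X → U) (l : List X) :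
    dl (fun k => ∑ i ∈ s, f i k) l = ∑ i ∈ s, dl (f i) l := by
  induction l generalizing f with
  | nil => simp [dl_nil]
  | cons x l ih => simp only [dl_cons, ih, Finset.sum_sub_distrib]
theorem dl_dl (f : List X → U) (l : List X) : dl (dl f) l = 0 := by
  induction l generalizing f with
  | nil => rfl
  | cons x l ih =>
    rw [dl_cons]
    simp only [dl_cons]
    rw [dl_sub, ih]; abel
theorem dl_sub_mem {W : AddSubgroup U} {f g : List X → U} {l : List X}
    (h : ∀ k, k.Sublist l → k.length + 1 = l.length → f k - g k ∈ W) : dl f l - dl g l ∈ W := by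
  rw [← dl_sub]; exact dl_mem h
theorem dl_congr {f g : List X → U} {l : List X}
    (h : ∀ k, k.Sublist l → k.length + 1 = l.length → f k = g k) : dl f l = dl g l :=
  sub_eq_zero.1 (AddSubgroup.mem_bot.1 (dl_sub_mem fun k a b => by
    rw [h k a b, sub_self]; exact zero_mem _))
theorem dl_eq_zero {f : List X → U} {l : List X}
    (h : ∀ k, k.Sublist l → k.length + 1 = l.length → f k = 0) : dl f l = 0 :=
  AddSubgroup.mem_bot.1 (dl_mem fun k a b => AddSubgroup.mem_bot.2 (h k a b))
theorem dl_act (g : G) (f : List X → U) (l : List X) :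
    dl (fun k => f (g • k)) l = dl f (g • l) := by
  induction l generalizing f with
  | nil => rfl
  | cons x l ih => rw [dl_cons, smul_cons, dl_cons, ← ih]; rfl
theorem smul_subset {a b : List X} (h : a ⊆ b) (g : G) : g • a ⊆ g • b := List.map_subset _ h

open Classical in
/-- extension by zero -/
noncomputable def res (T : List X → Prop) (f : List X → U) (l : List X) : U :=
  if T l then f l else 0
theorem res_pos {T : List X → Prop} {f : List X → U} {l : List X} (h : T l) : res T f l = f l :=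
  if_pos h
theorem res_neg {T : List X → Prop} {f : List X → U} {l : List X} (h : ¬ T l) : res T f l = 0 :=
  if_neg h

variable [DistribMulAction G U] {Γ : Subgroup G} {T : List X → Prop}
  {V V' V'' : List X → AddSubgroup U} {m : ℕ}

omit [MulAction G X] in
theorem dl_smul (g : G) (f : List X → U) (l : List X) :
    dl (fun k => g • f k) l = g • dl f l := dl_map (DistribSMul.toAddMonoidHom U g) f l

theorem inv_iff (hi : ∀ g ∈ Γ, ∀ l, T l → T (g • l)) {g : G} (hg : g ∈ Γ) (l : List X) :
    T (g • l) ↔ T l :=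
  ⟨fun h => by simpa using hi _ (Γ.inv_mem hg) _ h, hi g hg l⟩

/-- restriction of a system to an invariant convex subset -/
theorem Sy.and (s : Sy Γ T V V') {Q : List X → Prop} (hi : ∀ g ∈ Γ, ∀ l, T l → Q l → Q (g • l))
    (hc : ∀ a b c, a ⊆ b → b ⊆ c → T a → T b → T c → Q a → Q c → Q b) :
    Sy Γ (fun l => T l ∧ Q l) V V' where
  inv g hg l h := ⟨s.inv g hg l h.1, hi g hg l h.1 h.2⟩
  cvx a b c h k x y :=
    ⟨s.cvx a b c h k x.1 y.1, hc a b c h k x.1 (s.cvx a b c h k x.1 y.1) y.1 x.2 y.2⟩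
  le l h := s.le l h.1
  mono a b h x y := s.mono a b h x.1 y.1
  mono' a b h x y := s.mono' a b h x.1 y.1
  act g hg l h := s.act g hg l h.1
  act' g hg l h := s.act' g hg l h.1

theorem Sy.sub (s : Sy Γ T V V') {Γ' : Subgroup G} (h : Γ' ≤ Γ) : Sy Γ' T V V' :=
  ⟨fun g hg => s.inv g (h hg), s.cvx, s.le, s.mono, s.mono', fun g hg => s.act g (h hg),
    fun g hg => s.act' g (h hg)⟩

theorem Sy.trans (s : Sy Γ T V V') (s' : Sy Γ T V' V'') : Sy Γ T V V'' :=
  ⟨s.inv, s.cvx, fun l h => (s.le l h).trans (s'.le l h), s.mono, s'.mono', s.act, s'.act'⟩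

theorem sy_const {V0 V1 : AddSubgroup U} (h : V0 ≤ V1) (h0 : ∀ g ∈ Γ, ∀ x ∈ V0, g • x ∈ V0)
    (h1 : ∀ g ∈ Γ, ∀ x ∈ V1, g • x ∈ V1) (hi : ∀ g ∈ Γ, ∀ l, T l → T (g • l))
    (hc : ∀ a b c, a ⊆ b → b ⊆ c → T a → T c → T b) : Sy Γ T (fun _ => V0) (fun _ => V1) :=
  ⟨hi, hc, fun _ _ => h, fun _ _ _ _ _ => le_rfl, fun _ _ _ _ _ => le_rfl,
    fun g hg _ _ => h0 g hg, fun g hg _ _ => h1 g hg⟩

theorem co_res {f : List X → U} {l : List X} (hi : ∀ g ∈ Γ, ∀ l, T l → T (g • l))
    (h1 : T l → f l ∈ V' l) (h2 : T l → ∀ g ∈ Γ, g • f l - f (g • l) ∈ V (g • l)) :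
    Co Γ T V V' (res T f) l :=
  ⟨fun h => by rw [res_pos h]; exact h1 h,
    fun h g hg => by rw [res_pos h, res_pos (hi g hg l h)]; exact h2 h g hg, fun h => res_neg h⟩

theorem Co.sub {f f' : List X → U} {l : List X} (a : Co Γ T V V' f l) (b : Co Γ T V V' f' l) :
    Co Γ T V V' (fun k => f k - f' k) l :=
  ⟨fun h => sub_mem (a.mem h) (b.mem h), fun h g hg => by
    convert sub_mem (a.eqv h g hg) (b.eqv h g hg) using 1
    rw [smul_sub]; abel, fun h => by rw [a.zero h, b.zero h, sub_zero]⟩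

theorem Co.add {f f' : List X → U} {l : List X} (a : Co Γ T V V' f l) (b : Co Γ T V V' f' l) :
    Co Γ T V V' (fun k => f k + f' k) l :=
  ⟨fun h => add_mem (a.mem h) (b.mem h), fun h g hg => by
    convert add_mem (a.eqv h g hg) (b.eqv h g hg) using 1
    rw [smul_add]; abel, fun h => by rw [a.zero h, b.zero h, add_zero]⟩

/-- restriction to a smaller invariant set -/
theorem Co.res {T' : List X → Prop} {f : List X → U} {l : List X} (a : Co Γ T V V' f l)
    (hi : ∀ g ∈ Γ, ∀ l, T' l → T' (g • l)) (h : ∀ l, T' l → T l) : Co Γ T' V V' (res T' f) l :=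
  co_res hi (fun k => a.mem (h l k)) fun k => a.eqv (h l k)

/-- extension by zero from a smaller invariant set -/
theorem co_ext {T' : List X → Prop} {f : List X → U} {L : ℕ → Prop}
    (a : ∀ l, L l.length → Co Γ T' V V' f l) (hi : ∀ g ∈ Γ, ∀ l, T' l → T' (g • l))
    (h : ∀ l, T' l → T l) (l : List X) (hl : L l.length) : Co Γ T V V' f l := by
  by_cases k : T' l
  · exact ⟨fun _ => (a l hl).mem k, fun _ => (a l hl).eqv k, fun n => (n (h l k)).elim⟩
  · refine ⟨fun _ => by rw [(a l hl).zero k]; exact zero_mem _, fun _ g hg => ?_,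
      fun _ => (a l hl).zero k⟩
    rw [(a l hl).zero k, (a (g • l) (by rwa [length_smul])).zero
      (fun n => k ((inv_iff hi hg l).1 n)), smul_zero, sub_zero]
    exact zero_mem _

/-- the coboundary of a cochain is a cochain -/
theorem co_dl (s : Sy Γ T V V') {f : List X → U} {l : List X}
    (a : ∀ k, k.length + 1 = l.length → Co Γ T V V' f k) : Co Γ T V V' (res T (dl f)) l := by
  refine co_res s.inv (fun h => dl_mem fun k hk e => ?_) fun h g hg => ?_
  · by_cases t : T k
    · exact s.mono' k l hk.subset t h ((a k e).mem t)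
    · rw [(a k e).zero t]; exact zero_mem _
  · rw [← dl_smul, ← dl_act]
    refine dl_sub_mem fun k hk e => ?_
    by_cases t : T k
    · exact s.mono _ _ (smul_subset hk.subset g) (s.inv g hg k t) (s.inv g hg l h)
        ((a k e).eqv t g hg)
    · rw [(a k e).zero t, (a (g • k) (by rwa [length_smul])).zero
        (fun n => t ((inv_iff s.inv hg k).1 n)), smul_zero, sub_zero]
      exact zero_mem _

theorem dl_res_dl (s : Sy Γ T V V') {f : List X → U} {l : List X} (h : T l)
    (a : ∀ k, k.length + 2 = l.length → ¬ T k → f k = 0) : dl (res T (dl f)) l = 0 := by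
  rw [← dl_dl f l]
  refine dl_congr fun k hk e => ?_
  by_cases t : T k
  · exact res_pos t
  · rw [res_neg t, dl_eq_zero]
    exact fun j hj e' => a j (by omega) fun n => t (s.cvx j k l hj.subset hk.subset n h)

theorem Van.congrT {T' : List X → Prop} (h : Van Γ T V V' m)
    (hT : ∀ l, m ≤ l.length + 1 → (T l ↔ T' l)) : Van Γ T' V V' m := by
  intro f a b
  obtain ⟨k, c, d⟩ := h f (fun l e => have t := hT l (by omega)
    ⟨fun x => (a l e).mem (t.1 x), fun x => (a l e).eqv (t.1 x),
      fun x => (a l e).zero fun y => x (t.2 y)⟩) fun l e x => b l e ((hT l (by omega)).1 x)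
  exact ⟨k, fun l e => have t := hT l (by omega)
    ⟨fun x => (c l e).mem (t.2 x), fun x => (c l e).eqv (t.2 x),
      fun x => (c l e).zero fun y => x (t.1 y)⟩, fun l e x => d l e ((hT l (by omega)).2 x)⟩

theorem Van.congr {W W' : List X → AddSubgroup U} (h : Van Γ T V V' m)
    (hi : ∀ g ∈ Γ, ∀ l, T l → T (g • l))
    (hV : ∀ l, m ≤ l.length + 1 → T l → V l = W l ∧ V' l = W' l) : Van Γ T W W' m := by
  intro f a b
  obtain ⟨k, c, d⟩ := h f (fun l e => ⟨fun x => by
      rw [(hV l (by omega) x).2]; exact (a l e).mem x, fun x g hg => by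
      rw [(hV (g • l) (by rw [length_smul]; omega) (hi g hg l x)).1]; exact (a l e).eqv x g hg,
      (a l e).zero⟩) fun l e x => by rw [(hV l (by omega) x).1]; exact b l e x
  exact ⟨k, fun l e => ⟨fun x => by rw [← (hV l (by omega) x).2]; exact (c l e).mem x,
    fun x g hg => by
      rw [← (hV (g • l) (by rw [length_smul]; omega) (hi g hg l x)).1]; exact (c l e).eqv x g hg,
    (c l e).zero⟩, fun l e x => by rw [← (hV l (by omega) x).1]; exact d l e x⟩

theorem co_zero (l : List X) : Co Γ T V V' (fun _ => 0) l :=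
  ⟨fun _ => zero_mem _, fun _ g _ => by rw [smul_zero, sub_zero]; exact zero_mem _, fun _ => rfl⟩

theorem van_empty (h : ∀ l, l.length = m → ¬ T l) : Van Γ T V V' m :=
  fun _ _ _ => ⟨fun _ => 0, fun l _ => co_zero l, fun l e t => (h l e t).elim⟩

theorem co_fx {f : List X → U} {l : List X} :
    Co Γ T (fun _ => (⊥ : AddSubgroup U)) (fun _ => ⊤) f l ↔
    Co Γ T (fun _ => (⊥ : AddSubgroup U)) (fun l => fx U (St Γ l)) f l :=
  ⟨fun a => ⟨fun t g hg => by
      have := AddSubgroup.mem_bot.1 (a.eqv t g hg.1)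
      rwa [show g • l = l from hg.2, sub_eq_zero] at this, a.eqv, a.zero⟩,
    fun a => ⟨fun _ => trivial, a.eqv, a.zero⟩⟩

theorem van_fx : Van Γ T (fun _ => (⊥ : AddSubgroup U)) (fun _ => ⊤) m ↔
    Van Γ T (fun _ => (⊥ : AddSubgroup U)) (fun l => fx U (St Γ l)) m := by
  simp only [Van, co_fx]

/-- one half of the transport -/
theorem tr_aux {G' U' : Type*} [Group G'] [MulAction G' X] [AddCommGroup U']
    [DistribMulAction G' U'] {Γ' : Subgroup G'} {W W' : List X → AddSubgroup U'}
    (e : G → G' → Prop) (R : List X → U → U' → Prop)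
    (he : ∀ g g', e g g' → ∀ x : X, g • x = g' • x) (h2 : ∀ g' ∈ Γ', ∃ g ∈ Γ, e g g')
    (hi : ∀ g ∈ Γ, ∀ l, T l → T (g • l))
    (t1 : ∀ l, T l → ∀ u ∈ V' l, ∃ u', R l u u')
    (hm : ∀ l, T l → ∀ u u', R l u u' → u' ∈ W' l)
    (hk : ∀ l, T l → ∀ u u' v v', R l u u' → R l v v' → u - v ∈ V l → u' - v' ∈ W l)
    (act : ∀ g ∈ Γ, ∀ g' ∈ Γ', e g g' → ∀ l, T l → ∀ u u', R l u u' →
      R (g • l) (g • u) (g' • u'))
    (L : ℕ → Prop) (f : List X → U) (a : ∀ l, L l.length → Co Γ T V V' f l) :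
    ∃ f' : List X → U', ∀ l, L l.length → Co Γ' T W W' f' l ∧ (T l → R l (f l) (f' l)) := by
  have : ∀ l, ∃ u' : U', L l.length → (T l → R l (f l) u') ∧ (¬ T l → u' = 0) := fun l => by
    by_cases h : L l.length ∧ T l
    · obtain ⟨u', hu⟩ := t1 l h.2 _ ((a l h.1).mem h.2)
      exact ⟨u', fun _ => ⟨fun _ => hu, fun n => (n h.2).elim⟩⟩
    · exact ⟨0, fun x => ⟨fun y => (h ⟨x, y⟩).elim, fun _ => rfl⟩⟩
  choose f' hf using this
  refine ⟨f', fun l hl => ⟨⟨fun t => hm l t _ _ ((hf l hl).1 t), fun t g' hg' => ?_,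
    (hf l hl).2⟩, (hf l hl).1⟩⟩
  obtain ⟨g, hg, x⟩ := h2 g' hg'
  have : g' • l = g • l := List.map_congr_left fun y _ => (he g g' x y).symm
  rw [this]
  exact hk _ (hi g hg l t) _ _ _ _ (act g hg g' hg' x l t _ _ ((hf l hl).1 t))
    ((hf (g • l) (by rwa [length_smul])).1 (hi g hg l t)) ((a l hl).eqv t g hg)

/-- transport along relations `R l` between the coefficients and `e` between the groups -/
theorem Van.tr {G' U' : Type*} [Group G'] [MulAction G' X] [AddCommGroup U']
    [DistribMulAction G' U'] {Γ' : Subgroup G'} {W W' : List X → AddSubgroup U'}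
    (h : Van Γ' T W W' m) (e : G → G' → Prop) (R : List X → AddSubgroup (U × U'))
    (he : ∀ g g', e g g' → ∀ x : X, g • x = g' • x)
    (h1 : ∀ g ∈ Γ, ∃ g' ∈ Γ', e g g') (h2 : ∀ g' ∈ Γ', ∃ g ∈ Γ, e g g')
    (hi : ∀ g ∈ Γ, ∀ l, T l → T (g • l))
    (t1 : ∀ l, T l → ∀ u ∈ V' l, ∃ u', (u, u') ∈ R l)
    (t2 : ∀ l, T l → ∀ u' ∈ W' l, ∃ u, (u, u') ∈ R l)
    (hm : ∀ l, T l → ∀ u u', (u, u') ∈ R l → u ∈ V' l ∧ u' ∈ W' l)
    (hk : ∀ l, T l → ∀ u u', (u, u') ∈ R l → (u ∈ V l ↔ u' ∈ W l))
    (mono : ∀ a b, a ⊆ b → T a → T b → R a ≤ R b)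
    (act : ∀ g ∈ Γ, ∀ g' ∈ Γ', e g g' → ∀ l, T l → ∀ u u', (u, u') ∈ R l →
      (g • u, g' • u') ∈ R (g • l)) :
    Van Γ T V V' m := by
  have sm : ∀ g g', e g g' → ∀ l : List X, g • l = g' • l := fun g g' x l =>
    List.map_congr_left fun y _ => he g g' x y
  have key : ∀ (f : List X → U) (f' : List X → U') (l : List X), T l →
      (∀ k, k.length + 1 = l.length → (T k → (f k, f' k) ∈ R k) ∧ (¬ T k → f k = 0 ∧ f' k = 0)) →
      (dl f l, dl f' l) ∈ R l := fun f f' l t a => by
    have : dl (fun k => (f k, f' k)) l ∈ R l := dl_mem fun k hk x => by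
      by_cases s : T k
      · exact mono k l hk.subset s t ((a k x).1 s)
      · rw [((a k x).2 s).1, ((a k x).2 s).2]; exact zero_mem _
    convert this using 1
    exact Prod.ext (dl_map (AddMonoidHom.fst U U') (fun k => (f k, f' k)) l)
      (dl_map (AddMonoidHom.snd U U') (fun k => (f k, f' k)) l)
  intro f a b
  obtain ⟨f', c⟩ := tr_aux (W := W) (W' := W') e (fun l u u' => (u, u') ∈ R l) he h2 hi t1
    (fun l t u u' r => (hm l t u u' r).2)
    (fun l t u u' v v' r r' x => (hk l t _ _ ((R l).sub_mem r r')).1 x) act (· = m) f a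
  obtain ⟨k', d, d'⟩ := h f' (fun l x => (c l x).1) fun l x t =>
    (hk l t _ _ (key f f' l t fun k y => have z : k.length = m := by omega
      ⟨(c k z).2, fun n => ⟨(a k z).zero n, (c k z).1.zero n⟩⟩)).1 (b l x t)
  obtain ⟨k, i⟩ := tr_aux (W := V) (W' := V') (Γ' := Γ) (fun g' g => e g g')
    (fun l u' u => (u, u') ∈ R l) (fun g' g x y => (he g g' x y).symm) h1
    (fun g' hg' l t => by obtain ⟨g, hg, x⟩ := h2 g' hg'; rw [← sm g g' x]; exact hi g hg l t) t2
    (fun l t u u' r => (hm l t u' u r).1)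
    (fun l t u u' v v' r r' x => (hk l t _ _ ((R l).sub_mem r r')).2 x)
    (fun g' hg' g hg x l t u' u r => by rw [← sm g g' x]; exact act g hg g' hg' x l t u u' r)
    (· + 1 = m) k' d
  refine ⟨k, fun l x => (i l x).1, fun l x t => (hk l t _ _ ((R l).sub_mem ((c l x).2 t)
    (key k k' l t fun j y => have z : j.length + 1 = m := by omega
      ⟨(i j z).2, fun n => ⟨(i j z).1.zero n, (d j z).zero n⟩⟩))).2 (d' l x t)⟩

section ses
variable {up : List X → Prop} (s : Sy Γ T V V') (hi : ∀ g ∈ Γ, ∀ l, T l → up l → up (g • l))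
  (hu : ∀ a b, a ⊆ b → T a → T b → up b → up a)
include s hi hu

theorem Sy.upp : Sy Γ (fun l => T l ∧ up l) V V' :=
  s.and hi fun _ b c _ h _ y z _ w => hu b c h y z w

theorem Sy.low : Sy Γ (fun l => T l ∧ ¬ up l) V V' :=
  s.and (fun g hg l t n x => n (by
    simpa using hi _ (Γ.inv_mem hg) _ (s.inv g hg l t) x))
    fun a b _ h _ x y _ n _ w => n (hu a b h x y w)

omit s hi in
theorem dl_low {f : List X → U} {l : List X} (t : T l) (u : up l)
    (a : ∀ k, k.length + 1 = l.length → ¬ (T k ∧ ¬ up k) → f k = 0) : dl f l = 0 :=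
  dl_eq_zero fun k hk e => a k e fun n => n.2 (hu k l hk.subset n.1 t u)

omit s hi in
theorem dl_up {f : List X → U} {l : List X} (t : T l) (u : up l)
    (a : ∀ k, k.length + 1 = l.length → ¬ T k → f k = 0) :
    dl (res (fun l => T l ∧ up l) f) l = dl f l :=
  dl_congr fun k hk e => by
    by_cases x : T k
    · exact res_pos ⟨x, hu k l hk.subset x t u⟩
    · rw [res_neg fun n => x n.1, a k e x]

omit hi hu in
theorem dl_res_low {f f' : List X → U} {l : List X} (t : T l)
    (a : ∀ k, k.length + 1 = l.length → (¬ T k → f' k = 0) ∧ (T k → f k = f' k) ∧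
      (T k → up k → f k ∈ V k)) :
    dl (res (fun l => T l ∧ ¬ up l) f) l - dl f' l ∈ V l :=
  dl_sub_mem fun k hk e => by
    by_cases x : T k
    · by_cases y : up k
      · rw [res_neg fun n => n.2 y, zero_sub, ← (a k e).2.1 x]
        exact neg_mem (s.mono k l hk.subset x t ((a k e).2.2 x y))
      · rw [res_pos ⟨x, y⟩, (a k e).2.1 x, sub_self]; exact zero_mem _
    · rw [res_neg fun n => x n.1, (a k e).1 x, sub_self]; exact zero_mem _

theorem ses1 (h2 : Van Γ (fun l => T l ∧ up l) V V' m) (h1 : Van Γ (fun l => T l ∧ ¬ up l) V V' m) :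
    Van Γ T V V' m := by
  intro f a b
  have s2 := s.upp hi hu
  have s1 := s.low hi hu
  obtain ⟨k, c, d⟩ := h2 _ (fun l e => (a l e).res s2.inv fun _ => And.left) fun l e t => by
    rw [dl_up hu t.1 t.2 fun k x => (a k (by omega)).zero]; exact b l e t.1
  have c' := co_ext (T := T) (L := (· + 1 = m)) c s2.inv fun _ => And.left
  have hf : ∀ l, l.length = m → Co Γ T V V' (fun l => f l - res T (dl k) l) l := fun l e =>
    (a l e).sub (co_dl s fun j x => c' j (by omega))
  obtain ⟨k', c1, d1⟩ := h1 _ (fun l e => (hf l e).res s1.inv fun _ => And.left) fun l e t => by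
    have := dl_res_low s (up := up) (f := fun l => f l - res T (dl k) l) t.1 fun j x =>
      ⟨(hf j (by omega)).zero, fun _ => rfl, fun y z => by
        have := d j (by omega) ⟨y, z⟩
        rwa [res_pos ⟨y, z⟩, ← res_pos (T := T) (f := dl k) y] at this⟩
    rw [dl_sub, dl_res_dl s t.1 fun j x => (c' j (by omega)).zero, sub_zero] at this
    simpa using add_mem this (b l e t.1)
  refine ⟨fun l => k l + k' l, fun l e => (c' l e).add
    (co_ext (L := (· + 1 = m)) c1 s1.inv (fun _ => And.left) l e), fun l e t => ?_⟩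
  rw [dl_add]
  by_cases u : up l
  · rw [dl_low hu t u fun j x => (c1 j (by omega)).zero, add_zero]
    have := d l e ⟨t, u⟩
    rwa [res_pos ⟨t, u⟩] at this
  · have := d1 l e ⟨t, u⟩
    rwa [res_pos ⟨t, u⟩, res_pos t, sub_sub] at this

theorem ses2 (h : Van Γ T V V' m) (h1 : Van Γ (fun l => T l ∧ ¬ up l) V V' (m + 1)) :
    Van Γ (fun l => T l ∧ up l) V V' m := by
  intro f a b
  have s2 := s.upp hi hu
  have s1 := s.low hi hu
  have a' := co_ext (T := T) (L := (· = m)) a s2.inv fun _ => And.left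
  have hd : ∀ l, l.length = m + 1 → Co Γ T V V' (res T (dl f)) l := fun l e =>
    co_dl s fun j x => a' j (by omega)
  obtain ⟨k, c, d⟩ := h1 _ (fun l e => (hd l e).res s1.inv fun _ => And.left) fun l e t => by
    have := dl_res_low s (up := up) (f := res T (dl f)) t.1 fun j x =>
      ⟨(hd j (by omega)).zero, fun _ => rfl, fun y z => by
        rw [res_pos y]; exact b j (by omega) ⟨y, z⟩⟩
    rwa [dl_res_dl s t.1 fun j x => (a' j (by omega)).zero, sub_zero] at this
  have c' := co_ext (T := T) (L := (· + 1 = m + 1)) c s1.inv fun _ => And.left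
  obtain ⟨k', c1, d1⟩ := h (fun l => f l - k l) (fun l e => (a' l e).sub (c' l (by omega)))
    fun l e t => by
      rw [dl_sub]
      by_cases u : up l
      · rw [dl_low hu t u fun j x => (c j (by omega)).zero, sub_zero]; exact b l e ⟨t, u⟩
      · have := d l e ⟨t, u⟩
        rwa [res_pos ⟨t, u⟩, res_pos t] at this
  refine ⟨_, fun l e => (c1 l e).res s2.inv fun _ => And.left, fun l e t => ?_⟩
  have := d1 l e t.1
  rw [(c l (by omega)).zero fun n => n.2 t.2, sub_zero] at this
  rwa [dl_up hu t.1 t.2 fun j x => (c1 j (by omega)).zero]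

theorem ses3 (h2 : Van Γ (fun l => T l ∧ up l) V V' m) (h : Van Γ T V V' (m + 1)) :
    Van Γ (fun l => T l ∧ ¬ up l) V V' (m + 1) := by
  intro f a b
  have s2 := s.upp hi hu
  have s1 := s.low hi hu
  obtain ⟨k, c, d⟩ := h f (co_ext (L := (· = m + 1)) a s1.inv fun _ => And.left) fun l e t => by
    by_cases u : up l
    · rw [dl_low hu t u fun j x => (a j (by omega)).zero]; exact zero_mem _
    · exact b l e ⟨t, u⟩
  obtain ⟨k', c1, d1⟩ := h2 _ (fun l e => (c l (by omega)).res s2.inv fun _ => And.left)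
    fun l e t => by
      rw [dl_up hu t.1 t.2 fun j x => (c j (by omega)).zero]
      have := d l e t.1
      rw [(a l e).zero fun n => n.2 t.2, zero_sub] at this
      exact neg_mem_iff.1 this
  have c' := co_ext (T := T) (L := (· + 1 = m)) c1 s2.inv fun _ => And.left
  have hf : ∀ l, l.length = m → Co Γ T V V' (fun l => k l - res T (dl k') l) l := fun l e =>
    (c l (by omega)).sub (co_dl s fun j x => c' j (by omega))
  refine ⟨_, fun l e => (hf l (by omega)).res s1.inv fun _ => And.left, fun l e t => ?_⟩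
  have := dl_res_low s (up := up) (f := fun l => k l - res T (dl k') l) t.1 fun j x =>
    ⟨(hf j (by omega)).zero, fun _ => rfl, fun y z => by
      have := d1 j (by omega) ⟨y, z⟩
      rwa [res_pos ⟨y, z⟩, ← res_pos (T := T) (f := dl k') y] at this⟩
  rw [dl_sub, dl_res_dl s t.1 fun j x => (c' j (by omega)).zero, sub_zero] at this
  simpa using sub_mem (d l e t.1) this

theorem ses0 (h : Van Γ T V V' 0) : Van Γ (fun l => T l ∧ ¬ up l) V V' 0 := by
  intro f a b
  obtain ⟨k, c, d⟩ := h f (co_ext (L := (· = 0)) a (s.low hi hu).inv fun _ => And.left)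
    fun l e t => by
      by_cases u : up l
      · rw [dl_low hu t u fun j x => (a j (by omega)).zero]; exact zero_mem _
      · exact b l e ⟨t, u⟩
  exact ⟨k, fun l e => by omega, fun l e t => d l e t.1⟩

end ses

end Cfsg.Agent.H1.ML
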