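import Cfsg.Agent.H1.MlGrow

/-! # Higher limits: thin systems are acyclic -/

set_option autoImplicit false

namespace Cfsg.Agent.H1.ML

open Subgroup H83

variable {G X U : Type*} [Group G] [MulAction G X] [AddCommGroup U] [DistribMulAction G U]

variable (X U) in
/-- the atomic case -/
def Atom (p k : ℕ) (Y : Subgroup G) : Prop := ∀ (Γ : Subgroup G) (V0 V1 : AddSubgroup U),
  IsPGroup p Y → Y ≤ Γ → Γ ≤ normalizer (Y : Set G) → V0 ≤ V1 → (∀ g ∈ Γ, ∀ x ∈ V0, g • x ∈ V0) →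
  (∀ g ∈ Γ, ∀ x ∈ V1, g • x ∈ V1) → (∀ x ∈ V1, p ^ k • x ∈ V0) →
  (∃ w ∈ Γ, w ∉ Y ∧ (∃ k, w ^ p ^ k = 1) ∧
    ∀ x ∈ V1, (∀ y ∈ Y, y • x - x ∈ V0) → w • x - x ∈ V0) →
  ∀ m, Van Γ (fun l : List X => St Γ l = Y) (fun _ => V0) (fun _ => V1) m

/-- the elements acting trivially on the `Y`-fixed classes -/
def Ctr (Γ Y : Subgroup G) (V0 V1 : AddSubgroup U) (h0 : ∀ g ∈ Γ, ∀ x ∈ V0, g • x ∈ V0) :
    Subgroup G where
  carrier := {g | g ∈ Γ ∧ ∀ x ∈ V1, (∀ y ∈ Y, y • x - x ∈ V0) → g • x - x ∈ V0}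
  one_mem' := ⟨one_mem _, fun x _ _ => by rw [one_smul, sub_self]; exact zero_mem _⟩
  mul_mem' {a b} ha hb := ⟨mul_mem ha.1 hb.1, fun x hx h => by
    convert add_mem (h0 a ha.1 _ (hb.2 x hx h)) (ha.2 x hx h) using 1
    rw [smul_sub, mul_smul]; abel⟩
  inv_mem' {a} ha := ⟨inv_mem ha.1, fun x hx h => by
    convert neg_mem (h0 _ (Γ.inv_mem ha.1) _ (ha.2 x hx h)) using 1
    rw [smul_sub, inv_smul_smul]; abel⟩

variable [Finite G] {p k : ℕ} [Fact p.Prime]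

theorem thin_of (ad : Adm p G X) {Γ : Subgroup G} {T : List X → Prop}
    {V V' : List X → AddSubgroup U} (s : Sy Γ T V V')
    (hd : ∀ a b, St Γ a = St Γ b → T a → T b ∧ V a = V b ∧ V' a = V' b)
    (hk : ∀ l, T l → ∀ x ∈ V' l, p ^ k • x ∈ V l)
    (ht : ∀ l, T l → ∃ w ∈ Γ, w ∈ normalizer (St Γ l : Set G) ∧ w ∉ St Γ l ∧
      (∃ k, w ^ p ^ k = 1) ∧ ∀ x ∈ V' l, (∀ y ∈ St Γ l, y • x - x ∈ V l) → w • x - x ∈ V l)
    (hA : ∀ l, T l → Atom X U p k (St Γ l)) (m : ℕ) : Van Γ T V V' m := by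
  refine filt_loc s (St Γ) (fun g hg l _ => St_smul hg l) (fun a b e _ _ => St_anti e) fun Y => ?_
  by_cases h : ∃ l, T l ∧ St Γ l = Y
  swap
  · exact van_empty fun l _ t => h ⟨l, t⟩
  obtain ⟨l0, t0, rfl⟩ := h
  obtain ⟨w, hw, hn, hw', hp, hx⟩ := ht l0 t0
  have e0 : ∀ g ∈ Γ ⊓ normalizer (St Γ l0 : Set G), St Γ (g • l0) = St Γ l0 := fun g hg => by
    rw [St_smul hg.1, cj_eq_self hg.2]
  have p0 : IsPGroup p (St Γ l0) := ad.pSt Γ fun e => hw' (by rwa [e, St_nil])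
  refine Van.congr (Van.congrT (hA l0 t0 (Γ ⊓ normalizer (St Γ l0 : Set G)) (V l0) (V' l0) p0
    (le_inf St_le le_normalizer) inf_le_right (s.le l0 t0) (fun g hg x hx => ?_)
    (fun g hg x hx => ?_) (hk l0 t0) ⟨w, ⟨hw, hn⟩, hw', hp, hx⟩ m) fun l _ => ?_)
    (fun g hg l t => ⟨s.inv g hg.1 l t.1, by rw [St_smul hg.1, t.2, cj_eq_self hg.2]⟩)
    fun l _ t => (hd l0 l t.2.symm t0).2
  · rw [(hd l0 _ (e0 g hg).symm t0).2.1]; exact s.act g hg.1 l0 t0 x hx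
  · rw [(hd l0 _ (e0 g hg).symm t0).2.2]; exact s.act' g hg.1 l0 t0 x hx
  · rw [St_inf]
    refine ⟨fun e => ?_, fun t => by rw [t.2]; exact inf_eq_left.2 le_normalizer⟩
    have pl : IsPGroup p (St Γ l) := ad.pSt Γ fun e' => hw' (by
      rw [← e, e', St_nil]; exact ⟨hw, hn⟩)
    have : St Γ l = St Γ l0 := by
      rw [← e]; exact (inf_eq_left.2 (le_norm_of_grow pl fun g _ hg => by rwa [e] at hg)).symm
    exact ⟨(hd l0 l this.symm t0).1, this⟩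

theorem van_TC (ad : Adm p G X) {Γ Y C : Subgroup G} {V0 V1 : AddSubgroup U}
    (hn : Γ ≤ normalizer (Y : Set G)) (h : V0 ≤ V1)
    (h0 : ∀ g ∈ Γ, ∀ x ∈ V0, g • x ∈ V0) (h1 : ∀ g ∈ Γ, ∀ x ∈ V1, g • x ∈ V1)
    (hk : ∀ x ∈ V1, p ^ k • x ∈ V0) (hC : C ≤ Γ) (hCn : Γ ≤ normalizer (C : Set G))
    (hY : ∀ Q, IsSylowIn p Q C → Y ≤ Q)
    (hc : ∀ g ∈ C, ∀ x ∈ V1, (∀ y ∈ Y, y • x - x ∈ V0) → g • x - x ∈ V0) (m : ℕ) :
    Van Γ (fun l : List X => Y ≤ St Γ l ∧ ∃ Q, IsSylowIn p Q C ∧ Q ≤ St Γ l) (fun _ => V0)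
      (fun _ => V1) m := by
  have mk : ∀ Q (l : List X), IsSylowIn p Q C → Q ≤ St Γ l →
      Y ≤ St Γ l ∧ ∃ Q, IsSylowIn p Q C ∧ Q ≤ St Γ l := fun Q l a b => ⟨(hY Q a).trans b, Q, a, b⟩
  have iv : ∀ g ∈ Γ, ∀ l : List X, (Y ≤ St Γ l ∧ ∃ Q, IsSylowIn p Q C ∧ Q ≤ St Γ l) →
      Y ≤ St Γ (g • l) ∧ ∃ Q, IsSylowIn p Q C ∧ Q ≤ St Γ (g • l) := fun g hg l ⟨_, Q, a, b⟩ =>
    mk _ _ (a.cj_of_norm (hCn hg)) (by rw [St_smul hg]; exact cj_mono g b)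
  obtain ⟨Q0, hQ0⟩ := exists_isSylowIn p C
  obtain ⟨x0, hx0⟩ := ad.ex Q0 hQ0.isPGroup
  have q0 : Q0 ≤ St Γ [x0] := fun g hg => mem_St.2 ⟨hC (hQ0.le hg), by simpa using hx0 hg⟩
  have t0 := mk _ _ hQ0 q0
  rcases m with _ | _ | m
  · intro f a b
    refine ⟨fun _ => 0, fun l _ => co_zero l, fun l e _ => ?_⟩
    rw [List.length_eq_zero_iff.1 e]
    exact b [x0] rfl t0
  · intro f a b
    have hu := (a [x0] rfl).mem t0
    have key : ∀ x, (Y ≤ St Γ [x] ∧ ∃ Q, IsSylowIn p Q C ∧ Q ≤ St Γ [x]) →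
        f [x] - f [x0] ∈ V0 := fun x ⟨_, Q, hQ, q⟩ => by
      obtain ⟨c, hc', rfl⟩ := hQ0.exists_conj hQ
      have e1 := b [c • x0, x] rfl (mk _ _ hQ fun g hg => mem_St.2 ⟨(q hg).1, by
        have := mem_St.1 (((cj_mono c q0).trans_eq (St_smul (hC hc') [x0]).symm) hg)
        simpa using ⟨by simpa using this.2, by simpa using (mem_St.1 (q hg)).2⟩⟩)
      have e2 := (a [x0] rfl).eqv t0 c (hC hc')
      have e3 := hc c hc' _ hu fun y hy => by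
        have := (a [x0] rfl).eqv t0 y (t0.1 hy).1
        rwa [show y • [x0] = [x0] from (t0.1 hy).2] at this
      convert add_mem (sub_mem e1 e2) e3 using 1
      simp [dl_cons, dl_nil]
    refine ⟨fun _ => f [x0], fun l e => ⟨fun _ => hu, fun _ g hg => ?_, fun n => (n ?_).elim⟩,
      fun l e t => ?_⟩
    · convert add_mem ((a [x0] rfl).eqv t0 g hg) (key (g • x0) (iv g hg _ t0)) using 1
      simp
    · exact mk _ _ hQ0 (q0.trans (St_anti (by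
        rw [List.length_eq_zero_iff.1 (show l.length = 0 by omega)]; simp)))
    · obtain ⟨x, rfl⟩ := List.length_eq_one_iff.1 e
      simpa [dl_cons, dl_nil] using key x t
  have lab : ∀ Q (l : List X), l ≠ [] → IsSylowIn p Q C → Q ≤ St Γ l → St Γ l ⊓ C = Q :=
    fun Q l n a b => a.max _ inf_le_right ((ad.pSt Γ n).to_le inf_le_left) (le_inf b a.le)
  refine Van.congrT (T := fun l : List X =>
    (Y ≤ St Γ l ∧ ∃ Q, IsSylowIn p Q C ∧ Q ≤ St Γ l) ∧ l ≠ []) (loc (sy_const h h0 h1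
      (fun g hg l t => ⟨iv g hg l t.1, fun e => t.2 (List.map_eq_nil_iff.1 e)⟩)
      fun a b c e e' x ⟨⟨_, Q, y, z⟩, _⟩ => ⟨mk _ _ y (z.trans (St_anti e')), fun n =>
        x.2 (List.subset_nil.1 (n ▸ e))⟩) (fun l => St Γ l ⊓ C)
      (fun g hg l _ => by rw [St_smul hg, cj_inf, cj_eq_self (hCn hg)])
      (fun a b e x ⟨⟨_, Q, y, z⟩, w⟩ => by
        rw [lab Q b w y z, lab Q a x.2 y (z.trans (St_anti e))]) fun Q => ?_)
    fun l e => ⟨fun t => t.1, fun t => ⟨t, fun n => by simp [n] at e⟩⟩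
  by_cases hQ : IsSylowIn p Q C
  · refine (mv_syl ad hQ.isPGroup (le_inf (hQ.le.trans hC) le_normalizer) inf_le_right h
      (fun g hg => h0 g hg.1) (fun g hg => h1 g hg.1) hk _).congrT fun l e => ?_
    have n : l ≠ [] := fun n => by simp [n] at e
    rw [St_inf]
    exact ⟨fun t => ⟨⟨mk _ _ hQ (t.trans inf_le_left), n⟩, lab Q l n hQ (t.trans inf_le_left)⟩,
      fun t => le_inf (t.2.ge.trans inf_le_left) le_normalizer⟩
  · exact van_empty fun l _ ⟨⟨⟨_, Q', y, z⟩, w⟩, e⟩ => hQ (by rwa [← e, lab Q' l w y z])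

theorem atom_step (ad : Adm p G X) {Y : Subgroup G}
    (ih : ∀ P : Subgroup G, Y < P → Atom X U p k P) : Atom X U p k Y := by
  rintro Γ V0 V1 hY hl hn h h0 h1 hk ⟨w, hw, hw', ⟨j, hj⟩, hx⟩
  set C := Ctr Γ Y V0 V1 h0
  have hC : C ≤ Γ := fun g hg => hg.1
  have hYC : Y ≤ C := fun g hg => ⟨hl hg, fun x _ a => a g hg⟩
  have cn : ∀ g ∈ Γ, ∀ c ∈ C, g * c * g⁻¹ ∈ C := fun g hg c hc =>
    ⟨Γ.mul_mem (Γ.mul_mem hg hc.1) (Γ.inv_mem hg), fun x hx a => by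
      have := h0 g hg _ (hc.2 _ (h1 _ (Γ.inv_mem hg) x hx) fun y hy => by
        have := h0 _ (Γ.inv_mem hg) _ (a _ (conj_mem hn hg hy))
        simpa only [smul_sub, mul_smul, inv_smul_smul] using this)
      simpa only [smul_sub, mul_smul, smul_inv_smul] using this⟩
  have hCn : Γ ≤ normalizer (C : Set G) := fun g hg => mem_normalizer_iff.2 fun c =>
    ⟨cn g hg c, fun hc => by simpa [mul_assoc] using cn _ (Γ.inv_mem hg) _ hc⟩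
  have hi : ∀ g ∈ Γ, ∀ l : List X, Y ≤ St Γ l → Y ≤ St Γ (g • l) := fun g hg l t => by
    rw [St_smul hg, ← cj_eq_self (hn hg)]; exact cj_mono g t
  have s : Sy Γ (fun l : List X => Y ≤ St Γ l) (fun _ => V0) (fun _ => V1) :=
    sy_const h h0 h1 hi fun a b c _ e _ t => t.trans (St_anti e)
  have i1 : ∀ g ∈ Γ, ∀ l : List X, Y ≤ St Γ l → (∃ Q, IsSylowIn p Q C ∧ Q ≤ St Γ l) →
      ∃ Q, IsSylowIn p Q C ∧ Q ≤ St Γ (g • l) := fun g hg l _ ⟨Q, a, b⟩ =>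
    ⟨_, a.cj_of_norm (hCn hg), by rw [St_smul hg]; exact cj_mono g b⟩
  have u1 : ∀ a b : List X, a ⊆ b → Y ≤ St Γ a → Y ≤ St Γ b →
      (∃ Q, IsSylowIn p Q C ∧ Q ≤ St Γ b) → ∃ Q, IsSylowIn p Q C ∧ Q ≤ St Γ a :=
    fun a b e _ _ ⟨Q, x, y⟩ => ⟨Q, x, y.trans (St_anti e)⟩
  have vl : ∀ m, Van Γ (fun l : List X => Y ≤ St Γ l ∧ ¬ ∃ Q, IsSylowIn p Q C ∧ Q ≤ St Γ l)
      (fun _ => V0) (fun _ => V1) m := fun m => by
    cases m with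
    | zero => exact ses0 s i1 u1 (mv_syl ad hY hl hn h h0 h1 hk 0)
    | succ m =>
      exact ses3 s i1 u1 (van_TC ad hn h h0 h1 hk hC hCn (fun Q hQ =>
        hQ.le_of_norm hYC hY ((hQ.le.trans hC).trans hn)) (fun g hg => hg.2) m)
        (mv_syl ad hY hl hn h h0 h1 hk _)
  have s1 := s.low i1 u1
  have i2 : ∀ g ∈ Γ, ∀ l : List X, (Y ≤ St Γ l ∧ ¬ ∃ Q, IsSylowIn p Q C ∧ Q ≤ St Γ l) →
      St Γ l ≠ Y → St Γ (g • l) ≠ Y := fun g hg l _ n e => n (by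
    rwa [St_smul hg, ← cj_eq_self (hn hg), cj_inj] at e)
  have u2 : ∀ a b : List X, a ⊆ b → (Y ≤ St Γ a ∧ ¬ ∃ Q, IsSylowIn p Q C ∧ Q ≤ St Γ a) →
      (Y ≤ St Γ b ∧ ¬ ∃ Q, IsSylowIn p Q C ∧ Q ≤ St Γ b) → St Γ b ≠ Y → St Γ a ≠ Y :=
    fun a b e _ t n e' => n (le_antisymm (e' ▸ St_anti e) t.1)
  have vm := thin_of ad (s1.upp i2 u2) (fun a b e t => ⟨by rwa [← e], rfl, rfl⟩) (fun _ _ => hk)
    (fun l t => by
      have pl : IsPGroup p (St Γ l) := ad.pSt Γ fun e => t.1.2 (by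
        obtain ⟨Q, hQ⟩ := exists_isSylowIn p C
        exact ⟨Q, hQ, by rw [e, St_nil]; exact hQ.le.trans hC⟩)
      obtain ⟨c, hc, a, b, d⟩ := grow pl (St_le.trans hCn) fun n => t.1.2 ⟨_, n, inf_le_left⟩
      exact ⟨c, hc.1, a, b, d, fun x hx y => hc.2 x hx fun z hz => y z (t.1.1 hz)⟩)
    fun l t => ih _ (lt_of_le_of_ne t.1.1 t.2.symm)
  intro m
  refine Van.congrT (T := fun l : List X => (Y ≤ St Γ l ∧ ¬ ∃ Q, IsSylowIn p Q C ∧ Q ≤ St Γ l) ∧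
    ¬ St Γ l ≠ Y) ?_ fun l _ => ⟨fun t => not_not.1 t.2, fun e => ⟨⟨e.ge, fun ⟨Q, a, b⟩ => hw' ?_⟩,
      not_not.2 e⟩⟩
  · cases m with
    | zero => exact ses0 s1 i2 u2 (vl 0)
    | succ m => exact ses3 s1 i2 u2 (vm m) (vl _)
  · rw [e] at b
    have := a.max Y hYC hY b
    rw [← this] at a
    exact a.mem_of_norm ⟨hw, hx⟩ hj (hn hw)

theorem atom_all (ad : Adm p G X) (Y : Subgroup G) : Atom X U p k Y :=
  WellFoundedGT.induction (motive := fun Y => Atom X U p k Y) Y fun _ ih => atom_step ad ih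

/-- the thin case, in all universes -/
theorem thin (ad : Adm p G X) {Γ : Subgroup G} {T : List X → Prop}
    {V V' : List X → AddSubgroup U} (s : Sy Γ T V V')
    (hd : ∀ a b, St Γ a = St Γ b → T a → T b ∧ V a = V b ∧ V' a = V' b)
    (hk : ∀ l, T l → ∀ x ∈ V' l, p ^ k • x ∈ V l)
    (ht : ∀ l, T l → ∃ w ∈ Γ, w ∈ normalizer (St Γ l : Set G) ∧ w ∉ St Γ l ∧
      (∃ k, w ^ p ^ k = 1) ∧ ∀ x ∈ V' l, (∀ y ∈ St Γ l, y • x - x ∈ V l) → w • x - x ∈ V l)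
    (m : ℕ) : Van Γ T V V' m :=
  thin_of ad s hd hk ht (fun _ _ => atom_all ad _) m

universe u in
theorem thinStmt : ThinStmt.{u} := fun _ _ _ _ _ _ _ _ _ _ ad _ _ _ _ s hd ⟨_, hk⟩ ht m =>
  thin ad s hd hk ht m

end Cfsg.Agent.H1.ML
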