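import Cfsg.Agent.H1.MlBo
import Cfsg.Agent.H1.MlThin

/-! # Higher limits: the local vanishing theorem -/

set_option autoImplicit false

namespace Cfsg.Agent.H1.ML

open Subgroup H83

variable {G X U M : Type*} [Group G] [MulAction G X] [AddCommGroup U] [DistribMulAction G U]
  [AddCommGroup M] [DistribMulAction G M] [Finite G] {p : ℕ} [Fact p.Prime]

/-- filtration by a monotone equivariant label of the stabilizer -/
theorem van_label {Γ : Subgroup G} {T : List X → Prop} {V V' : List X → AddSubgroup U} {m : ℕ}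
    (s : Sy Γ T V V') (y : Subgroup G → Subgroup G) (hy : ∀ g ∈ Γ, ∀ P, y (cj g P) = cj g (y P))
    (hm : ∀ P Q, P ≤ Q → y P ≤ y Q) (hT : ∀ l, T l → l ≠ [])
    (hT' : ∀ l l', T l → l' ≠ [] → y (St Γ l') = y (St Γ l) → T l')
    (h : ∀ l, T l → Van (Γ ⊓ normalizer (y (St Γ l) : Set G))
      (fun k => k ≠ [] ∧ y (St Γ k) = y (St Γ l)) V V' m) : Van Γ T V V' m := by
  refine filt_loc s (fun l => y (St Γ l)) (fun g hg l _ => by rw [St_smul hg, hy g hg])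
    (fun a b e _ _ => hm _ _ (St_anti e)) fun Y => ?_
  by_cases e : ∃ l, T l ∧ y (St Γ l) = Y
  · obtain ⟨l, t, rfl⟩ := e
    exact (h l t).congrT fun k _ => ⟨fun x => ⟨hT' l k t x.1 x.2, x.2⟩, fun x => ⟨hT k x.1, x.2⟩⟩
  · exact van_empty fun l _ t => e ⟨l, t⟩

omit [Finite G] in
theorem sy_bt {Γ : Subgroup G} {T : List X → Prop} (hi : ∀ g ∈ Γ, ∀ l, T l → T (g • l))
    (hc : ∀ a b c, a ⊆ b → b ⊆ c → T a → T c → T b) :
    Sy Γ T (fun _ => (⊥ : AddSubgroup M)) (fun _ => ⊤) :=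
  sy_const bot_le (fun g _ x hx => by rw [AddSubgroup.mem_bot.1 hx, smul_zero]; exact zero_mem _)
    (fun _ _ _ _ => trivial) hi hc

theorem loc_main [Finite M] (ad : Adm p G X) (hM : IsPGroup p (Multiplicative M))
    (desc : ∀ Γ Y : Subgroup G, Γ ≤ normalizer (Y : Set G) → IsSylowIn p Y (Γ ⊓ kr G (fx M Y)) →
      Van Γ (fun l : List X => Y ≤ St Γ l ∧ JJ (BO (fx M Y)) (St Γ l) ≠ Y)
        (fun _ => (⊥ : AddSubgroup M)) (fun _ => ⊤) 2) (Y : Subgroup G) :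
    ∀ Γ : Subgroup G, IsPGroup p Y → Y ≤ Γ →
    Γ ≤ normalizer (Y : Set G) → ∀ R : Subgroup G → Prop, (∀ P, R P → Y ≤ P) →
    (∀ P Q W, P ≤ Q → Q ≤ W → R P → R W → R Q) → (∀ g ∈ Γ, ∀ P, R P → R (cj g P)) →
    (∀ P, Y ≤ P → P ≤ Γ → IsPGroup p P → (R P ↔ R (JJ (BO (fx M Y)) P))) →
    ∀ m, 3 ≤ m →
      Van Γ (fun l : List X => R (St Γ l)) (fun _ => (⊥ : AddSubgroup M)) (fun _ => ⊤) m := by
  induction Y using WellFoundedGT.induction with | _ Y ih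
  intro Γ hY hl hn R r1 r2 r3 r4 m hm
  obtain ⟨k, hk⟩ := exists_pow_smul hM
  set J : Subgroup G → Subgroup G := JJ (BO (fx M Y)) with hJ
  have hj : ∀ g ∈ Γ, ∀ P, J (cj g P) = cj g (J P) := fun g hg P => JJ_bo_cj hn hg P
  have ne : ∀ {m : ℕ} {l : List X}, 3 ≤ m → m ≤ l.length + 1 → l ≠ [] := fun a b e => by
    rw [e] at b; simp at b; omega
  have nes : ∀ (g : G) {l : List X}, l ≠ [] → g • l ≠ [] := fun g l n e =>
    n (List.map_eq_nil_iff.1 e)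
  have nec : ∀ {a b : List X}, a ⊆ b → a ≠ [] → b ≠ [] := fun e n e' =>
    n (List.subset_nil.1 (e' ▸ e))
  have big : ∀ l : List X, l ≠ [] → Y < J (St Γ l) → ∀ m, 3 ≤ m →
      Van (Γ ⊓ normalizer (J (St Γ l) : Set G)) (fun k => k ≠ [] ∧ J (St Γ k) = J (St Γ l))
        (fun _ => (⊥ : AddSubgroup M)) (fun _ => ⊤) m := fun l n lt m hm => by
    generalize e : J (St Γ l) = Y1 at lt
    refine (ih Y1 lt _ ((ad.pSt Γ n).to_le (e ▸ JJ_le))
      (le_inf (e ▸ JJ_le.trans St_le) le_normalizer) inf_le_right (fun P => J P = Y1)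
      (fun P a => a ▸ JJ_le) (fun P Q W a b c d => le_antisymm (d ▸ JJ_mono b) (c ▸ JJ_mono a))
      (fun g hg P a => by rw [hj g hg.1, a, cj_eq_self hg.2])
      (fun P _ _ _ => by rw [hJ, JJ_JJ fun A a => a.mono (fx_anti lt.le)]) m hm).congrT
      fun k hk => ?_
    have nk := ne hm hk
    exact ⟨fun a => ⟨nk, by rwa [← St_norm_eq (ad.pSt Γ nk) J hj (.inr a)]⟩,
      fun a => by rw [St_norm_eq (ad.pSt Γ nk) J hj (.inl a.2)]; exact a.2⟩
  have hi : ∀ g ∈ Γ, ∀ l : List X, Y ≤ St Γ l → Y ≤ St Γ (g • l) := fun g hg l t => by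
    rw [St_smul hg, ← cj_eq_self (hn hg)]; exact cj_mono g t
  have i1 : ∀ g ∈ Γ, ∀ l : List X, J (St Γ (g • l)) = Y ↔ J (St Γ l) = Y := fun g hg l => by
    rw [St_smul hg, hj g hg]
    conv_lhs => rw [← cj_eq_self (hn hg), cj_inj]
  have u1 : ∀ a b : List X, a ⊆ b → Y ≤ St Γ b → J (St Γ b) ≠ Y → J (St Γ a) ≠ Y :=
    fun a b e t n e' => n (le_antisymm (e' ▸ JJ_mono (St_anti e)) (le_JJ_fx t))
  have small : Van Γ (fun k : List X => k ≠ [] ∧ J (St Γ k) = Y) (fun _ => (⊥ : AddSubgroup M))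
      (fun _ => ⊤) m := by
    by_cases hS : IsSylowIn p Y (Γ ⊓ kr G (fx M Y))
    · obtain ⟨m, rfl⟩ : ∃ n, m = n + 1 := ⟨m - 1, by omega⟩
      refine (ses3 (up := fun l => J (St Γ l) ≠ Y)
        (sy_bt hi fun a b c _ e _ t => t.trans (St_anti e))
        (fun g hg l _ n e => n ((i1 g hg l).1 e)) (fun a b e _ => u1 a b e) ?_
        (mv_syl (V1 := ⊤) ad hY hl hn bot_le (fun g _ x hx => by
          rw [AddSubgroup.mem_bot.1 hx, smul_zero]; exact zero_mem _) (fun _ _ _ _ => trivial)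
          (fun x _ => hk x) _)).congrT fun l e =>
        ⟨fun t => ⟨ne hm e, not_not.1 t.2⟩, fun t => ⟨t.2 ▸ JJ_le, not_not.2 t.2⟩⟩
      rcases (show 2 ≤ m by omega).eq_or_lt with rfl | h3
      · exact desc Γ Y hn hS
      refine Van.congrT (T := fun l : List X => l ≠ [] ∧ Y ≤ St Γ l ∧ J (St Γ l) ≠ Y)
        (van_label (sy_bt (fun g hg l t => ⟨nes g t.1, hi g hg l t.2.1,
          fun e => t.2.2 ((i1 g hg l).1 e)⟩) fun a b c e e' s t =>
          ⟨nec e s.1, t.2.1.trans (St_anti e'), u1 b c e' t.2.1 t.2.2⟩) J hj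
          (fun _ _ => JJ_mono) (fun _ t => t.1) (fun l l' t n e =>
            ⟨n, (le_JJ_fx t.2.1).trans (e.ge.trans JJ_le), e ▸ t.2.2⟩) fun l t =>
          big l t.1 (lt_of_le_of_ne (le_JJ_fx t.2.1) t.2.2.symm) m h3)
        fun l e => ⟨fun t => t.2, fun t => ⟨ne h3 e, t⟩⟩
    · refine (thin (T := fun l : List X => IsPGroup p (St Γ l) ∧ J (St Γ l) = Y) (k := k) ad
        (sy_bt (fun g hg l t => ⟨by rw [St_smul hg]; exact isPGroup_cj t.1 g, (i1 g hg l).2 t.2⟩)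
          fun a b c e e' s t => ⟨s.1.to_le (St_anti e), le_antisymm (s.2 ▸ JJ_mono (St_anti e))
            (t.2 ▸ JJ_mono (St_anti e'))⟩) (fun a b e t => ⟨by rwa [← e], rfl, rfl⟩)
        (fun _ _ x _ => hk x) (fun l t => ?_) m).congrT fun l e =>
        ⟨fun t => ⟨ne hm e, t.2⟩, fun t => ⟨ad.pSt Γ t.1, t.2⟩⟩
      have yl : Y ≤ St Γ l := t.2 ▸ JJ_le
      obtain ⟨c, hc, a, b, d⟩ := grow (C := Γ ⊓ kr G (fx M Y)) t.1 (St_le.trans (le_norm_inf
        le_normalizer (le_norm_kr fun g hg x hx => smul_mem_fx_of_norm hx (hn hg)))) fun n => hS (by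
          rwa [le_antisymm ((inf_le_inf_left _ inf_le_right).trans (inf_kr_le_JJ.trans t.2.le))
            (le_inf yl (le_inf hl le_kr_fx))] at n)
      exact ⟨c, hc.1, a, b, d, fun x _ y => AddSubgroup.mem_bot.2 (sub_eq_zero.2
        (hc.2 x fun z hz => sub_eq_zero.1 (AddSubgroup.mem_bot.1 (y z (yl hz)))))⟩
  refine Van.congrT (T := fun l : List X => l ≠ [] ∧ R (St Γ l))
    (van_label (sy_bt (fun g hg l t => ⟨nes g t.1, by rw [St_smul hg]; exact r3 g hg _ t.2⟩)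
      fun a b c e e' s t => ⟨nec e s.1, r2 _ _ _ (St_anti e') (St_anti e) t.2 s.2⟩) J hj
      (fun _ _ => JJ_mono) (fun _ t => t.1) (fun l l' t n e => ⟨n, ?_⟩) fun l t => ?_)
    fun l e => ⟨fun t => t.2, fun t => ⟨ne hm e, t⟩⟩
  · rw [r4 _ ((le_JJ_fx (r1 _ t.2)).trans (e.ge.trans JJ_le)) St_le (ad.pSt Γ n), e,
      ← r4 _ (r1 _ t.2) St_le (ad.pSt Γ t.1)]
    exact t.2
  · rcases (le_JJ_fx (M := M) (r1 _ t.2)).eq_or_lt with e | e
    · rw [← hJ] at e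
      rw [← e, inf_eq_left.2 hn]; exact small
    · exact big l t.1 e m hm

universe u in
theorem locStmt (hd : DescStmt.{u}) : LocStmt.{u} := fun G X M _ _ _ _ _ _ p _ ad hM Γ Y =>
  loc_main ad hM (hd G X M p ad hM) Y Γ

end Cfsg.Agent.H1.ML
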