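import Cfsg.Agent.H1.MlBo

/-! # Higher limits: the centre functor inside the free abelian group -/

set_option autoImplicit false

namespace Cfsg.Agent.H1.ML

open Subgroup H83
open scoped commutatorElement

variable {G X : Type*} [Group G] [MulAction G X] {P Q : Subgroup G} {x y : ZG G} {a b : G}

theorem mem_Zc : a ∈ Zc P ↔ a ∈ P ∧ ∀ h ∈ P, h * a = a * h := Iff.rfl

theorem Zc_comm (ha : a ∈ Zc P) (hb : b ∈ Zc P) : a * b = b * a := hb.2 a ha.1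

theorem conj_mem_Zc (ha : a ∈ Zc P) (g : G) : g * a * g⁻¹ ∈ Zc (cj g P) :=
  ⟨conj_mem_cj ha.1, fun h hh => by
    have := ha.2 _ (mem_cj.1 hh)
    calc h * (g * a * g⁻¹) = g * (g⁻¹ * h * g * a) * g⁻¹ := by group
      _ = _ := by rw [this]; group⟩

theorem zo_mul_mem (ha : a ∈ Zc P) (hb : b ∈ Zc P) : zo (a * b) - zo a - zo b ∈ Z0 P :=
  AddSubgroup.subset_closure ⟨a, ha, b, hb, rfl⟩

theorem zo_one_mem : zo (1 : G) ∈ Z0 P := by
  simpa using zo_mul_mem (P := P) (one_mem _) (one_mem _)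

theorem zo_mem (ha : a ∈ Zc P) : zo a ∈ Z1 P := AddSubgroup.subset_closure ⟨a, ha, rfl⟩

theorem Z0_le : Z0 P ≤ Z1 P := (AddSubgroup.closure_le _).2 (by
  rintro _ ⟨a, ha, b, hb, rfl⟩
  exact sub_mem (sub_mem (zo_mem (mul_mem ha hb)) (zo_mem ha)) (zo_mem hb))

theorem Z0_mono (h : Zc P ≤ Zc Q) : Z0 P ≤ Z0 Q :=
  AddSubgroup.closure_mono fun _ ⟨a, ha, b, hb, e⟩ => ⟨a, h ha, b, h hb, e⟩

theorem Z1_mono (h : Zc P ≤ Zc Q) : Z1 P ≤ Z1 Q :=
  AddSubgroup.closure_mono fun _ ⟨a, ha, e⟩ => ⟨a, h ha, e⟩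

theorem smul_mem_Z0 (h : x ∈ Z0 P) (g : G) : g • x ∈ Z0 (cj g P) := by
  refine (AddSubgroup.closure_le ((Z0 (cj g P)).comap (DistribSMul.toAddMonoidHom _ g))).2 ?_ h
  rintro _ ⟨a, ha, b, hb, rfl⟩
  change g • (zo (a * b) - zo a - zo b) ∈ Z0 (cj g P)
  rw [smul_sub, smul_sub, smul_zo, smul_zo, smul_zo,
    show g * (a * b) * g⁻¹ = g * a * g⁻¹ * (g * b * g⁻¹) by group]
  exact zo_mul_mem (conj_mem_Zc ha g) (conj_mem_Zc hb g)

/-- `x` represents the element `a` of the centre of `P` -/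
def RZ (P : Subgroup G) (x : ZG G) (a : G) : Prop := a ∈ Zc P ∧ x - zo a ∈ Z0 P

theorem rz_zo (ha : a ∈ Zc P) : RZ P (zo a) a := ⟨ha, by rw [sub_self]; exact zero_mem _⟩
theorem rz_zero : RZ P 0 1 := ⟨one_mem _, by rw [zero_sub]; exact neg_mem zo_one_mem⟩
theorem RZ.add (h : RZ P x a) (k : RZ P y b) : RZ P (x + y) (a * b) :=
  ⟨mul_mem h.1 k.1, by
    convert sub_mem (add_mem h.2 k.2) (zo_mul_mem h.1 k.1) using 1
    abel⟩
theorem RZ.neg (h : RZ P x a) : RZ P (-x) a⁻¹ :=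
  ⟨inv_mem h.1, by
    have := zo_mul_mem h.1 (inv_mem h.1)
    rw [mul_inv_cancel] at this
    convert sub_mem (sub_mem this h.2) zo_one_mem using 1
    abel⟩
theorem RZ.nsmul (h : RZ P x a) (n : ℕ) : RZ P (n • x) (a ^ n) := by
  induction n with
  | zero => simpa using rz_zero
  | succ n ih => rw [succ_nsmul, pow_succ]; exact ih.add h
theorem RZ.mono (h : RZ P x a) (k : Zc P ≤ Zc Q) : RZ Q x a := ⟨k h.1, Z0_mono k h.2⟩
theorem RZ.smul (h : RZ P x a) (g : G) : RZ (cj g P) (g • x) (g * a * g⁻¹) :=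
  ⟨conj_mem_Zc h.1 g, by rw [← smul_zo, ← smul_sub]; exact smul_mem_Z0 h.2 g⟩
theorem RZ.mem (h : RZ P x a) : x ∈ Z1 P := by
  simpa using add_mem (Z0_le h.2) (zo_mem h.1)
theorem exists_rz (h : x ∈ Z1 P) : ∃ a, RZ P x a := by
  induction h using AddSubgroup.closure_induction with
  | mem x h => obtain ⟨a, ha, rfl⟩ := h; exact ⟨a, rz_zo ha⟩
  | zero => exact ⟨1, rz_zero⟩
  | add x y _ _ h k => exact h.elim fun a h => k.elim fun b k => ⟨_, h.add k⟩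
  | neg x _ h => exact h.elim fun a h => ⟨_, h.neg⟩

/-- the centre of `P` as an additive group -/
def ZM (P : Subgroup G) := Additive (Zc P)
instance : AddCommGroup (ZM P) where
  __ : AddGroup (ZM P) := inferInstanceAs (AddGroup (Additive (Zc P)))
  add_comm a b := Subtype.ext (Zc_comm a.2 b.2)
instance [Finite G] : Finite (ZM P) := inferInstanceAs (Finite (Zc P))
/-- the underlying element -/
def zv (z : ZM P) : G := (show Zc P from z).1
/-- an element of the centre -/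
def zk (a : G) (h : a ∈ Zc P) : ZM P := (⟨a, h⟩ : Zc P)
theorem zv_mem (z : ZM P) : zv z ∈ Zc P := (show Zc P from z).2
@[simp] theorem zv_zk (h : a ∈ Zc P) : zv (zk a h) = a := rfl
theorem zv_add (z w : ZM P) : zv (z + w) = zv z * zv w := rfl
theorem zv_neg (z : ZM P) : zv (-z) = (zv z)⁻¹ := rfl
theorem zv_zero : zv (0 : ZM P) = 1 := rfl
theorem zv_inj {z w : ZM P} (h : zv z = zv w) : z = w := Subtype.ext h

theorem eq_one_of_zo_mem (ha : a ∈ Zc P) (h : zo a ∈ Z0 P) : a = 1 := by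
  classical
  let φ : ZG G →+ ZM P := FreeAbelianGroup.lift fun g => if h : g ∈ Zc P then zk g h else 0
  have e : ∀ g (h : g ∈ Zc P), φ (zo g) = zk g h := fun g h =>
    (FreeAbelianGroup.lift_apply_of _ _).trans (dif_pos h)
  have : Z0 P ≤ φ.ker := (AddSubgroup.closure_le _).2 (by
    rintro _ ⟨a, ha, b, hb, rfl⟩
    change φ _ = 0
    rw [map_sub, map_sub, e _ ha, e _ hb, e _ (mul_mem ha hb), sub_sub, sub_eq_zero]
    rfl)
  exact congrArg zv ((e a ha).symm.trans (this h))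

theorem RZ.mem_iff (h : RZ P x a) : x ∈ Z0 P ↔ a = 1 :=
  ⟨fun k => eq_one_of_zo_mem h.1 (by simpa using sub_mem k h.2), fun e => by
    have := add_mem h.2 zo_one_mem
    rwa [e, sub_add_cancel] at this⟩

theorem RZ.unique (h : RZ P x a) (k : RZ P x b) : a = b :=
  mul_inv_eq_one.1 ((h.add k.neg).mem_iff.1 (by rw [add_neg_cancel]; exact zero_mem _))

/-- the classes represented in `Q` -/
def ZW (P Q : Subgroup G) : AddSubgroup (ZG G) where
  carrier := {x | ∃ a ∈ Q, RZ P x a}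
  zero_mem' := ⟨1, one_mem _, rz_zero⟩
  add_mem' := fun ⟨_, ha, h⟩ ⟨_, hb, k⟩ => ⟨_, mul_mem ha hb, h.add k⟩
  neg_mem' := fun ⟨_, ha, h⟩ => ⟨_, inv_mem ha, h.neg⟩

theorem Z0_le_ZW : Z0 P ≤ ZW P Q := fun _ h => ⟨1, one_mem _, one_mem _, sub_mem h zo_one_mem⟩
theorem ZW_le : ZW P Q ≤ Z1 P := fun _ ⟨_, _, h⟩ => h.mem
theorem RZ.mem_ZW (h : RZ P x a) : x ∈ ZW P Q ↔ a ∈ Q :=
  ⟨fun ⟨_, hb, k⟩ => h.unique k ▸ hb, fun ha => ⟨a, ha, h⟩⟩

theorem smul_mem_Z1 (h : x ∈ Z1 P) (g : G) : g • x ∈ Z1 (cj g P) :=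
  (exists_rz h).elim fun _ k => (k.smul g).mem

theorem smul_eq_of_mem_Z1 (h : x ∈ Z1 P) {g : G} (hg : ∀ a ∈ Zc P, g * a = a * g) :
    g • x = x := by
  induction h using AddSubgroup.closure_induction with
  | mem x h => obtain ⟨a, ha, rfl⟩ := h; rw [smul_zo, hg a ha, mul_inv_cancel_right]
  | zero => exact smul_zero g
  | add x y _ _ h k => rw [smul_add, h, k]
  | neg x _ h => rw [smul_neg, h]

variable {p : ℕ}

theorem Cen.mono {A : Subgroup G} (h : Cen p A P) (k : P ≤ Q) (hQ : IsPGroup p Q) : Cen p A Q :=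
  ⟨hQ, fun w hw e => k (h.2 w hw fun g hg => e g (k hg))⟩

theorem Cen.of_le {A B : Subgroup G} (h : Cen p A P) (k : B ≤ A) : Cen p B P :=
  ⟨h.1, fun w hw e => h.2 w hw fun g hg => k (e g hg)⟩

theorem Cen.cj {A : Subgroup G} [hA : A.Normal] (h : Cen p A P) (g : G) : Cen p A (cj g P) :=
  ⟨isPGroup_cj h.1 g, fun w ⟨k, hw⟩ e => mem_cj.2 (h.2 _ ⟨k, by
    have := conj_pow' g⁻¹ w (p ^ k)
    rwa [inv_inv, hw, mul_one, inv_mul_cancel] at this⟩ fun x hx => by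
      convert hA.conj_mem _ (e _ (conj_mem_cj hx)) g⁻¹ using 1
      group)⟩

theorem Cen.Zc_le {A : Subgroup G} (h : Cen p A P) (k : P ≤ Q) (hQ : IsPGroup p Q) :
    Zc Q ≤ Zc P := fun a ha =>
  ⟨h.2 a (isPGroup_iff.1 hQ a ha.1) fun g hg => by
    rw [(commutatorElement_eq_one_iff_mul_comm).2 (ha.2 g (k hg)).symm]; exact one_mem _,
    fun g hg => ha.2 g (k hg)⟩

theorem exists_ppow [Finite G] [hp : Fact p.Prime] :
    ∃ k, ∀ (w : G) j, w ^ p ^ j = 1 → w ^ p ^ k = 1 := by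
  refine ⟨Nat.card G, fun w j h => ?_⟩
  obtain ⟨i, -, hi⟩ := (Nat.dvd_prime_pow hp.out).1 (orderOf_dvd_of_pow_eq_one h)
  refine orderOf_dvd_iff_pow_eq_one.1 (hi ▸ pow_dvd_pow p ?_)
  exact (Nat.lt_pow_self hp.out.one_lt).le.trans (hi ▸ orderOf_le_card)

theorem exists_ppow_Z [Finite G] [Fact p.Prime] :
    ∃ k, ∀ P : Subgroup G, IsPGroup p P → ∀ x ∈ Z1 P, p ^ k • x ∈ Z0 P := by
  obtain ⟨k, hk⟩ := exists_ppow (G := G) (p := p)
  refine ⟨k, fun P hP x hx => ?_⟩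
  obtain ⟨a, h⟩ := exists_rz hx
  obtain ⟨j, hj⟩ := isPGroup_iff.1 hP a h.1.1
  exact (h.nsmul _).mem_iff.2 (hk a j hj)

theorem sy_Z {Γ A : Subgroup G} {T : List X → Prop} (hi : ∀ g ∈ Γ, ∀ l, T l → T (g • l))
    (hc : ∀ a b c, a ⊆ b → b ⊆ c → T a → T c → T b) (h : ∀ l, T l → Cen p A (St Γ l)) :
    Sy Γ T (fun l => Z0 (St Γ l)) (fun l => Z1 (St Γ l)) :=
  ⟨hi, hc, fun _ _ => Z0_le,
    fun a b e s t => Z0_mono ((h b t).Zc_le (St_anti e) (h a s).1),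
    fun a b e s t => Z1_mono ((h b t).Zc_le (St_anti e) (h a s).1),
    fun g hg l _ x hx => by rw [St_smul hg]; exact smul_mem_Z0 hx g,
    fun g hg l _ x hx => by rw [St_smul hg]; exact smul_mem_Z1 hx g⟩

end Cfsg.Agent.H1.ML
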