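import Cfsg.Agent.H1.MlKey
import Cfsg.Agent.H1.MlLoc
import Cfsg.Agent.H20.MlNorm
import Cfsg.Agent.H90.MlTri
import Cfsg.Agent.H60.MlTva
import Cfsg.Agent.H67.MlTvb
import Cfsg.Agent.H98.MlFin
import Cfsg.Agent.H83.MlDesc
import Cfsg.Agent.H84.MlG
import Cfsg.Agent.H28.MlH
import Cfsg.Agent.H98.MlUq

/-! # Higher limits: the unconditional statements -/

set_option autoImplicit false

namespace Cfsg.Agent.H1.ML

universe u v

theorem fin_all : FinStmt.{u} :=
  H98.ML.finStmt H20.ML.normStmt H90.MlTri.triStmt H60.ML.tva H67.MlTvb.tvbStmt H60.ML.tvc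

theorem loc_all : LocStmt.{u} := locStmt (H83.MlDs.descStmt fin_all)

/-- the higher limits of the centre functor vanish -/
theorem glob_all : GlobStmt.{u} := H84.MG.globStmt loc_all

theorem key_all : KeyStmt.{u} := keyStmt glob_all H28.MlH.homStmt

theorem uniq_all : UniqStmt.{u, v} := H98.ML.uniqStmt key_all

end Cfsg.Agent.H1.ML
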