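import Cfsg.Agent.H1.MlGrow

/-! # Higher limits: best offenders -/

set_option autoImplicit false

namespace Cfsg.Agent.H1.ML

open Subgroup H83
open scoped commutatorElement

variable {G X M : Type*} [Group G] [MulAction G X] [AddCommGroup M] [DistribMulAction G M]
  {𝒜 ℬ : Subgroup G → Prop} {P Q A B Γ Y : Subgroup G} {D D1 : AddSubgroup M}

theorem JJ_le : JJ 𝒜 P ≤ P := sSup_le fun _ h => h.1
theorem le_JJ (h : A ≤ P) (a : 𝒜 A) : A ≤ JJ 𝒜 P := le_sSup ⟨h, a⟩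
theorem JJ_le_of (h : ∀ A ≤ P, 𝒜 A → A ≤ Q) : JJ 𝒜 P ≤ Q := sSup_le fun A a => h A a.1 a.2
theorem JJ_mono (h : P ≤ Q) : JJ 𝒜 P ≤ JJ 𝒜 Q := JJ_le_of fun _ a b => le_JJ (a.trans h) b
theorem JJ_JJ (h : ∀ A, 𝒜 A → ℬ A) : JJ 𝒜 (JJ ℬ P) = JJ 𝒜 P :=
  le_antisymm (JJ_mono JJ_le) (JJ_le_of fun A a b => le_JJ (le_JJ a (h A b)) b)
theorem JJ_cj (h : ∀ g ∈ Γ, ∀ A, 𝒜 A → 𝒜 (cj g A)) {g : G} (hg : g ∈ Γ) (P : Subgroup G) :
    JJ 𝒜 (cj g P) = cj g (JJ 𝒜 P) := by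
  have key : ∀ g ∈ Γ, ∀ P, cj g (JJ 𝒜 P) ≤ JJ 𝒜 (cj g P) := fun g hg P =>
    cj_le_iff.2 (JJ_le_of fun A a b => cj_le_iff.1 (le_JJ (cj_mono g a) (h g hg A b)))
  refine le_antisymm ?_ (key g hg P)
  have := key _ (Γ.inv_mem hg) (cj g P)
  rwa [cj_inv_cj, cj_le_iff, inv_inv] at this

/-- a conjugation-equivariant label does not see the passage to the normalizer -/
theorem St_norm_eq [Finite G] {p : ℕ} [Fact p.Prime] {l : List X} (hp : IsPGroup p (St Γ l))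
    (y : Subgroup G → Subgroup G) (hy : ∀ g ∈ Γ, ∀ P, y (cj g P) = cj g (y P))
    (h : y (St Γ l) = Y ∨ y (St (Γ ⊓ normalizer (Y : Set G)) l) = Y) :
    St (Γ ⊓ normalizer (Y : Set G)) l = St Γ l := by
  rw [St_inf] at h ⊢
  refine inf_eq_left.2 (h.elim (fun h g hg => ?_) fun h => le_norm_of_grow hp fun g hg hn => ?_)
  · rw [← cj_eq_self_iff, ← h, ← hy g hg.1, cj_eq_self (le_normalizer hg)]
  · rw [← cj_eq_self_iff, ← h, ← hy g hg.1, h, cj_eq_self hn, h]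

theorem mem_fx {d : M} : d ∈ fx M A ↔ ∀ a ∈ A, a • d = d := Iff.rfl
theorem mem_kr {g : G} : g ∈ kr G D ↔ ∀ d ∈ D, g • d = d := Iff.rfl
theorem fx_anti (h : A ≤ B) : fx M B ≤ fx M A := fun _ hd a ha => hd a (h ha)
theorem kr_anti (h : D1 ≤ D) : kr G D ≤ kr G D1 := fun _ hg d hd => hg d (h hd)
theorem le_kr_fx : A ≤ kr G (fx M A) := fun a ha _ hd => hd a ha
theorem smul_mem_fx {d : M} (h : d ∈ fx M A) (g : G) : g • d ∈ fx M (cj g A) := fun a ha => by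
  have := h _ (mem_cj.1 ha)
  rwa [mul_smul, mul_smul, inv_smul_eq_iff] at this
theorem smul_mem_fx_of_norm {d : M} (h : d ∈ fx M A) {g : G} (hg : g ∈ normalizer (A : Set G)) :
    g • d ∈ fx M A := by
  have := smul_mem_fx h g
  rwa [cj_eq_self hg] at this
theorem conj_mem_kr (h : ∀ g ∈ Γ, ∀ d ∈ D, g • d ∈ D) {g c : G} (hg : g ∈ Γ) (hc : c ∈ kr G D) :
    g * c * g⁻¹ ∈ kr G D := fun d hd => by
  rw [mul_smul, mul_smul, hc _ (h _ (Γ.inv_mem hg) d hd), smul_inv_smul]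
theorem le_norm_kr (h : ∀ g ∈ Γ, ∀ d ∈ D, g • d ∈ D) : Γ ≤ normalizer (kr G D : Set G) :=
  fun g hg => mem_normalizer_iff.2 fun c => ⟨conj_mem_kr h hg, fun hc => by
    simpa [mul_assoc] using conj_mem_kr h (Γ.inv_mem hg) hc⟩

theorem bo_of_le_kr (h : A ≤ kr G D) : BO D A :=
  ⟨fun a ha b hb => h (by
    rw [commutatorElement_def]
    exact mul_mem (mul_mem (mul_mem ha hb) (inv_mem ha)) (inv_mem hb)), fun B hB e => by
    rw [le_antisymm hB ((le_inf le_rfl h).trans e), relIndex_self, one_mul]⟩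

theorem inf_kr_le_JJ : P ⊓ kr G D ≤ JJ (BO D) P := le_JJ inf_le_left (bo_of_le_kr inf_le_right)

theorem le_JJ_fx (h : Y ≤ P) : Y ≤ JJ (BO (fx M Y)) P := le_JJ h (bo_of_le_kr le_kr_fx)

theorem card_sup_inf (U V : AddSubgroup M) :
    Nat.card (U ⊓ V : AddSubgroup M) * Nat.card (U ⊔ V : AddSubgroup M) =
      Nat.card U * Nat.card V := by
  have h1 := AddSubgroup.relIndex_mul_relIndex ⊥ (U ⊓ V) U bot_le inf_le_left
  have h2 := AddSubgroup.relIndex_mul_relIndex ⊥ V (U ⊔ V) bot_le le_sup_right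
  simp only [AddSubgroup.relIndex_bot_left, AddSubgroup.relIndex_sup_right,
    AddSubgroup.inf_relIndex_left] at h1 h2
  rw [← h1, ← h2]; ring

theorem BO.mono [Finite M] (b : BO D A) (h : D1 ≤ D) : BO D1 A := by
  refine ⟨fun x hx y hy => kr_anti h (b.1 x hx y hy), fun B hB e => ?_⟩
  have h1 := b.2 B hB ((inf_le_inf_left A (kr_anti h)).trans e)
  have h2 := card_sup_inf (D1 ⊓ fx M B) (D ⊓ fx M A)
  have h3 : (D1 ⊓ fx M B) ⊓ (D ⊓ fx M A) = D1 ⊓ fx M A := le_antisymm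
    (le_inf (inf_le_left.trans inf_le_left) (inf_le_right.trans inf_le_right))
    (le_inf (inf_le_inf_left _ (fx_anti hB)) (inf_le_inf_right _ h))
  have h4 : Nat.card ((D1 ⊓ fx M B) ⊔ (D ⊓ fx M A) : AddSubgroup M) ≤
      Nat.card (D ⊓ fx M B : AddSubgroup M) :=
    AddSubgroup.card_le_of_le (sup_le (inf_le_inf_right _ h) (inf_le_inf_left _ (fx_anti hB)))
  rw [h3] at h2
  refine Nat.le_of_mul_le_mul_right ?_ (Nat.card_pos (α := (D ⊓ fx M A : AddSubgroup M)))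
  rw [← h2, mul_comm (B.relIndex A), mul_assoc]
  exact Nat.mul_le_mul_left _ (h4.trans h1)

theorem card_fx_cj (h : ∀ g ∈ Γ, ∀ d ∈ D, g • d ∈ D) {g : G} (hg : g ∈ Γ) (A : Subgroup G) :
    Nat.card (D ⊓ fx M (cj g A) : AddSubgroup M) = Nat.card (D ⊓ fx M A : AddSubgroup M) :=
  (Nat.card_congr ⟨fun d => ⟨g • d.1, h g hg _ d.2.1, smul_mem_fx d.2.2 g⟩,
    fun d => ⟨g⁻¹ • d.1, h _ (Γ.inv_mem hg) _ d.2.1, by
      have := smul_mem_fx d.2.2 g⁻¹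
      rwa [cj_inv_cj] at this⟩, fun d => Subtype.ext (inv_smul_smul g d.1),
    fun d => Subtype.ext (smul_inv_smul g d.1)⟩).symm

theorem relIndex_cj (g : G) (A B : Subgroup G) : (cj g B).relIndex (cj g A) = B.relIndex A :=
  relIndex_map_map_of_injective _ _ (MulAut.conj g).injective

theorem BO.cj (h : ∀ g ∈ Γ, ∀ d ∈ D, g • d ∈ D) {g : G} (hg : g ∈ Γ) (b : BO D A) :
    BO D (cj g A) := by
  refine ⟨fun x hx y hy => ?_, fun B hB e => ?_⟩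
  · convert conj_mem_kr h hg (b.1 _ (mem_cj.1 hx) _ (mem_cj.1 hy)) using 1
    group
  · have := b.2 (H83.cj g⁻¹ B) (by rwa [cj_le_iff, inv_inv]) fun x hx => by
      rw [mem_cj, inv_inv]; exact e ⟨conj_mem_cj hx.1, conj_mem_kr h hg hx.2⟩
    rwa [card_fx_cj h (Γ.inv_mem hg), ← relIndex_cj g, cj_cj_inv, ← card_fx_cj h hg A] at this

theorem JJ_bo_cj (hn : Γ ≤ normalizer (Y : Set G)) {g : G} (hg : g ∈ Γ) (P : Subgroup G) :
    JJ (BO (fx M Y)) (cj g P) = cj g (JJ (BO (fx M Y)) P) :=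
  JJ_cj (fun _ hg _ b => b.cj (fun _ hg _ hd => smul_mem_fx_of_norm hd (hn hg)) hg) hg P

theorem exists_pow_smul [Finite M] {p : ℕ} [Fact p.Prime] (h : IsPGroup p (Multiplicative M)) :
    ∃ k, ∀ x : M, p ^ k • x = 0 := by
  obtain ⟨k, hk⟩ := IsPGroup.iff_card.1 h
  exact ⟨k, fun x => by rw [← hk]; exact card_nsmul_eq_zero'⟩

end Cfsg.Agent.H1.ML
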