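import Cfsg.Agent.H1.MlA

/-! # Higher limits: growth in normalizers -/

set_option autoImplicit false

namespace Cfsg.Agent.H1.ML

open Subgroup H83

variable {G X : Type*} [Group G] [MulAction G X] {p : ℕ}

theorem St_inf (Γ K : Subgroup G) (l : List X) : St (Γ ⊓ K) l = St Γ l ⊓ K := inf_right_comm _ _ _

theorem St_nil (Γ : Subgroup G) : St Γ ([] : List X) = Γ :=
  le_antisymm St_le fun _ h => mem_St.2 ⟨h, by simp⟩

variable [Finite G] [Fact p.Prime]

/-- a `p`-element of `C` normalizing `P`, outside `P` -/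
theorem grow {P C : Subgroup G} (hP : IsPGroup p P) (hn : P ≤ normalizer (C : Set G))
    (h : ¬ IsSylowIn p (P ⊓ C) C) :
    ∃ c ∈ C, c ∈ normalizer (P : Set G) ∧ c ∉ P ∧ ∃ k, c ^ p ^ k = 1 := by
  obtain ⟨S, hS, hPS⟩ := exists_isSylowIn_ge (le_sup_left : P ≤ P ⊔ C) hP
  have h1 := hS.inf_normal le_sup_right (sup_le hn (le_norm_of_le le_rfl))
  have h2 : P ≤ normalizer ((S ⊓ C : Subgroup G) : Set G) := le_norm_inf (le_norm_of_le hPS) hn
  have h3 : P < P ⊔ S ⊓ C := lt_of_le_of_ne le_sup_left fun e => h (by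
    rwa [le_antisymm (inf_le_inf_right C hPS) (le_inf (le_sup_right.trans e.ge) inf_le_right)])
  obtain ⟨q, hq, hq'⟩ := SetLike.exists_of_lt
    (lt_inf_normalizer (hS.isPGroup.to_le (sup_le hPS inf_le_left)) h3)
  obtain ⟨a, ha, d, hd, rfl⟩ := (mem_sup_right_norm h2).1 hq.1
  exact ⟨d, hd.2, (mul_mem_cancel_left (le_normalizer ha)).1 hq.2, fun x => hq' (mul_mem ha x),
    isPGroup_iff.1 hS.isPGroup d hd.1⟩

/-- a `p`-group normalizes `Y` when the normalizer of `N_P(Y)` does -/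
theorem le_norm_of_grow {P Y : Subgroup G} (hP : IsPGroup p P)
    (h : ∀ g ∈ P, g ∈ normalizer ((P ⊓ normalizer (Y : Set G) : Subgroup G) : Set G) →
      g ∈ normalizer (Y : Set G)) : P ≤ normalizer (Y : Set G) := by
  by_contra n
  obtain ⟨q, hq, hq'⟩ := SetLike.exists_of_lt (lt_inf_normalizer hP
    (lt_of_le_of_ne (inf_le_left : P ⊓ normalizer (Y : Set G) ≤ P) fun e => n (inf_eq_left.1 e)))
  exact hq' ⟨hq.1, h q hq.1 hq.2⟩

end Cfsg.Agent.H1.ML
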