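import Cfsg.Agent.H1.MlKeyA

/-! # Higher limits: the obstruction group vanishes -/

set_option autoImplicit false

namespace Cfsg.Agent.H1.ML

open Subgroup H83
open scoped commutatorElement

variable {G H X B : Type*} [Group G] [Group H] [MulAction G X] [MulAction H X] [AddCommGroup B]
  {p : ℕ} {P : Subgroup G}

section quot
variable (π : G →* H) (hπ : ∀ g (x : X), π g • x = g • x)
include hπ

theorem pi_smul (g : G) (l : List X) : π g • l = g • l := List.map_congr_left fun x _ => hπ g x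

theorem mem_St_pi {g : G} {l : List X} : π g ∈ St ⊤ l ↔ g ∈ St ⊤ l := by
  simp only [mem_St, mem_top, hπ]

theorem St_pi (hs : Function.Surjective π) (l : List X) : St ⊤ l = (St ⊤ l).map π :=
  le_antisymm (fun h hh => by
    obtain ⟨g, rfl⟩ := hs h
    exact mem_map_of_mem π ((mem_St_pi π hπ).1 hh)) (map_le_iff_le_comap.2 fun _ =>
      (mem_St_pi π hπ).2)

omit hπ in
theorem cen_map (hs : Function.Surjective π) (hk : IsPGroup p π.ker) (hl : π.ker ≤ P) :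
    Cen p ⊥ (P.map π) ↔ Cen p π.ker P := by
  refine ⟨fun h => ⟨(h.1.comap_of_ker_isPGroup π hk).to_le (le_comap_map π P),
    fun w ⟨k, hw⟩ e => ?_⟩, fun h => ⟨h.1.map π, fun w ⟨k, hw⟩ e => ?_⟩⟩
  · have := h.2 (π w) ⟨k, by rw [← map_pow, hw, map_one]⟩ (by
      rintro _ ⟨g, hg, rfl⟩
      rw [← map_commutatorElement]; exact e g hg)
    rwa [← mem_comap, comap_map_eq_self hl] at this
  · obtain ⟨w, rfl⟩ := hs w
    obtain ⟨i, hi⟩ := isPGroup_iff.1 hk (w ^ p ^ k) (by rwa [MonoidHom.mem_ker, map_pow])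
    exact mem_map_of_mem π (h.2 w ⟨k + i, by rw [pow_add, pow_mul, hi]⟩ fun g hg => by
      rw [MonoidHom.mem_ker, map_commutatorElement]; exact e _ (mem_map_of_mem π hg))

theorem adm_pi (hs : Function.Surjective π) (hk : IsPGroup p π.ker) (ad : Adm p G X) :
    Adm p H X :=
  ⟨fun x => ((ad.pg x).map π).to_le fun h hh => by
    obtain ⟨g, rfl⟩ := hs h
    exact mem_map_of_mem π ((hπ g x).symm.trans hh), fun P hP => by
    obtain ⟨x, hx⟩ := ad.ex _ (hP.comap_of_ker_isPGroup π hk)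
    exact ⟨x, fun h hh => by
      obtain ⟨g, rfl⟩ := hs h
      exact (hπ g x).trans (hx hh)⟩⟩

omit hπ in
theorem map_mem_Zc {w : G} (hw : w ∈ P) (e : ∀ h ∈ P, ⁅w, h⁆ ∈ π.ker) : π w ∈ Zc (P.map π) :=
  ⟨mem_map_of_mem π hw, by
    rintro _ ⟨g, hg, rfl⟩
    exact (commutatorElement_eq_one_iff_mul_comm.1 (by
      rw [← map_commutatorElement]; exact e g hg)).symm⟩

omit hπ in
theorem map_mem_Zc' {w : G} (hw : w ∈ Zc P) : π w ∈ Zc (P.map π) :=
  map_mem_Zc π hw.1 fun h hh => by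
    rw [commutatorElement_eq_one_iff_mul_comm.2 (hw.2 h hh).symm]; exact one_mem _

end quot

/-- pairs representing `π z` and `z` -/
def RB (π : G →* H) (P : Subgroup G) : AddSubgroup (ZG H × ZG G) where
  carrier := {u | ∃ z, RZ (P.map π) u.1 (π z) ∧ RZ P u.2 z}
  zero_mem' := ⟨1, by rw [map_one]; exact rz_zero, rz_zero⟩
  add_mem' := fun ⟨_, h, h'⟩ ⟨_, k, k'⟩ => ⟨_, by rw [map_mul]; exact h.add k, h'.add k'⟩
  neg_mem' := fun ⟨_, h, h'⟩ => ⟨_, by rw [map_inv]; exact h.neg, h'.neg⟩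

variable (j : Multiplicative B →* G) (hj : ∀ b g, g * j b = j b * g)

/-- pairs of a commutator function and a representative -/
def RC (π : G →* H) (P : Subgroup G) : AddSubgroup (FA G B × ZG H) where
  carrier := {u | ∃ w ∈ P, (∀ h ∈ P, j (.ofAdd (ev h u.1)) = ⁅w, h⁆) ∧ RZ (P.map π) u.2 (π w)}
  zero_mem' := ⟨1, one_mem _, fun _ _ => by
    rw [commutatorElement_one_left]; exact map_one j, by rw [map_one]; exact rz_zero⟩
  add_mem' := fun ⟨w, hw, a, r⟩ ⟨y, hy, b, r'⟩ => ⟨w * y, mul_mem hw hy, fun h hh => by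
    rw [Prod.fst_add, map_add, ofAdd_add, map_mul, a h hh,
      show ⁅w * y, h⁆ = w * ⁅y, h⁆ * w⁻¹ * ⁅w, h⁆ by group,
      ← b h hh, hj, hj, mul_inv_cancel_right], by rw [map_mul]; exact r.add r'⟩
  neg_mem' := fun ⟨w, hw, a, r⟩ => ⟨w⁻¹, inv_mem hw, fun h hh => by
    rw [Prod.fst_neg, map_neg, ofAdd_neg, show ⁅w⁻¹, h⁆ = w⁻¹ * ⁅w, h⁆⁻¹ * w by group, ← a h hh,
      ← map_inv j, hj, inv_mul_cancel_right], by rw [map_inv]; exact r.neg⟩

include hj in
theorem comm_smul {f : FA G B} {w : G} (a : ∀ h ∈ P, j (.ofAdd (ev h f)) = ⁅w, h⁆) (g : G) :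
    ∀ h ∈ cj g P, j (.ofAdd (ev h (g • f))) = ⁅g * w * g⁻¹, h⁆ := fun h hh => by
  rw [ev_smul, show ⁅g * w * g⁻¹, h⁆ = g * ⁅w, g⁻¹ * h * g⁆ * g⁻¹ by group,
    ← a _ (mem_cj.1 hh), hj, mul_inv_cancel_right]

theorem Hz_act {f : FA G B} (h : f ∈ Hz B P) (g : G) : g • f ∈ Hz B (cj g P) :=
  fun _ hk => h _ (mem_cj.1 hk)

theorem Hm_act {A : Subgroup G} [hA : A.Normal] {f : FA G B} (h : f ∈ Hm B A P) (g : G) :
    g • f ∈ Hm B A (cj g P) :=
  ⟨fun a ha b hb => by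
    rw [ev_smul, ev_smul, ev_smul, ← h.1 _ (mem_cj.1 ha) _ (mem_cj.1 hb)]
    exact congrArg (ev · f) (by group), fun a ha => h.2 _ (hA.conj_mem' a ha g)⟩

theorem Hm_triv {A : Subgroup G} {f : FA G B} (h : f ∈ Hm B A P) {g : G} (hg : g ∈ P) :
    g • f - f ∈ Hz B P := fun k hk => by
  have e := h.1 _ hg _ (P.mul_mem (P.mul_mem (P.inv_mem hg) hk) hg)
  rw [show g * (g⁻¹ * k * g) = k * g by group, h.1 _ hk _ hg, add_comm, add_left_cancel_iff] at e
  rw [map_sub, ev_smul, ← e, sub_self]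

theorem sy_Hm {A : Subgroup G} [A.Normal] {T : List X → Prop} (hl : ∀ l : List X, A ≤ St ⊤ l)
    (hi : ∀ g ∈ (⊤ : Subgroup G), ∀ l, T l → T (g • l))
    (hc : ∀ a b c, a ⊆ b → b ⊆ c → T a → T c → T b) :
    Sy (⊤ : Subgroup G) T (fun l => Hz B (St (⊤ : Subgroup G) l)) (fun l => Hm B A (St ⊤ l)) :=
  ⟨hi, hc, fun l _ f hf => ⟨fun a ha b hb => by
      rw [hf a ha, hf b hb, hf _ (mul_mem ha hb), add_zero], fun a ha => hf a (hl l ha)⟩,
    fun a b e _ _ f hf g hg => hf g (St_anti e hg),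
    fun a b e _ _ f hf => ⟨fun x hx y hy => hf.1 x (St_anti e hx) y (St_anti e hy), hf.2⟩,
    fun g hg l _ x hx => by rw [St_smul hg]; exact Hz_act hx g,
    fun g hg l _ x hx => by rw [St_smul hg]; exact Hm_act hx g⟩

theorem key_main [Finite G] [Fact p.Prime] (ad : Adm p G X) (inj : Function.Injective j)
    (hA : IsPGroup p j.range) (π : G →* H) (hπ : ∀ g (x : X), π g • x = g • x)
    (hs : Function.Surjective π) (hk : π.ker = j.range)
    (g4 : Van (⊤ : Subgroup G) (fun l : List X => Cen p ⊥ (St (⊤ : Subgroup G) l))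
      (fun l => Z0 (St (⊤ : Subgroup G) l)) (fun l => Z1 (St (⊤ : Subgroup G) l)) 4)
    (g3 : Van (⊤ : Subgroup H) (fun l : List X => Cen p ⊥ (St (⊤ : Subgroup H) l))
      (fun l => Z0 (St (⊤ : Subgroup H) l)) (fun l => Z1 (St (⊤ : Subgroup H) l)) 3)
    (hom : Van (⊤ : Subgroup G) (fun _ : List X => True) (fun l => Hz B (St (⊤ : Subgroup G) l))
      (fun l => Hm B j.range (St ⊤ l)) 2) {k : ℕ} (hB : ∀ b : B, p ^ k • b = 0) :
    Van (⊤ : Subgroup G) (fun l : List X => Cen p j.range (St (⊤ : Subgroup G) l))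
      (fun l => K1 j hj (St ⊤ l)) (fun l => Hm B j.range (St ⊤ l)) 2 := by
  have hc : ∀ a ∈ j.range, ∀ g, g * a = a * g := by rintro _ ⟨b, rfl⟩ g; exact hj b g
  have hN : j.range.Normal := hk ▸ inferInstance
  have hl : ∀ l : List X, j.range ≤ St ⊤ l := fun l a ha => (mem_St_pi π hπ).1 (by
    rw [show π a = 1 from hk.ge ha]; exact one_mem _)
  have sp := St_pi (X := X) π hπ hs
  have ce : ∀ l : List X, Cen p ⊥ (St (⊤ : Subgroup H) l) ↔ Cen p j.range (St ⊤ l) := fun l => by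
    rw [sp, cen_map π hs (hk ▸ hA) (hk ▸ hl l), hk]
  have iH : ∀ g ∈ (⊤ : Subgroup H), ∀ l : List X, Cen p j.range (St ⊤ l) →
      Cen p j.range (St ⊤ (g • l)) := fun g _ l t => (ce _).1 (cen_inv ((ce l).2 t))
  have iG : ∀ g ∈ (⊤ : Subgroup G), ∀ l : List X, Cen p j.range (St ⊤ l) →
      Cen p j.range (St ⊤ (g • l)) := fun g _ l t => cen_inv t
  have zm : ∀ {a b : List X}, a ⊆ b → Cen p j.range (St ⊤ a) → Cen p j.range (St ⊤ b) →
      Zc ((St ⊤ a).map π) ≤ Zc ((St ⊤ b).map π) := fun e s t => by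
    rw [← sp, ← sp]; exact ((ce _).2 t).Zc_le (St_anti e) ((ce _).2 s).1
  have rs : ∀ (g : G) (l : List X) {u : ZG H} {z : G}, RZ ((St ⊤ l).map π) u (π z) →
      RZ ((St ⊤ (g • l)).map π) (π g • u) (π (g * z * g⁻¹)) := fun g l u z r => by
    rw [← sp] at r ⊢
    rw [← pi_smul π hπ, St_smul (mem_top _), map_mul, map_mul, map_inv]; exact r.smul _
  have cs : ∀ l : List X, (St (⊤ : Subgroup H) l).comap π = St ⊤ l := fun l =>
    Subgroup.ext fun _ => mem_St_pi π hπ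
  obtain ⟨s1, s2⟩ := sy_ZW (W := fun Q : Subgroup H => (Zc (Q.comap π)).map π) (B := ⊥) (p := p)
    (T := fun l : List X => Cen p j.range (St (⊤ : Subgroup G) l)) iH
    (fun a b c => cen_cvx) (fun l t => (ce l).2 t)
    (fun a b e s t => map_mono (by rw [cs, cs]; exact t.Zc_le (St_anti e) s.1))
    fun g l _ a ⟨z, hz, e⟩ => by
      obtain ⟨g, rfl⟩ := hs g
      rw [cs] at hz ⊢
      exact ⟨g * z * g⁻¹, by
        rw [pi_smul π hπ, St_smul (mem_top _)]; exact conj_mem_Zc hz g, by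
        rw [map_mul, map_mul, map_inv, e]⟩
  have h3 := chain2 s1 s2 (fun l _ g hg x hx => triv_Z hg hx) (g3.congrT fun l _ => ce l)
    ((van_ZA ad hA hc hl g4).tr (fun h g => h = π g) (fun l => RB π (St ⊤ l))
      (fun h g e x => by rw [e, hπ]) (fun h _ => (hs h).elim fun g e => ⟨g, trivial, e.symm⟩)
      (fun g _ => ⟨π g, trivial, rfl⟩) iH
      (fun l _ u ⟨a, ⟨z, hz, e⟩, r⟩ => ⟨_, z, by rwa [← sp, e], rz_zo (cs l ▸ hz)⟩)
      (fun l _ u hu => (exists_rz hu).elim fun z r => ⟨_, z, rz_zo (map_mem_Zc' π r.1), r⟩)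
      (fun l _ u u' ⟨z, r, r'⟩ => ⟨⟨_, mem_map_of_mem π (by rw [cs]; exact r'.1),
        by rwa [sp]⟩, r'.mem⟩)
      (fun l _ u u' ⟨z, r, r'⟩ => by
        rw [sp, r.mem_iff, r'.mem_ZW, ← hk, MonoidHom.mem_ker])
      (fun a b e s t u ⟨z, r, r'⟩ => ⟨z, r.mono (zm e s t), r'.mono (t.Zc_le (St_anti e) s.1)⟩)
      fun h _ g hg e l _ u u' ⟨z, r, r'⟩ => by
        rw [e, pi_smul π hπ]
        exact ⟨_, rs g l r, by rw [St_smul hg]; exact r'.smul g⟩)
  have km : ∀ {a b : List X} {f : FA G B} {w : G}, a ⊆ b → Cen p j.range (St ⊤ a) →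
      Cen p j.range (St ⊤ b) → w ∈ St ⊤ a → (∀ h ∈ St ⊤ a, j (.ofAdd (ev h f)) = ⁅w, h⁆) →
      w ∈ St ⊤ b := fun e s t hw x =>
    t.2 _ (isPGroup_iff.1 s.1 _ hw) fun h hh => ⟨_, x h (St_anti e hh)⟩
  have h4 : Van (⊤ : Subgroup G) (fun l : List X => Cen p j.range (St (⊤ : Subgroup G) l))
      (fun l => Hz B (St (⊤ : Subgroup G) l)) (fun l => K1 j hj (St ⊤ l)) 3 :=
    h3.tr (fun g h => h = π g) (fun l => RC j hj π (St ⊤ l)) (fun g h e x => by rw [e, hπ])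
      (fun g _ => ⟨π g, trivial, rfl⟩) (fun h _ => (hs h).elim fun g e => ⟨g, trivial, e.symm⟩) iG
      (fun l _ f ⟨w, hw, x⟩ =>
        ⟨_, w, hw, x, rz_zo (map_mem_Zc π hw fun h hh => hk.ge ⟨_, x h hh⟩)⟩)
      (fun l _ u hu => by
        obtain ⟨z, r⟩ := exists_rz hu
        rw [sp] at r
        obtain ⟨w, hw, rfl⟩ := r.1.1
        have : ∀ h, ∃ b : B, h ∈ St ⊤ l → j (.ofAdd b) = ⁅w, h⁆ := fun h => by
          by_cases hh : h ∈ St ⊤ l
          · obtain ⟨b, hb⟩ : ⁅w, h⁆ ∈ j.range := hk.le (by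
              rw [MonoidHom.mem_ker, map_commutatorElement]
              exact commutatorElement_eq_one_iff_mul_comm.2 (r.1.2 _ (mem_map_of_mem π hh)).symm)
            exact ⟨b.toAdd, fun _ => hb⟩
          · exact ⟨0, fun n => (hh n).elim⟩
        choose f hf using this
        exact ⟨fa f, w, hw, hf, r⟩)
      (fun l _ f u ⟨w, hw, x, r⟩ => ⟨⟨w, hw, x⟩, by rw [sp]; exact r.mem⟩)
      (fun l _ f u ⟨w, hw, x, r⟩ => by
        rw [cs, sp, r.mem_ZW]
        refine ⟨fun hf => mem_map_of_mem π ⟨hw, fun h hh =>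
          (commutatorElement_eq_one_iff_mul_comm.1 (by
            rw [← x h hh]; exact (congrArg (fun b => j (.ofAdd b)) (hf h hh)).trans (map_one j))).symm⟩,
          fun ⟨z, hz, e⟩ h hh => inj.eq_iff.1 ((x h hh).trans (.trans ?_ (map_one j).symm))⟩
        have := hc (z⁻¹ * w) (hk.le (by rw [MonoidHom.mem_ker, map_mul, map_inv, e, inv_mul_cancel])) h
        rw [commutatorElement_eq_one_iff_mul_comm, ← mul_inv_cancel_left z w, mul_assoc, ← this,
          ← mul_assoc, ← hz.2 h hh, mul_assoc])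
      (fun a b e s t u ⟨w, hw, x, r⟩ =>
        ⟨w, km e s t hw x, fun h hh => x h (St_anti e hh), r.mono (zm e s t)⟩)
      fun g hg h _ e l _ f u ⟨w, hw, x, r⟩ => ⟨g * w * g⁻¹, by
        rw [St_smul hg]; exact conj_mem_cj hw, by rw [St_smul hg]; exact comm_smul j hj x g,
        by rw [e]; exact rs g l r⟩
  have s := sy_Hm (B := B) hl iG fun a b c => cen_cvx
  have m : ∀ a b : List X, a ⊆ b → Cen p j.range (St ⊤ a) → Cen p j.range (St ⊤ b) →
      K1 j hj (St ⊤ a) ≤ K1 j hj (St ⊤ b) := fun a b e s t f ⟨w, hw, x⟩ =>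
    ⟨w, km e s t hw x, fun h hh => x h (St_anti e hh)⟩
  have a : ∀ g ∈ (⊤ : Subgroup G), ∀ l : List X, Cen p j.range (St ⊤ l) → ∀ f ∈ K1 j hj (St ⊤ l),
      g • f ∈ K1 j hj (St ⊤ (g • l)) := fun g hg l _ f ⟨w, hw, x⟩ => by
    rw [St_smul hg]; exact ⟨_, conj_mem_cj hw, comm_smul j hj x g⟩
  refine chain2 ⟨iG, s.cvx, fun l _ f hf => ⟨1, one_mem _, fun h hh => by
      rw [hf h hh, commutatorElement_one_left]; exact map_one j⟩, s.mono, m, s.act, a⟩
    ⟨iG, s.cvx, fun l _ f ⟨w, hw, x⟩ => ⟨fun h hh k hk => inj.eq_iff.1 ?_, fun h hh =>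
      inj.eq_iff.1 ((x h (hl l hh)).trans (.trans ?_ (map_one j).symm))⟩, m, s.mono', a, s.act'⟩
    (fun l _ g hg f hf => Hm_triv hf hg) (van_cen (Q := fun P => IsPGroup p P) (V := Hz B)
      (V' := Hm B j.range) ad hl (sy_Hm hl
        (fun g hg l t => by rw [St_smul hg]; exact isPGroup_cj t g)
        fun a b c e _ t _ => t.to_le (St_anti e)) (fun _ h => h) (fun _ h => h.1) (k := k)
      (fun P _ f _ h _ => by rw [map_nsmul, hB]) (fun P _ hP w hw f hf h hh => ?_)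
      (vanP ad le_rfl (fun _ => trivial) hom)) h4
  · change j (.ofAdd (ev (h * k) f)) = j (.ofAdd (ev h f) * .ofAdd (ev k f))
    rw [map_mul, x _ (mul_mem hh hk), x h hh,
      show ⁅w, h * k⁆ = ⁅w, h⁆ * (h * ⁅w, k⁆ * h⁻¹) by group, ← x k hk, hj, mul_inv_cancel_right]
  · exact commutatorElement_eq_one_iff_mul_comm.2 (hc h hh w)
  · rw [map_sub, ev_smul, show w⁻¹ * h * w = ⁅w⁻¹, h⁆ * h by group,
      hf.1 _ (hP (comm_inv_mem (hw h hh))) _ hh, hf.2 _ (comm_inv_mem (hw h hh)), zero_add,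
      sub_self]

universe u in
theorem keyStmt (glob : GlobStmt.{u}) (hom : HomStmt.{u}) : KeyStmt.{u} := by
  intro G X B _ _ _ _ p _ sy j hj inj hA
  have hN : j.range.Normal := ⟨by
    rintro _ ⟨b, rfl⟩ g; rw [hj, mul_inv_cancel_right]; exact ⟨b, rfl⟩⟩
  have hx : ∀ a ∈ j.range, ∀ x : X, a • x = x := fun a ha x =>
    (sy.syl x).le_of_norm le_top hA (by rw [normalizer_eq_top]; exact le_top) ha
  let φ : G ⧸ j.range →* Equiv.Perm X :=
    QuotientGroup.lift _ (MulAction.toPermHom G X) fun a ha => Equiv.ext (hx a ha)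
  let _ : MulAction (G ⧸ j.range) X := MulAction.compHom X φ
  have hπ : ∀ g (x : X), QuotientGroup.mk' j.range g • x = g • x := fun _ _ => rfl
  have hk := QuotientGroup.ker_mk' j.range
  obtain ⟨k, hk'⟩ := exists_ppow (G := G) (p := p)
  have hB : ∀ b : B, p ^ k • b = 0 := fun b => by
    obtain ⟨i, hi⟩ := isPGroup_iff.1 hA _ ⟨.ofAdd b, rfl⟩
    exact inj.eq_iff.1 ((map_pow j (.ofAdd b) _).trans ((hk' _ i hi).trans (map_one j).symm))
  exact key_main j hj sy.adm inj hA _ hπ (QuotientGroup.mk'_surjective _) hk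
    (glob G X p sy.adm 4 (by norm_num))
    (glob _ X p (adm_pi _ hπ (QuotientGroup.mk'_surjective _) (hk.symm ▸ hA) sy.adm) 3 le_rfl)
    (hom G X B p sy ⟨k, hB⟩ _ hN hx) hB

end Cfsg.Agent.H1.ML
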