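import Cfsg.Agent.H1.MlZ
import Cfsg.Agent.H1.MlThin

/-! # Higher limits: the functor `Z(P)/A` -/

set_option autoImplicit false

namespace Cfsg.Agent.H1.ML

open Subgroup H83
open scoped commutatorElement

variable {G X U : Type*} [Group G] [MulAction G X] [AddCommGroup U] [DistribMulAction G U]
  {p : ℕ} {A P : Subgroup G}

theorem comm_inv_mem [hA : A.Normal] {w h : G} (e : ⁅w, h⁆ ∈ A) : ⁅w⁻¹, h⁆ ∈ A := by
  convert hA.conj_mem _ (A.inv_mem e) w⁻¹ using 1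
  group

theorem mem_norm_of_comm [A.Normal] (hl : A ≤ P) {w : G} (e : ∀ h ∈ P, ⁅w, h⁆ ∈ A) :
    w ∈ normalizer (P : Set G) := mem_normalizer_iff.2 fun h =>
  ⟨fun hh => by
    convert P.mul_mem (hl (e h hh)) hh using 1
    group, fun hh => by
    convert P.mul_mem (hl (comm_inv_mem (e _ hh))) hh using 1
    group⟩

theorem cen_inv [A.Normal] {g : G} {l : List X} (h : Cen p A (St ⊤ l)) :
    Cen p A (St ⊤ (g • l)) := by rw [St_smul (mem_top g)]; exact h.cj g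

theorem cen_cvx {a b c : List X} (e : a ⊆ b) (e' : b ⊆ c) (s : Cen p A (St ⊤ a))
    (t : Cen p A (St ⊤ c)) : Cen p A (St ⊤ b) := t.mono (St_anti e') (s.1.to_le (St_anti e))

variable [Finite G] [Fact p.Prime]

/-- removal of the stabilizers that are not centric modulo `A` -/
theorem van_cen [A.Normal] (ad : Adm p G X) (hl : ∀ l : List X, A ≤ St ⊤ l)
    {Q : Subgroup G → Prop} {V V' : Subgroup G → AddSubgroup U}
    (s : Sy (⊤ : Subgroup G) (fun l : List X => Q (St ⊤ l)) (fun l => V (St ⊤ l)) (fun l => V' (St ⊤ l)))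
    (hQ : ∀ P, Q P → IsPGroup p P) (hQ' : ∀ P, Cen p A P → Q P) {k : ℕ}
    (hk : ∀ P, Q P → ∀ x ∈ V' P, p ^ k • x ∈ V P)
    (ht : ∀ P, Q P → A ≤ P → ∀ w : G, (∀ h ∈ P, ⁅w, h⁆ ∈ A) → ∀ x ∈ V' P, w • x - x ∈ V P) {m : ℕ}
    (h : Van (⊤ : Subgroup G) (fun l : List X => Q (St ⊤ l)) (fun l => V (St ⊤ l))
      (fun l => V' (St ⊤ l)) m) :
    Van (⊤ : Subgroup G) (fun l : List X => Cen p A (St ⊤ l)) (fun l => V (St ⊤ l))
      (fun l => V' (St ⊤ l)) m := by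
  have hi : ∀ g ∈ (⊤ : Subgroup G), ∀ l : List X, Q (St ⊤ l) → Cen p A (St ⊤ l) →
      Cen p A (St ⊤ (g • l)) := fun g _ l _ t => cen_inv t
  have hu : ∀ a b : List X, a ⊆ b → Q (St ⊤ a) → Q (St ⊤ b) → Cen p A (St ⊤ b) →
      Cen p A (St ⊤ a) := fun a b e x _ t => t.mono (St_anti e) (hQ _ x)
  refine (ses2 s hi hu h (thin ad (s.low hi hu) (fun a b e t => by rw [← e]; exact ⟨t, rfl, rfl⟩)
    (fun l t => hk _ t.1) (fun l t => ?_) _)).congrT fun l _ =>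
    ⟨fun t => t.2, fun t => ⟨hQ' _ t, t⟩⟩
  have : ¬ ∀ w : G, (∃ k, w ^ p ^ k = 1) → (∀ h ∈ St ⊤ l, ⁅w, h⁆ ∈ A) → w ∈ St ⊤ l :=
    fun n => t.2 ⟨hQ _ t.1, n⟩
  push Not at this
  obtain ⟨w, a, b, c⟩ := this
  exact ⟨w, trivial, mem_norm_of_comm (hl l) b, c, a, fun x hx _ => ht _ t.1 (hl l) w b x hx⟩

omit [Finite G] [Fact p.Prime] in
theorem vanP {V V' : List X → AddSubgroup U} (ad : Adm p G X) {m : ℕ} (hm : 2 ≤ m)
    {T : List X → Prop} (hT : ∀ l, T l) (h : Van (⊤ : Subgroup G) T V V' m) :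
    Van (⊤ : Subgroup G) (fun l : List X => IsPGroup p (St (⊤ : Subgroup G) l)) V V' m :=
  h.congrT fun l e => ⟨fun _ => ad.pSt ⊤ fun n => by rw [n] at e; simp at e; omega, fun _ => hT l⟩

omit [Finite G] [Fact p.Prime] in
theorem sy_ZW {B : Subgroup G} {W : Subgroup G → Subgroup G} {T : List X → Prop}
    (hi : ∀ g ∈ (⊤ : Subgroup G), ∀ l, T l → T (g • l))
    (hc : ∀ a b c, a ⊆ b → b ⊆ c → T a → T c → T b) (h : ∀ l, T l → Cen p B (St ⊤ l))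
    (hm : ∀ a b, a ⊆ b → T a → T b → W (St ⊤ a) ≤ W (St ⊤ b))
    (hW : ∀ g l, T l → ∀ a ∈ W (St ⊤ l), g * a * g⁻¹ ∈ W (St ⊤ (g • l))) :
    Sy (⊤ : Subgroup G) T (fun l => Z0 (St (⊤ : Subgroup G) l))
      (fun l => ZW (St ⊤ l) (W (St ⊤ l))) ∧
    Sy (⊤ : Subgroup G) T (fun l => ZW (St ⊤ l) (W (St ⊤ l))) (fun l => Z1 (St ⊤ l)) := by
  have s := sy_Z hi hc h
  have m : ∀ a b, a ⊆ b → T a → T b → ZW (St ⊤ a) (W (St ⊤ a)) ≤ ZW (St ⊤ b) (W (St ⊤ b)) :=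
    fun a b e x y u ⟨z, hz, r⟩ => ⟨z, hm a b e x y hz, r.mono ((h b y).Zc_le (St_anti e) (h a x).1)⟩
  have a : ∀ g ∈ (⊤ : Subgroup G), ∀ l, T l → ∀ x ∈ ZW (St ⊤ l) (W (St ⊤ l)),
      g • x ∈ ZW (St ⊤ (g • l)) (W (St ⊤ (g • l))) := fun g hg l t x ⟨z, hz, r⟩ =>
    ⟨_, hW g l t z hz, by rw [St_smul hg]; exact r.smul g⟩
  exact ⟨⟨hi, hc, fun _ _ => Z0_le_ZW, s.mono, m, s.act, a⟩,
    ⟨hi, hc, fun _ _ => ZW_le, m, s.mono', a, s.act'⟩⟩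

omit [Finite G] [Fact p.Prime] in
theorem triv_Z {g : G} (hg : g ∈ P) {x : ZG G} (hx : x ∈ Z1 P) : g • x - x ∈ Z0 P := by
  rw [smul_eq_of_mem_Z1 hx fun a ha => ha.2 g hg, sub_self]; exact zero_mem _

/-- pairs representing the same element of `A` -/
def RA (P A : Subgroup G) : AddSubgroup (ZG G × ZG G) where
  carrier := {u | ∃ a ∈ A, RZ P u.1 a ∧ RZ A u.2 a}
  zero_mem' := ⟨1, one_mem _, rz_zero, rz_zero⟩
  add_mem' := fun ⟨_, ha, h, h'⟩ ⟨_, hb, k, k'⟩ => ⟨_, mul_mem ha hb, h.add k, h'.add k'⟩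
  neg_mem' := fun ⟨_, ha, h, h'⟩ => ⟨_, inv_mem ha, h.neg, h'.neg⟩

/-- the higher limits of `Z(P)/A` -/
theorem van_ZA (ad : Adm p G X) (hA : IsPGroup p A) (hc : ∀ a ∈ A, ∀ g, g * a = a * g)
    (hl : ∀ l : List X, A ≤ St ⊤ l)
    (glob : Van (⊤ : Subgroup G) (fun l : List X => Cen p ⊥ (St (⊤ : Subgroup G) l))
      (fun l => Z0 (St (⊤ : Subgroup G) l)) (fun l => Z1 (St (⊤ : Subgroup G) l)) 4) :
    Van (⊤ : Subgroup G) (fun l : List X => Cen p A (St ⊤ l)) (fun l => ZW (St ⊤ l) A)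
      (fun l => Z1 (St (⊤ : Subgroup G) l)) 4 := by
  have hN : A.Normal := ⟨fun a ha g => by rwa [hc a ha, mul_inv_cancel_right]⟩
  obtain ⟨k, hk⟩ := exists_ppow_Z (G := G) (p := p)
  have cA : ∀ g, cj g A = A := fun g => cj_eq_self (by rw [normalizer_eq_top]; trivial)
  have a0 : ∀ g ∈ (⊤ : Subgroup G), ∀ x ∈ Z0 A, g • x ∈ Z0 A := fun g _ x hx =>
    cA g ▸ smul_mem_Z0 hx g
  have a1 : ∀ g ∈ (⊤ : Subgroup G), ∀ x ∈ Z1 A, g • x ∈ Z1 A := fun g _ x hx =>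
    cA g ▸ smul_mem_Z1 hx g
  have h1 := van_cen (A := ⊥) (Q := fun P => IsPGroup p P) (V := fun _ => Z0 A)
    (V' := fun _ => Z1 A) ad (fun _ => bot_le) (sy_const Z0_le a0 a1
      (fun g hg l t => by rw [St_smul hg]; exact isPGroup_cj t g)
      fun a b c e _ t _ => t.to_le (St_anti e)) (fun _ h => h) (fun _ h => h.1)
    (fun _ _ => hk A hA) (fun _ _ _ w _ x hx => by
      rw [smul_eq_of_mem_Z1 hx fun a ha => hc a ha.1 w, sub_self]; exact zero_mem _)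
    (vanP ad (by norm_num : 2 ≤ 5) (fun _ => bot_le) (mv_syl ad IsPGroup.of_bot bot_le
      (by rw [normalizer_eq_top]) Z0_le a0 a1 (hk A hA) 5))
  have zl : ∀ (l : List X), ∀ a ∈ A, a ∈ Zc (St ⊤ l) := fun l a ha =>
    ⟨hl l ha, fun g _ => hc a ha g⟩
  obtain ⟨s1, s2⟩ := sy_ZW (W := fun _ => A) (B := ⊥) (p := p)
    (T := fun l : List X => Cen p ⊥ (St (⊤ : Subgroup G) l)) (fun g _ l t => cen_inv t)
    (fun a b c => cen_cvx) (fun _ t => t) (fun _ _ _ _ _ => le_rfl)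
    fun g l _ a ha => hN.conj_mem a ha g
  have h2 := chain2 s1 s2 (fun l _ g hg x hx => triv_Z hg hx) glob
    (h1.tr Eq (fun l => RA (St ⊤ l) A) (fun g g' e x => by rw [e])
      (fun g hg => ⟨g, hg, rfl⟩) (fun g hg => ⟨g, hg, rfl⟩) s1.inv
      (fun l _ u ⟨a, ha, r⟩ => ⟨_, a, ha, r, rz_zo ⟨ha, fun g _ => hc a ha g⟩⟩)
      (fun l _ u hu => (exists_rz hu).elim fun a r => ⟨_, a, r.1.1, rz_zo (zl l a r.1.1), r⟩)
      (fun l _ u u' ⟨a, ha, r, r'⟩ => ⟨⟨a, ha, r⟩, r'.mem⟩)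
      (fun l _ u u' ⟨a, ha, r, r'⟩ => r.mem_iff.trans r'.mem_iff.symm)
      (fun a b e s t u ⟨z, hz, r, r'⟩ => ⟨z, hz, r.mono (t.Zc_le (St_anti e) s.1), r'⟩)
      fun g hg g' _ e l _ u u' ⟨a, ha, r, r'⟩ => ⟨_, hN.conj_mem a ha g,
        by rw [St_smul hg]; exact r.smul g, by rw [← e]; exact cA g ▸ r'.smul g⟩)
  refine van_cen (Q := Cen p ⊥) (V := fun P => ZW P A) (V' := Z1) ad hl s2 (fun _ h => h.1)
    (fun _ h => h.of_le bot_le) (fun P h x hx => Z0_le_ZW (hk P h.1 x hx))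
    (fun P _ hP w hw x hx => ?_) h2
  obtain ⟨a, r⟩ := exists_rz hx
  have := r.smul w
  rw [cj_eq_self (mem_norm_of_comm hP hw)] at this
  rw [sub_eq_add_neg]
  exact ⟨_, hw a r.1.1, this.add r.neg⟩

end Cfsg.Agent.H1.ML
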