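import Mathlib.GroupTheory.Perm.Sign
import Mathlib.Data.ZMod.Basic
import Mathlib.GroupTheory.Perm.Fin
import Mathlib.Algebra.BigOperators.Fin

/-!
# Signed permutations of eight letters (project O8P)
-/

set_option autoImplicit false

namespace Cfsg.Agent.H1.O8P

open Equiv Subgroup

/-- Signed permutations: `e_i` goes to `(-1) ^ s (p i) • e_(p i)`. -/
@[ext] structure SP where
  s : Fin 8 → ZMod 2
  p : Perm (Fin 8)

instance : DecidableEq SP := fun a b =>
  decidable_of_iff (∀ i, a.s i = b.s i ∧ a.p i = b.p i)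
    ⟨fun h => SP.ext (funext fun i => (h i).1) (Equiv.ext fun i => (h i).2),
      fun h _ => h ▸ ⟨rfl, rfl⟩⟩

instance : Mul SP := ⟨fun a b => ⟨fun i => a.s i + b.s (a.p⁻¹ i), a.p * b.p⟩⟩
instance : One SP := ⟨⟨fun _ => 0, 1⟩⟩
instance : Inv SP := ⟨fun a => ⟨fun i => a.s (a.p i), a.p⁻¹⟩⟩

@[simp] theorem mul_s (a b : SP) (i : Fin 8) : (a * b).s i = a.s i + b.s (a.p⁻¹ i) := rfl
@[simp] theorem mul_p (a b : SP) : (a * b).p = a.p * b.p := rfl
@[simp] theorem one_s (i : Fin 8) : (1 : SP).s i = 0 := rfl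
@[simp] theorem one_p : (1 : SP).p = 1 := rfl
@[simp] theorem inv_s (a : SP) (i : Fin 8) : a⁻¹.s i = a.s (a.p i) := rfl
@[simp] theorem inv_p (a : SP) : a⁻¹.p = a.p⁻¹ := rfl

theorem z2_add_self : ∀ a : ZMod 2, a + a = 0 := by decide

instance : Group SP where
  mul_assoc a b c := SP.ext (funext fun i => by simp [add_assoc]) (mul_assoc _ _ _)
  one_mul a := SP.ext (funext fun i => by simp) (one_mul _)
  mul_one a := SP.ext (funext fun i => by simp) (mul_one _)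
  inv_mul_cancel a := SP.ext (funext fun i => by simp [z2_add_self]) (inv_mul_cancel _)

/-- The underlying pair. -/
def SP.equiv : SP ≃ (Fin 8 → ZMod 2) × Perm (Fin 8) where
  toFun a := (a.s, a.p)
  invFun a := ⟨a.1, a.2⟩
  left_inv _ := rfl
  right_inv _ := rfl

instance : Finite SP := Finite.of_equiv _ SP.equiv.symm

/-- A diagonal element. -/
def dg (s : Fin 8 → ZMod 2) : SP := ⟨s, 1⟩
/-- A permutation. -/
def pm (p : Perm (Fin 8)) : SP := ⟨fun _ => 0, p⟩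
/-- One sign change. -/
def r1 (i : Fin 8) : SP := dg fun l => if l = i then 1 else 0
/-- Two sign changes. -/
def t2 (i j : Fin 8) : SP := r1 i * r1 j
/-- Minus one. -/
def ng : SP := dg fun _ => 1
/-- The 2-central involution. -/
def zz : SP := dg ![1, 1, 1, 1, 0, 0, 0, 0]
/-- A conjugate of `zz` in `QQ`. -/
def ss : SP := dg ![1, 1, 0, 0, 1, 1, 0, 0]
/-- The second involution. -/
def tt : SP := dg ![0, 0, 0, 0, 0, 0, 1, 1]
/-- The outer involution. -/
def uu : SP := pm (swap 6 7)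
/-- The cycle (1 2 3). -/
def x1 : SP := pm (swap 1 3 * swap 1 2)
/-- The cycle (5 6 7). -/
def x5 : SP := pm (swap 5 7 * swap 5 6)
/-- The permutation (0 2 4)(1 3 5). -/
def g0 : SP := pm (swap 0 4 * swap 0 2 * (swap 1 5 * swap 1 3))
/-- The permutation exchanging the halves. -/
def ww : SP := pm (swap 0 4 * swap 1 5 * swap 2 6 * swap 3 7)
/-- The element inverting the four blocks. -/
def c0 : SP := pm (swap 0 1 * swap 4 5) * t2 0 4

/-- The first generators of the four quaternion groups. -/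
def qa : Fin 4 → SP :=
  ![⟨![1, 0, 1, 0, 0, 0, 0, 0], swap 0 1 * swap 2 3⟩, ⟨![1, 0, 0, 1, 0, 0, 0, 0], swap 0 1 * swap 2 3⟩,
    ⟨![0, 0, 0, 0, 1, 0, 1, 0], swap 4 5 * swap 6 7⟩, ⟨![0, 0, 0, 0, 1, 0, 0, 1], swap 4 5 * swap 6 7⟩]
/-- The second generators of the four quaternion groups. -/
def qb : Fin 4 → SP :=
  ![⟨![1, 0, 0, 1, 0, 0, 0, 0], swap 0 2 * swap 1 3⟩, ⟨![1, 1, 0, 0, 0, 0, 0, 0], swap 0 2 * swap 1 3⟩,
    ⟨![0, 0, 0, 0, 1, 0, 0, 1], swap 4 6 * swap 5 7⟩, ⟨![0, 0, 0, 0, 1, 1, 0, 0], swap 4 6 * swap 5 7⟩]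

theorem sum_mul (a b : SP) : ∑ i, (a * b).s i = ∑ i, a.s i + ∑ i, b.s i := by
  simp only [mul_s, Finset.sum_add_distrib]
  rw [Equiv.sum_comp a.p⁻¹ b.s]

theorem sum_inv (a : SP) : ∑ i, a⁻¹.s i = ∑ i, a.s i := Equiv.sum_comp a.p a.s

/-- An even number of signs: the Weyl group of type `D₈`. -/
def WW : Subgroup SP where
  carrier := {n | ∑ i, n.s i = 0}
  one_mem' := by simp
  mul_mem' {a b} ha hb := by
    change ∑ i, (a * b).s i = 0
    rw [sum_mul, show ∑ i, a.s i = 0 from ha, show ∑ i, b.s i = 0 from hb, add_zero]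
  inv_mem' {a} ha := (sum_inv a).trans ha

/-- Even permutations. -/
def EV : Subgroup SP where
  carrier := {n | Perm.sign n.p = 1}
  one_mem' := by simp
  mul_mem' {a b} ha hb := by
    change Perm.sign (a.p * b.p) = 1
    rw [map_mul, show Perm.sign a.p = 1 from ha, show Perm.sign b.p = 1 from hb, mul_one]
  inv_mem' {a} ha := (Perm.sign_inv a.p).trans ha

/-- The permutation keeps the pairs and the halves. -/
def P8 (p : Perm (Fin 8)) : Prop := ∀ i j : Fin 8,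
  (i.val / 2 = j.val / 2 ↔ (p i).val / 2 = (p j).val / 2) ∧
    (i.val / 4 = j.val / 4 ↔ (p i).val / 4 = (p j).val / 4)

instance (p : Perm (Fin 8)) : Decidable (P8 p) := by unfold P8; infer_instance

/-- Permutation part in the Sylow subgroup of the symmetric group. -/
def PP : Subgroup SP where
  carrier := {n | P8 n.p}
  one_mem' := fun _ _ => ⟨Iff.rfl, Iff.rfl⟩
  mul_mem' {a b} ha hb := fun i j =>
    ⟨(hb i j).1.trans (ha _ _).1, (hb i j).2.trans (ha _ _).2⟩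
  inv_mem' {a} ha := fun i j => by
    have := ha (a.p⁻¹ i) (a.p⁻¹ j)
    simp only [Perm.coe_inv, apply_symm_apply] at this
    exact ⟨this.1.symm, this.2.symm⟩

/-- The elements fixing a basis vector. -/
def FX (i : Fin 8) : Subgroup SP where
  carrier := {n | n.p i = i ∧ n.s i = 0}
  one_mem' := ⟨rfl, rfl⟩
  mul_mem' {a b} ha hb := by
    have e : a.p⁻¹ i = i := Perm.inv_eq_iff_eq.2 ha.1.symm
    exact ⟨by rw [mul_p, Perm.mul_apply, hb.1, ha.1], by rw [mul_s, e, ha.2, hb.2, add_zero]⟩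
  inv_mem' {a} ha := ⟨Perm.inv_eq_iff_eq.2 ha.1.symm, by rw [inv_s, ha.1, ha.2]⟩

/-- The group `2^7 : A₈`. -/
def NN : Subgroup SP := WW ⊓ EV
/-- The Sylow subgroup of `NN`. -/
def S0 : Subgroup SP := NN ⊓ PP
/-- The Sylow subgroup of `WW`. -/
def S1 : Subgroup SP := WW ⊓ PP
/-- The group `2^5 : A₆`. -/
def N6 : Subgroup SP := NN ⊓ FX 6 ⊓ FX 7
/-- The Sylow subgroup of `N6`. -/
def SO : Subgroup SP := N6 ⊓ PP
/-- The centraliser of `tt` in `S0`. -/
def St : Subgroup SP := S0 ⊓ centralizer {tt}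
/-- The centraliser of `uu` in `S1`. -/
def Ru : Subgroup SP := S1 ⊓ centralizer {uu}
/-- The product of the four quaternion groups. -/
def QQ : Subgroup SP := closure (Set.range qa ∪ Set.range qb)

theorem mem_WW {n : SP} : n ∈ WW ↔ ∑ i, n.s i = 0 := Iff.rfl
theorem mem_EV {n : SP} : n ∈ EV ↔ Perm.sign n.p = 1 := Iff.rfl
theorem mem_PP {n : SP} : n ∈ PP ↔ P8 n.p := Iff.rfl
theorem mem_FX {i : Fin 8} {n : SP} : n ∈ FX i ↔ n.p i = i ∧ n.s i = 0 := Iff.rfl
theorem mem_NN {n : SP} : n ∈ NN ↔ ∑ i, n.s i = 0 ∧ Perm.sign n.p = 1 := Iff.rfl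
theorem mem_S0 {n : SP} : n ∈ S0 ↔ (∑ i, n.s i = 0 ∧ Perm.sign n.p = 1) ∧ P8 n.p := Iff.rfl
theorem mem_S1 {n : SP} : n ∈ S1 ↔ ∑ i, n.s i = 0 ∧ P8 n.p := Iff.rfl
theorem mem_N6 {n : SP} : n ∈ N6 ↔ ((∑ i, n.s i = 0 ∧ Perm.sign n.p = 1) ∧
    (n.p 6 = 6 ∧ n.s 6 = 0)) ∧ (n.p 7 = 7 ∧ n.s 7 = 0) := Iff.rfl
theorem mem_SO {n : SP} : n ∈ SO ↔ n ∈ N6 ∧ P8 n.p := Iff.rfl
theorem mem_St {n : SP} : n ∈ St ↔ n ∈ S0 ∧ tt * n = n * tt :=
  and_congr Iff.rfl (mem_centralizer_singleton_iff.trans eq_comm)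
theorem mem_Ru {n : SP} : n ∈ Ru ↔ n ∈ S1 ∧ uu * n = n * uu :=
  and_congr Iff.rfl (mem_centralizer_singleton_iff.trans eq_comm)

instance (n : SP) : Decidable (n ∈ WW) := decidable_of_iff' _ mem_WW
instance (n : SP) : Decidable (n ∈ NN) := decidable_of_iff' _ mem_NN
instance (n : SP) : Decidable (n ∈ S0) := decidable_of_iff' _ mem_S0
instance (n : SP) : Decidable (n ∈ S1) := decidable_of_iff' _ mem_S1
instance (n : SP) : Decidable (n ∈ N6) := decidable_of_iff' _ mem_N6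
instance (n : SP) : Decidable (n ∈ SO) := decidable_of_iff' _ mem_SO
instance (n : SP) : Decidable (n ∈ St) := decidable_of_iff' _ mem_St
instance (n : SP) : Decidable (n ∈ Ru) := decidable_of_iff' _ mem_Ru
instance (i : Fin 8) (n : SP) : Decidable (n ∈ FX i) := decidable_of_iff' _ mem_FX

theorem ng_comm (n : SP) : n * ng = ng * n :=
  SP.ext (funext fun _ => add_comm _ _) ((mul_one _).trans (one_mul _).symm)

theorem ng_sq : ng * ng = 1 := by decide

/-! ### Four blocks -/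

/-- The space of four blocks. -/
abbrev V4 := Fin 4 → ZMod 2 × ZMod 2

/-- The rotation `i → j → k → i` of a block. -/
def th (a : ZMod 2 × ZMod 2) : ZMod 2 × ZMod 2 := (a.2, a.1 + a.2)
/-- The reflection `j ↔ k` of a block. -/
def ph (a : ZMod 2 × ZMod 2) : ZMod 2 × ZMod 2 := (a.1 + a.2, a.2)
/-- Rotations of the blocks. -/
def mv (ε : Fin 4 → ZMod 3) (v : V4) : V4 := fun b => th^[(ε b).val] (v b)
/-- The reflection of all blocks. -/
def cc (v : V4) : V4 := fun b => ph (v b)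
/-- The Klein group on the blocks. -/
def xr (k b : Fin 4) : Fin 4 := ![![0, 1, 2, 3], ![1, 0, 3, 2], ![2, 3, 0, 1], ![3, 2, 1, 0]] k b
/-- The eight maps induced by the Sylow subgroup. -/
def tm (k : Fin 4) (e : Bool) (v : V4) : V4 := fun b => (if e then cc v else v) (xr k b)
/-- The map induced by `uu`. -/
def um (v : V4) : V4 := ![v 0, v 1, ph (v 3), ph (v 2)]
/-- The quadratic form. -/
def q4 (v : V4) : ZMod 2 := ∑ b, ((v b).1 + (v b).2 + (v b).1 * (v b).2)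
/-- The bilinear form. -/
def B4 (u v : V4) : ZMod 2 := ∑ b, ((u b).1 * (v b).2 + (u b).2 * (v b).1)
/-- The linear form cutting out the group of order 27. -/
def ell (ε : Fin 4 → ZMod 3) : ZMod 3 := ε 0 - ε 1 - ε 2 + ε 3
/-- The vector of `ss`. -/
def sb : V4 := fun _ => (1, 0)
/-- The vector of `tt`. -/
def tb : V4 := ![0, 0, (1, 0), (1, 0)]
/-- Weight four. -/
def W4 (v : V4) : Prop := ∀ b, v b ≠ 0

instance (v : V4) : Decidable (W4 v) := by unfold W4; infer_instance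

/-- An element of `QQ` with a given vector. -/
def qel (v : V4) : SP :=
  qa 0 ^ (v 0).1.val * qb 0 ^ (v 0).2.val * (qa 1 ^ (v 1).1.val * qb 1 ^ (v 1).2.val) *
    (qa 2 ^ (v 2).1.val * qb 2 ^ (v 2).2.val) * (qa 3 ^ (v 3).1.val * qb 3 ^ (v 3).2.val)

/-- The vector of an element of `QQ`. -/
def vec (a : SP) : V4 := fun b =>
  (if a * qb b = qb b * a then 0 else 1, if a * qa b = qa b * a then 0 else 1)

/-- Representatives of `S0` modulo `QQ`. -/
def rp (k : Fin 4) (e : Bool) : SP := ![1, t2 0 4, ww, t2 0 4 * ww] k * (if e then c0 else 1)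

/-- plus or minus one -/
def Z1 (c : SP) : Prop := c = 1 ∨ c = ng
/-- plus or minus `zz` -/
def Zz (c : SP) : Prop := c = zz ∨ c = zz * ng

instance (c : SP) : Decidable (Z1 c) := by unfold Z1; infer_instance
instance (c : SP) : Decidable (Zz c) := by unfold Zz; infer_instance

theorem basic : vec ss = sb ∧ vec tt = tb ∧ g0 * ss * g0⁻¹ = zz ∧ x1.p 1 = 2 ∧ g0.p 0 = 2 ∧
    c0 ∈ S0 ∧ ww ∈ S0 ∧ g0 ∈ NN ∧ x1 ∈ N6 ∧ uu ∈ S1 ∧ uu ∉ NN := by
  decide +kernel

theorem rp_act : ∀ k e b, vec (rp k e * qa b * (rp k e)⁻¹) = tm k e (vec (qa b)) ∧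
    vec (rp k e * qb b * (rp k e)⁻¹) = tm k e (vec (qb b)) := by decide +kernel

end Cfsg.Agent.H1.O8P
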