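import Cfsg.Agent.Lead.PcDefs

/-! Project PL (row S3916): elementary facts on the layers (piece B1). -/

set_option autoImplicit false

namespace Cfsg.Agent.H1.PlB1

open Subgroup Cfsg.Agent.Lead.Pc
open scoped commutatorElement

universe u

theorem eq_one_of {m n : ℕ} (h : Odd m) (h2 : m ∣ 2 ^ n) : m = 1 :=
  ((Nat.coprime_two_right.2 h).pow_right n).eq_one_of_dvd h2

theorem b1 : B1Stmt.{u} := by
  intro G _ _ S T S1 S2 R st l cv
  have : Fact (Nat.Prime 2) := ⟨Nat.prime_two⟩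
  have := st.nm
  have := l.n1
  have := l.n2
  have inS : ∀ y ∈ R, y ∈ S1 → y ∈ S := by
    intro y hy h1
    obtain ⟨k, hk⟩ := l.two ⟨y, hy⟩
    have e : y ^ 2 ^ k = 1 := congrArg Subtype.val hk
    have h2 : y ^ S.relIndex S1 ∈ S := (S.subgroupOf S1).pow_index_mem ⟨y, h1⟩
    refine zpowers_le.2 h2 (mem_zpowers_pow_iff.2 ?_)
    exact Nat.Coprime.coprime_dvd_right (orderOf_dvd_of_pow_eq_one e)
      ((Nat.coprime_two_right.2 l.odd1).pow_right k)
  have hT : R ⊓ S ≤ T := by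
    obtain ⟨n, hn⟩ := (l.two.to_inf_left (K := S)).index (T.subgroupOf (R ⊓ S))
    refine relIndex_eq_one.1 (eq_one_of (n := n) (st.odd.of_dvd_nat ?_) (dvd_of_eq hn))
    exact Dvd.intro _ (relIndex_mul_relIndex T (R ⊓ S) S (le_inf l.tr st.le) inf_le_right)
  have inf : ∀ y ∈ R, y ∈ S1 → y ∈ T := fun y hy h1 => hT ⟨hy, inS y hy h1⟩
  have nm : Nm R ≤ Nm T := by
    intro g hg
    rw [mem_normalizer_iff] at hg ⊢
    intro h
    refine ⟨fun ht => hT ⟨(hg h).1 (l.tr ht), st.nm.conj_mem h (st.le ht) g⟩, fun ht => hT ⟨(hg h).2 (l.tr ht), ?_⟩⟩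
    have := st.nm.conj_mem _ (st.le ht) g⁻¹
    simpa [mul_assoc] using this
  have s12 : S1 ≤ S2 := fun g hg => (l.mem g).2 (mul_mem hg hg)
  have dec : ∀ m ∈ S2, ∃ a ∈ R, ∃ s ∈ S1, m = a * s := by
    have p2 : IsPGroup 2 (S2 ⧸ S1.subgroupOf S2) := by
      intro q
      obtain ⟨m, rfl⟩ := QuotientGroup.mk_surjective q
      refine ⟨1, ?_⟩
      rw [pow_one, pow_two, ← QuotientGroup.mk_mul, QuotientGroup.eq_one_iff]
      exact (l.mem m).1 m.2
    obtain ⟨n, hn⟩ := IsPGroup.iff_card.1 p2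
    have h1 : (R ⊔ S1).relIndex S2 = 1 := eq_one_of (n := n)
      (l.oddR.of_dvd_nat (relIndex_dvd_of_le_left S2 le_sup_left))
      (hn ▸ relIndex_dvd_of_le_left S2 le_sup_right)
    intro m hm
    obtain ⟨a, ha, s, hs, e⟩ := mem_sup_of_normal_right.1 (relIndex_eq_one.1 h1 hm)
    exact ⟨a, ha, s, hs, e.symm⟩
  have li : ∀ y ∈ R, y ∉ T → Li S T y := fun y hy h =>
    ⟨nm (le_normalizer hy), fun hs => h (hT ⟨hy, hs⟩), inf _ (mul_mem hy hy) ((l.mem y).1 (l.rs hy))⟩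
  have sq : ∀ y ∈ R, y * y ∈ Sq T := by
    intro y hy
    by_cases h : y ∈ T
    · exact subset_closure ⟨y, h, rfl⟩
    · exact (cv y (li y hy h)).1
  refine ⟨inf, nm, fun h => l.ne fun m hm => ?_, li, sq, fun a ha b hb => ?_, dec, fun g => ?_⟩
  · obtain ⟨a, ha, s, hs, rfl⟩ := dec m hm
    exact mul_mem (l.le1 (st.le (h ha))) hs
  · have : ⁅a, b⁆ = a * a * (a⁻¹ * b * (a⁻¹ * b)) * (b⁻¹ * b⁻¹) := by
      rw [commutatorElement_def]; group
    rw [this]
    exact mul_mem (mul_mem (sq a ha) (sq _ (mul_mem (inv_mem ha) hb))) (sq _ (inv_mem hb))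
  · let P : Sylow 2 S2 := (l.two.comap_of_injective S2.subtype S2.subtype_injective).toSylow
      (fun h => (Nat.not_even_iff_odd.2 l.oddR) (even_iff_two_dvd.2 h))
    have h1 := P.normalizer_sup_eq_top
    have h2 : (P : Subgroup S2).map S2.subtype = R := by
      change (R.subgroupOf S2).map S2.subtype = R
      rw [subgroupOf_map_subtype, inf_of_le_left l.rs]
    rw [h2, sup_comm] at h1
    obtain ⟨m, hm, n, hn, e⟩ := mem_sup_of_normal_left.1 (h1 ▸ mem_top g)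
    exact ⟨m, hm, n, hn, e.symm⟩

end Cfsg.Agent.H1.PlB1
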