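import Cfsg.Agent.H1.RealMod3
import Cfsg.Agent.H8.SylowIn
import Cfsg.Agent.H4.CoprimeAction
import Cfsg.Agent.H94.Lift

/-! Groups whose prime graph on real class sizes is disconnected. -/

set_option autoImplicit false
set_option linter.unusedSectionVars false
set_option linter.style.haveILetI false

namespace Cfsg.Agent.H1.RealCls

open scoped Pointwise commutatorElement IsMulCommutative
open Cfsg.Agent.H92 Cfsg.Agent.H1.RealMod MulAction
open Cfsg.Agent.H2 (IsPiNum)

variable {G : Type*} [Group G] [Finite G]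

theorem lift_real {H : Type*} [Group H] [Finite H] (f : G →* H) (R : Subgroup G) {t y0 : G}
    (ht : t ∈ Subgroup.normalizer (R : Set G)) (hy0 : y0 ∈ R)
    (hinv : f t * f y0 * (f t)⁻¹ = (f y0)⁻¹) (hodd : ¬ 2 ∣ Nat.card (R ⊓ f.ker : Subgroup G)) :
    ∃ y ∈ R, f y = f y0 ∧ IsConj y y⁻¹ := by
  classical
  obtain ⟨k, m, hm, hkm⟩ := Nat.exists_eq_two_pow_mul_odd (orderOf_pos t).ne'
  have hs1 : (t ^ m) ^ 2 ^ k = 1 := by rw [← pow_mul, mul_comm, ← hkm, pow_orderOf_eq_one]
  have hsN : t ^ m ∈ Subgroup.normalizer (R : Set G) := Subgroup.pow_mem _ ht m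
  have hsi : f (t ^ m) * f y0 * (f (t ^ m))⁻¹ = (f y0)⁻¹ := by
    rw [map_pow]; exact H91.conj_pow_of_inverts hinv hm
  generalize t ^ m = s at hs1 hsN hsi
  let α := {y : G // y ∈ R ∧ f y = f y0}
  haveI : Fintype α := Fintype.ofFinite _
  have hcard : Fintype.card α = Nat.card (R ⊓ f.ker : Subgroup G) := by
    rw [← Nat.card_eq_fintype_card]
    refine Nat.card_congr ⟨fun y => ⟨y0⁻¹ * y, R.mul_mem (R.inv_mem hy0) y.2.1, by
      simp [MonoidHom.mem_ker, y.2.2]⟩, fun n => ⟨y0 * n, R.mul_mem hy0 n.2.1, by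
      rw [map_mul, MonoidHom.mem_ker.1 n.2.2, mul_one]⟩, fun y => by simp, fun n => by simp⟩
  let g : α → α := fun y => ⟨(s * y * s⁻¹)⁻¹,
    R.inv_mem ((Subgroup.mem_normalizer_iff.1 hsN y).1 y.2.1), by
      rw [map_inv, map_mul, map_mul, map_inv, y.2.2, hsi, inv_inv]⟩
  have hg : Function.Injective g := fun a b h => by
    have := congrArg Subtype.val h
    simp only [g, inv_inj, mul_left_inj, mul_right_inj] at this
    exact Subtype.ext this
  let σ : Equiv.Perm α := Equiv.ofBijective g (Finite.injective_iff_bijective.1 hg)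
  have hσ : ∀ (j : ℕ) (y : α), (((σ ^ (2 * j)) y : α) : G) = s ^ (2 * j) * y * (s ^ (2 * j))⁻¹ := by
    intro j
    induction j with
    | zero => intro y; simp
    | succ j ih =>
      intro y
      rw [mul_add, mul_one, pow_add, Equiv.Perm.mul_apply, ih, pow_add, pow_two σ,
        Equiv.Perm.mul_apply]
      change s ^ (2 * j) * (s * (s * (y : G) * s⁻¹)⁻¹ * s⁻¹)⁻¹ * _ = _
      rw [pow_two]; group
  obtain ⟨y, hy⟩ := Equiv.Perm.exists_fixed_point_of_prime (p := 2) (n := k + 1) (σ := σ)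
    (hcard ▸ hodd) (by
      ext y
      rw [pow_succ', hσ, mul_comm 2, pow_mul, hs1]; simp)
  refine ⟨y, y.2.1, y.2.2, isConj_iff.2 ⟨s, ?_⟩⟩
  have : (s * (y : G) * s⁻¹)⁻¹ = y := congrArg Subtype.val hy
  rw [← this, inv_inv, this]

theorem lift_RP {H : Type*} [Group H] [Finite H] {f : G →* H} (hf : Function.Surjective f)
    {z : H} (hz : RP z) : ∃ y : G, f y = z ∧ Odd (orderOf y) ∧ IsConj y y⁻¹ := by
  haveI := Fact.mk hz.1
  obtain ⟨t, ht⟩ := isConj_iff.1 hz.2.2
  obtain ⟨t, rfl⟩ := hf t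
  obtain ⟨y0, rfl, hy0⟩ := H94.exists_lift_prime_pow hf z (k := 1) hz.1 (pow_one _).symm
  set A := (Subgroup.zpowers (f y0)).comap f with hA
  have htA : t ∈ Subgroup.normalizer (A : Set G) := by
    refine H8.mem_normalizer_of_conj_smul_le ?_
    rintro _ ⟨a, ⟨k, hk⟩, rfl⟩
    change f (t * a * t⁻¹) ∈ Subgroup.zpowers (f y0)
    simp only at hk
    rw [map_mul, map_mul, map_inv, ← hk, ← conj_zpow, ht]
    exact Subgroup.zpow_mem _ (Subgroup.inv_mem _ (Subgroup.mem_zpowers _)) k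
  obtain ⟨R, hR, hyR⟩ := H8.exists_isSylowIn_ge ((isPGroup_zpowers_iff y0).2 hy0)
    (Subgroup.zpowers_le.2 (Subgroup.mem_zpowers (f y0)) : Subgroup.zpowers y0 ≤ A)
  obtain ⟨n, hn, m, hm, rfl⟩ := hR.frattini htA
  have hodd : ∀ x ∈ R, Odd (orderOf x) := fun x hx => by
    obtain ⟨k, hk⟩ := orderOf_eq_pow_of_mem hR.isPGroup hx
    rw [hk]; exact hz.odd.pow
  obtain ⟨y, hy, h1, h2⟩ := lift_real f R hm (hyR (Subgroup.mem_zpowers y0)) (by
    have hc : Commute (f n) (f y0)⁻¹ :=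
      (commute_of_mem_zpowers hn (Subgroup.mem_zpowers (f y0))).inv_right
    rw [map_mul] at ht
    calc f m * f y0 * (f m)⁻¹ = (f n)⁻¹ * (f n * f m * f y0 * (f n * f m)⁻¹) * f n := by group
      _ = _ := by rw [ht, mul_assoc, ← hc.eq]; group) (by
    intro hd
    obtain ⟨⟨x, hx⟩, hx2⟩ := exists_prime_orderOf_dvd_card' 2 hd
    rw [Subgroup.orderOf_mk] at hx2
    have := hodd x hx.1
    rw [hx2] at this
    exact absurd this (by decide))
  exact ⟨y, h1, hodd y hy, h2⟩

theorem class_prod {a b : G} (h : (cs[a]).Coprime cs[b]) {x y : G} (hx : IsConj a x)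
    (hy : IsConj b y) : IsConj (a * b) (x * y) := by
  obtain ⟨g, rfl⟩ := isConj_iff.1 hx
  obtain ⟨k, rfl⟩ := isConj_iff.1 hy
  obtain ⟨c, hc, d, hd, e⟩ := H93.exists_mul_of_coprime_index _ _ h.symm (g⁻¹ * k)
  refine isConj_iff.2 ⟨g * c, ?_⟩
  have e1 : c * a * c⁻¹ = a := by rw [(mem_C.1 hc).eq]; group
  have e2 : d * b * d⁻¹ = b := by rw [(mem_C.1 hd).eq]; group
  have e3 : k = g * c * d := by rw [mul_assoc, ← e]; group
  rw [e3]
  calc g * c * (a * b) * (g * c)⁻¹
      = g * (c * a * c⁻¹) * g⁻¹ * (g * c * b * (g * c)⁻¹) := by group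
    _ = g * a * g⁻¹ * (g * c * (d * b * d⁻¹) * (g * c)⁻¹) := by rw [e1, e2]
    _ = _ := by group

/-- right stabilizer of a conjugacy class -/
def rstab (a : G) : Subgroup G where
  carrier := {n | ∀ x, IsConj a x → IsConj a (x * n)}
  mul_mem' := fun hm hn x hx => by rw [← mul_assoc]; exact hn _ (hm x hx)
  one_mem' := fun x hx => by rwa [mul_one]
  inv_mem' := by
    intro g hg x hx
    obtain ⟨k, hk⟩ := mem_powers_iff_mem_zpowers.2 (Subgroup.inv_mem _ (Subgroup.mem_zpowers g))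
    rw [← hk]
    clear hk
    induction k with
    | zero => simpa using hx
    | succ k ih => simp only [pow_succ, ← mul_assoc] at ih ⊢; exact hg _ ih

instance rstab_normal (a : G) : (rstab a).Normal := ⟨fun n hn g x hx => by
  have h1 := hn (g⁻¹ * x * g) (hx.trans (isConj_iff.2 ⟨g⁻¹, by simp⟩))
  exact h1.trans (isConj_iff.2 ⟨g, by group⟩)⟩

theorem card_rstab_dvd (a : G) : Nat.card (rstab a) ∣ cs[a] := by
  have h1 : (QuotientGroup.mk ⁻¹' ((QuotientGroup.mk : G → G ⧸ rstab a) '' {y | IsConj a y})) =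
      {y | IsConj a y} := by
    apply Set.Subset.antisymm
    · rintro x ⟨y, hy, e⟩
      have := (QuotientGroup.eq.1 e) y hy
      simpa using this
    · exact Set.subset_preimage_image _ _
  have h2 := QuotientGroup.card_preimage_mk (rstab a)
    ((QuotientGroup.mk : G → G ⧸ rstab a) '' {y | IsConj a y})
  rw [h1] at h2
  rw [← card_isConj]
  exact ⟨_, h2⟩

theorem isPiNum_one {π : Set ℕ} : IsPiNum π 1 := fun p hp h => absurd (Nat.dvd_one.1 h) hp.one_lt.ne'

theorem eq_one_of_both {π : Set ℕ} {n : ℕ} (h1 : IsPiNum π n) (h2 : IsPiNum πᶜ n) : n = 1 :=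
  Nat.eq_one_of_dvd_coprimes (h1.coprime h2) dvd_rfl dvd_rfl

structure HG (G : Type*) [Group G] (π : Set ℕ) : Prop where
  two : 2 ∉ π
  real : ∀ x : G, IsConj x x⁻¹ → IsPiNum π cs[x] ∨ IsPiNum πᶜ cs[x]

namespace HG

variable {π : Set ℕ}

theorem sq (h : HG G π) {x : G} (hx : IsConj x x⁻¹) (hπ : IsPiNum π cs[x]) : x * x = 1 := by
  rw [← pow_two]
  exact H91.sq_eq_one_of_real_of_odd_index hx fun hd => h.two (hπ 2 Nat.prime_two hd)

theorem odd (h : HG G π) {y : G} (hy : IsConj y y⁻¹) (ho : Odd (orderOf y)) :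
    IsPiNum πᶜ cs[y] := by
  rcases h.real y hy with h1 | h1
  · have h2 : orderOf y ∣ 2 := orderOf_dvd_of_pow_eq_one (by rw [pow_two]; exact h.sq hy h1)
    have h3 : y = 1 := orderOf_eq_one_iff.1
      (Nat.eq_one_of_dvd_coprimes (Nat.coprime_two_right.2 ho) dvd_rfl h2)
    rw [h3, cs_one]; exact isPiNum_one
  · exact h1

theorem two_closed (h : HG G π) {i : G} (hi : IsConj i i⁻¹) (hπ : IsPiNum π cs[i])
    (h1 : cs[i] ≠ 1) (P : Sylow 2 (Ce[i])) : (P : Subgroup (Ce[i])).Normal := by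
  refine (S3861.result P).1 ?_
  rintro ⟨y, hy⟩ hy1 ho hc
  rw [Subgroup.orderOf_mk] at ho
  obtain ⟨⟨s, hs⟩, hsy⟩ := isConj_iff.1 hc
  have hsy' : s * y * s⁻¹ = y⁻¹ := congrArg Subtype.val hsy
  have hii := h.sq hi hπ
  have hiy : Commute i y := mem_C'.1 hy
  have hr : IsConj (i * y) (i * y)⁻¹ := isConj_iff.2 ⟨s, by
    rw [mul_inv_rev, inv_eq_of_mul_eq_one_right hii, ← hiy.inv_right.eq, ← hsy', ← mul_assoc s,
      (mem_C.1 hs).eq]; group⟩
  have hcop : (orderOf i).Coprime (orderOf y) :=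
    (Nat.coprime_two_left.2 ho).coprime_dvd_left
      (orderOf_dvd_of_pow_eq_one (by rw [pow_two]; exact hii))
  rcases h.real _ hr with h2 | h2
  · have h3 := h.sq hr h2
    rw [← pow_two, hiy.mul_pow, pow_two i, hii, one_mul] at h3
    exact hy1 (Subtype.ext (orderOf_eq_one_iff.1 (Nat.eq_one_of_dvd_coprimes
      (Nat.coprime_two_right.2 ho) dvd_rfl (orderOf_dvd_of_pow_eq_one h3))))
  · exact h1 (eq_one_of_both hπ (h2.of_dvd (cs_dvd_cs_mul hiy hcop)))

theorem solvable_C (h : HG G π) {i : G} (hi : IsConj i i⁻¹) (hπ : IsPiNum π cs[i])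
    (h1 : cs[i] ≠ 1) : Group.IsSolvable (Ce[i]) := by
  obtain ⟨P⟩ : Nonempty (Sylow 2 (Ce[i])) := inferInstance
  haveI := h.two_closed hi hπ h1 P
  haveI := isSolvable_normalizer P
  exact Group.isSolvable_of_surjective
    (f := (Subgroup.normalizer ((P : Subgroup (Ce[i])) : Set (Ce[i]))).subtype)
    fun x => ⟨⟨x, by rw [Subgroup.normalizer_eq_top]; trivial⟩, rfl⟩

theorem exists_sylow (h : HG G π) {i : G} (hi : IsConj i i⁻¹) (hπ : IsPiNum π cs[i])
    (h1 : cs[i] ≠ 1) : ∃ T : Sylow 2 G, (T : Subgroup G) ≤ Ce[i] ∧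
      Ce[i] ≤ Subgroup.normalizer ((T : Subgroup G) : Set G) := by
  obtain ⟨T, hT⟩ := not_dvd_cs_iff.1 fun hd => h.two (hπ 2 Nat.prime_two hd)
  have h2 := h.two_closed hi hπ h1 (T.subtype hT)
  rw [Sylow.coe_subtype] at h2
  exact ⟨T, hT, (Subgroup.normal_subgroupOf_iff_le_normalizer hT).1 h2⟩

theorem module (h : HG G π) (n : ℕ) : ∀ U : Subgroup G, U.Normal → Nat.card U = n →
    (∀ u ∈ U, u * u = 1) → (∀ u ∈ U, IsPiNum π cs[u]) →
    ∃ k, derivedSeries G k ≤ Subgroup.centralizer (U : Set G) := by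
  induction n using Nat.strong_induction_on with
  | _ n ih =>
  intro U hUn hn hsq hπ
  have hcomm : ∀ a ∈ U, ∀ b ∈ U, a * b = b * a := by
    intro a ha b hb
    have h1 : ∀ w ∈ U, w⁻¹ = w := fun w hw => inv_eq_of_mul_eq_one_right (hsq w hw)
    rw [← h1 (a * b) (U.mul_mem ha hb), mul_inv_rev, h1 a ha, h1 b hb]
  haveI : IsMulCommutative U := ⟨⟨fun a b => Subtype.ext (hcomm a a.2 b b.2)⟩⟩
  have hUp : IsPGroup 2 U := fun w => ⟨1, Subtype.ext (by simpa [pow_two] using hsq w w.2)⟩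
  by_cases hex : ∃ y : G, IsConj y y⁻¹ ∧ Odd (orderOf y) ∧ U ⊓ Ce[y] ≠ ⊥ ∧ ¬ U ≤ Ce[y]
  · obtain ⟨y, hy, ho, h1, h2⟩ := hex
    have hnormal : ∀ A : Subgroup G, A ≤ U → Ce[y] ≤ Subgroup.normalizer (A : Set G) →
        A.Normal := by
      intro A hA hN
      refine ⟨fun v hv g => ?_⟩
      obtain ⟨c, hc, b, hb, rfl⟩ := H93.exists_mul_of_coprime_index _ _
        ((hπ v (hA hv)).coprime (h.odd hy ho)) g
      have : c * b * v * (c * b)⁻¹ = c * v * c⁻¹ := by
        rw [mul_assoc c b v, (mem_C.1 hb).eq]; group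
      rw [this]
      exact (Subgroup.mem_normalizer_iff.1 (hN hc) v).1 hv
    have hYN : Subgroup.zpowers y ≤ Subgroup.normalizer (U : Set G) := by
      rw [Subgroup.normalizer_eq_top]; exact le_top
    have hcop : (Nat.card (Subgroup.zpowers y)).Coprime (Nat.card U) := by
      obtain ⟨k, hk⟩ := hUp.exists_card_eq
      rw [Nat.card_zpowers, hk]
      exact (Nat.coprime_two_right.2 ho).pow_right k
    have hCY : Subgroup.centralizer (Subgroup.zpowers y : Set G) = Ce[y] := by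
      rw [Subgroup.zpowers_eq_closure, Subgroup.centralizer_closure]
    have e1 := H4.commutator_sup_centralizer hYN hcop (Or.inr inferInstance)
    have e2 := H4.centralizer_inf_commutator_eq_bot hYN hcop
    rw [hCY] at e1 e2
    have hle : ⁅U, Subgroup.zpowers y⁆ ≤ U := Subgroup.commutator_le_left _ _
    obtain ⟨k1, hk1⟩ := ih _ (hn ▸ card_lt_of_lt (lt_of_le_of_ne inf_le_left
      fun e => h2 (inf_eq_left.1 e))) (U ⊓ Ce[y]) (hnormal _ inf_le_left fun c hc =>
        Subgroup.inf_normalizer_le_normalizer_inf (Subgroup.mem_inf.2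
          ⟨by rw [Subgroup.normalizer_eq_top]; trivial, Subgroup.le_normalizer hc⟩)) rfl
      (fun u hu => hsq u hu.1) (fun u hu => hπ u hu.1)
    obtain ⟨k2, hk2⟩ := ih _ (hn ▸ card_lt_of_lt (lt_of_le_of_ne hle
      fun e => h1 (by rw [e, inf_comm] at e2; exact e2))) ⁅U, Subgroup.zpowers y⁆
      (hnormal _ hle fun c hc => by
        rw [H8.mem_normalizer_iff_conj_smul_eq, H8.commutator_conj_smul,
          H8.mem_normalizer_iff_conj_smul_eq.1 (show c ∈ Subgroup.normalizer (U : Set G) by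
            rw [Subgroup.normalizer_eq_top]; trivial),
          H8.conj_smul_eq_of_mem_centralizer (hCY ▸ hc)]) rfl
      (fun u hu => hsq u (hle hu)) (fun u hu => hπ u (hle hu))
    refine ⟨max k1 k2, ?_⟩
    rw [← Subgroup.le_centralizer_iff, ← e1]
    exact sup_le (Subgroup.le_centralizer_iff.1
        ((derivedSeries_antitone G (le_max_right _ _)).trans hk2))
      (Subgroup.le_centralizer_iff.1 ((derivedSeries_antitone G (le_max_left _ _)).trans hk1))
  push Not at hex
  set φ := (MulAut.conjNormal (H := U)).rangeRestrict with hφ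
  have hφs : Function.Surjective φ := MonoidHom.rangeRestrict_surjective _
  have hφa : ∀ (g : G) (w : U), ((φ g • w : U) : G) = g * w * g⁻¹ := fun g w => rfl
  have hst : ∀ w : U, (stabilizer (MulAut.conjNormal (H := U)).range w).index = cs[(w : G)] := by
    intro w
    rw [← Subgroup.index_comap_of_surjective _ hφs]
    congr 1
    ext g
    rw [Subgroup.mem_comap, mem_stabilizer_iff, Subtype.ext_iff, hφa, mem_C,
      mul_inv_eq_iff_eq_mul]
    rfl
  have H : Hyp (MulAut.conjNormal (H := U)).range U := by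
    refine ⟨fun w => Subtype.ext (hsq w w.2), fun g hg => Subtype.ext (MulEquiv.ext hg),
      fun w hd => h.two (hπ w w.2 2 Nat.prime_two (hst w ▸ hd)), fun z hz w => ?_,
      fun z hz w hw => ?_⟩
    · obtain ⟨y, rfl, ho, hy⟩ := lift_RP hφs hz
      rw [hst]
      exact ((hπ w w.2).coprime (h.odd hy ho)).symm.coprime_dvd_left (cs_map_dvd hφs y)
    · obtain ⟨y, rfl, ho, hy⟩ := lift_RP hφs hz
      by_contra hw1
      have hwy : (w : G) ∈ Ce[y] := by
        have := congrArg Subtype.val hw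
        rw [hφa, mul_inv_eq_iff_eq_mul] at this
        exact mem_C'.2 this
      have := hex y hy ho fun e => hw1 (Subtype.ext (by
        have : (w : G) ∈ U ⊓ Ce[y] := ⟨w.2, hwy⟩
        rwa [e] at this))
      refine hz.ne_one (Subtype.ext (MulEquiv.ext fun x => Subtype.ext ?_))
      change ((φ y • x : U) : G) = x
      rw [hφa, mul_inv_eq_iff_eq_mul]
      exact mem_C'.1 (this x.2)
  obtain ⟨k, hk⟩ := H.isSolvable.solvable
  refine ⟨k, fun g hg => Subgroup.mem_centralizer_iff.2 fun x hx => ?_⟩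
  have h1 := map_derivedSeries_le_derivedSeries φ k ⟨g, hg, rfl⟩
  rw [hk, Subgroup.mem_bot] at h1
  have := hφa g ⟨x, hx⟩
  rw [h1, one_smul] at this
  exact (mul_inv_eq_iff_eq_mul.1 this.symm).symm

theorem solvable_of_core (h : HG G π) (hO : Cfsg.pPrimeCore 2 G = ⊥) {i : G} (hi : IsConj i i⁻¹)
    (hπ : IsPiNum π cs[i]) (h1 : cs[i] ≠ 1) : Group.IsSolvable G := by
  have hii := h.sq hi hπ
  have hR : rstab i = ⊥ := H3.pPrimeCore_eq_bot_iff.1 hO _ inferInstance
    ((Nat.Prime.coprime_iff_not_dvd Nat.prime_two).2 fun hd =>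
      h.two (hπ 2 Nat.prime_two (hd.trans (card_rstab_dvd i)))).symm
  have hsqc : ∀ j, IsConj i j → j * j = 1 := by
    intro j hj
    obtain ⟨g, rfl⟩ := isConj_iff.1 hj
    rw [conj_mul, hii]; simp
  have hreal : ∀ v : G, v * v = 1 → IsConj v v⁻¹ := fun v hv => by
    rw [inv_eq_of_mul_eq_one_right hv]
  have hc0 : ∀ j, IsConj i j → i * j = j * i := by
    intro j hj
    have hjj := hsqc j hj
    have hr : IsConj (i * j) (i * j)⁻¹ := isConj_iff.2 ⟨i, by
      rw [← mul_assoc, hii, one_mul, mul_inv_rev, inv_eq_of_mul_eq_one_right hjj]⟩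
    have key : (i * j) * (i * j) = 1 := by
      rcases h.real _ hr with h2 | h2
      · exact h.sq hr h2
      · have : i * j ∈ rstab i := fun x hx => by
          have := class_prod (hπ.coprime h2) hx (IsConj.refl _)
          rw [← mul_assoc, hii, one_mul] at this
          exact hj.trans this
        rw [hR, Subgroup.mem_bot] at this
        rw [this, one_mul]
    rw [← inv_eq_of_mul_eq_one_right key, mul_inv_rev, inv_eq_of_mul_eq_one_right hii,
      inv_eq_of_mul_eq_one_right hjj]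
  have hc1 : ∀ j k, IsConj i j → IsConj i k → j * k = k * j := by
    intro j k hj hk
    obtain ⟨g, rfl⟩ := isConj_iff.1 hj
    have := hc0 (g⁻¹ * k * g) (hk.trans (isConj_iff.2 ⟨g⁻¹, by simp⟩))
    calc g * i * g⁻¹ * k = g * (i * (g⁻¹ * k * g)) * g⁻¹ := by group
      _ = _ := by rw [this]; group
  set V := Subgroup.normalClosure ({i} : Set G) with hV
  have hgen : ∀ x, x ∈ Group.conjugatesOfSet ({i} : Set G) ↔ IsConj i x := fun x => by
    simp [Group.mem_conjugatesOfSet_iff]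
  have hVC : V ≤ Subgroup.centralizer (V : Set G) := by
    rw [hV, Subgroup.normalClosure, Subgroup.centralizer_closure, Subgroup.closure_le]
    intro x hx
    rw [SetLike.mem_coe, Subgroup.mem_centralizer_iff]
    intro y hy
    exact hc1 y x ((hgen y).1 hy) ((hgen x).1 hx)
  have hVsq : ∀ v ∈ V, v * v = 1 := by
    intro v hv
    have hv' := hv
    unfold V Subgroup.normalClosure at hv'
    clear hv
    induction hv' using Subgroup.closure_induction with
    | mem y hy => exact hsqc y ((hgen y).1 hy)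
    | one => simp
    | mul a b ha hb iha ihb =>
      have : a * b = b * a := Subgroup.mem_centralizer_iff.1 (hVC hb) a ha
      calc a * b * (a * b) = a * (b * a) * b := by group
        _ = 1 := by rw [← this, ← mul_assoc, iha, one_mul, ihb]
    | inv a _ iha => rw [← mul_inv_rev, iha, inv_one]
  have hiV : i ∈ V := Subgroup.subset_normalClosure rfl
  have hVπ : ∀ b ∈ V, IsPiNum π cs[b] := by
    intro b hb
    have hbb := hVsq b hb
    rcases h.real b (hreal b hbb) with h2 | h2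
    · exact h2
    rcases h.real (i * b) (hreal _ (hVsq _ (V.mul_mem hiV hb))) with h3 | h3
    · have : b ∈ Subgroup.center G := by
        rw [Subgroup.mem_center_iff]
        intro g
        have h4 : g * b * g⁻¹ * b ∈ rstab i := fun x hx => by
          have h5 := class_prod (hπ.coprime h2) hx (isConj_iff.2 ⟨g, rfl⟩)
          have h6 := class_prod (h3.coprime h2) h5 (IsConj.refl _)
          rwa [mul_assoc i, hbb, mul_one, mul_assoc x] at h6
        rw [hR, Subgroup.mem_bot, mul_eq_one_iff_eq_inv, inv_eq_of_mul_eq_one_right hbb] at h4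
        exact mul_inv_eq_iff_eq_mul.1 h4
      rw [cs_eq_one_iff.2 this]; exact isPiNum_one
    · have hib : i * b = b * i := Subgroup.mem_centralizer_iff.1 (hVC hb) i hiV
      have h4 : ∀ j, IsConj i j → j * i ∈ rstab b := fun j hj x hx => by
        have h5 := class_prod (hπ.coprime h2).symm hx hj
        rw [← hib] at h5
        have h6 := class_prod (hπ.coprime h3).symm h5 (IsConj.refl _)
        rwa [hib, mul_assoc b, hii, mul_one, mul_assoc x] at h6
      have h5 : ∀ v ∈ V, v ∈ rstab b ∨ v * i ∈ rstab b := by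
        intro v hv
        unfold V Subgroup.normalClosure at hv
        have hi' : i⁻¹ = i := inv_eq_of_mul_eq_one_right hii
        induction hv using Subgroup.closure_induction with
        | mem y hy => exact Or.inr (h4 y ((hgen y).1 hy))
        | one => exact Or.inl (Subgroup.one_mem _)
        | mul u v _ _ ihu ihv =>
          rcases ihu with hu | hu <;> rcases ihv with hv | hv
          · exact Or.inl (Subgroup.mul_mem _ hu hv)
          · right; rw [mul_assoc]; exact Subgroup.mul_mem _ hu hv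
          · right
            have := Subgroup.mul_mem _ hu ((rstab_normal b).conj_mem v hv i⁻¹)
            rwa [show u * i * (i⁻¹ * v * i⁻¹⁻¹) = u * v * i by group] at this
          · left
            have := Subgroup.mul_mem _ hu ((rstab_normal b).conj_mem _ hv i)
            rwa [show u * i * (i * (v * i) * i⁻¹) = u * (i * i) * v by group, hii, mul_one] at this
        | inv a ha iha => rwa [inv_eq_of_mul_eq_one_right (hVsq a ha)]
      rcases h5 b hb with h6 | h6
      · have := h6 b (IsConj.refl _)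
        rw [hbb, isConj_one_left] at this
        rw [this, cs_one]; exact isPiNum_one
      · have := h6 b (IsConj.refl _)
        rw [← mul_assoc, hbb, one_mul] at this
        exact absurd (eq_one_of_both hπ (cs_of_isConj this ▸ h2)) h1
  obtain ⟨k, hk⟩ := h.module _ V inferInstance rfl hVsq hVπ
  haveI := h.solvable_C hi hπ h1
  haveI : Group.IsSolvable (Subgroup.centralizer (V : Set G)) := isSolvable_of_le
    (B := Ce[i]) (Subgroup.centralizer_le (Set.singleton_subset_iff.2 hiV))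
  haveI : Group.IsSolvable (G ⧸ Subgroup.centralizer (V : Set G)) := ⟨⟨k, by
    rw [← map_derivedSeries_eq (QuotientGroup.mk'_surjective _), Subgroup.map_eq_bot_iff,
      QuotientGroup.ker_mk']
    exact hk⟩⟩
  exact isSolvable_of_normal_of_quotient (Subgroup.centralizer (V : Set G))

theorem solvable (h : HG G π) {i : G} (hi : IsConj i i⁻¹) (hπ : IsPiNum π cs[i])
    (h1 : cs[i] ≠ 1) : Group.IsSolvable G := by
  set N := Cfsg.pPrimeCore 2 G with hN
  haveI : N.Normal := Cfsg.pPrimeCore_normal 2 G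
  have hNodd : ¬ 2 ∣ Nat.card N := H3.not_dvd_card_pPrimeCore 2 G
  haveI : Group.IsSolvable N :=
    S0205.result (Nat.not_even_iff_odd.1 fun e => hNodd (even_iff_two_dvd.1 e))
  by_cases h2 : cs[(i : G ⧸ N)] = 1
  · haveI := h.solvable_C hi hπ h1
    refine isSolvable_of_sup N (Ce[i]) (eq_top_iff.2 fun g _ => ?_)
    have hc : (orderOf i).Coprime (Nat.card N) :=
      ((Nat.Prime.coprime_iff_not_dvd Nat.prime_two).2 hNodd).coprime_dvd_left
        (orderOf_dvd_of_pow_eq_one (by rw [pow_two]; exact h.sq hi hπ))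
    obtain ⟨n, hn, e⟩ := H94.exists_conj_eq_of_coprime (N := N) (x := i) (y := g * i * g⁻¹) hc
      (by rwa [orderOf_conj]) (by
        have := Subgroup.mem_center_iff.1 (cs_eq_one_iff.1 h2) (g : G ⧸ N)
        simp [this])
    have : g = n * (n⁻¹ * g) := by group
    rw [this]
    refine Subgroup.mul_mem_sup hn (mem_C.2 ?_)
    show n⁻¹ * g * i = i * (n⁻¹ * g)
    calc n⁻¹ * g * i = n⁻¹ * (g * i * g⁻¹) * g := by group
      _ = _ := by rw [← e]; group
  · have hq : HG (G ⧸ N) π := by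
      refine ⟨h.two, fun x hx => ?_⟩
      obtain ⟨t, ht⟩ := isConj_iff.1 hx
      obtain ⟨t, rfl⟩ := QuotientGroup.mk'_surjective N t
      obtain ⟨x, rfl⟩ := QuotientGroup.mk'_surjective N x
      obtain ⟨y, -, e, hy⟩ := lift_real (QuotientGroup.mk' N) ⊤ (t := t) (y0 := x)
        (by rw [Subgroup.normalizer_eq_top]; trivial) trivial ht
        (by rwa [top_inf_eq, QuotientGroup.ker_mk'])
      rw [← e]
      exact (h.real y hy).imp (fun h => h.of_dvd (cs_mk_dvd N y)) fun h => h.of_dvd (cs_mk_dvd N y)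
    haveI := hq.solvable_of_core (H3.pPrimeCore_quotient_pPrimeCore 2 G) (i := (i : G ⧸ N))
      ((QuotientGroup.mk' N).map_isConj hi) (hπ.of_dvd (cs_mk_dvd N i)) h2
    exact isSolvable_of_normal_of_quotient N

end HG

/-- extraction of the hypotheses from a disconnected prime graph -/
theorem of_graph (π₁ π₂ : Set ℕ) (h₂ : π₂.Nonempty)
    (hcover : ∀ q : ℕ, q.Prime → (∃ n ∈ {n : ℕ | ∃ x : G, IsConj x x⁻¹ ∧ cs[x] = n}, q ∣ n) →
      q ∈ π₁ ∨ q ∈ π₂)
    (hsub : ∀ q ∈ π₂, q.Prime ∧ ∃ n ∈ {n : ℕ | ∃ x : G, IsConj x x⁻¹ ∧ cs[x] = n}, q ∣ n)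
    (hdisj : Disjoint π₁ π₂)
    (hnoedge : ∀ a ∈ π₁, ∀ b ∈ π₂, ∀ n ∈ {n : ℕ | ∃ x : G, IsConj x x⁻¹ ∧ cs[x] = n},
      ¬ (a ∣ n ∧ b ∣ n)) :
    (∀ x : G, IsConj x x⁻¹ → IsPiNum π₂ cs[x] ∨ IsPiNum π₂ᶜ cs[x]) ∧
      ∃ i : G, IsConj i i⁻¹ ∧ IsPiNum π₂ cs[i] ∧ cs[i] ≠ 1 := by
  have key : ∀ x : G, IsConj x x⁻¹ → ∀ b ∈ π₂, b ∣ cs[x] → IsPiNum π₂ cs[x] := by
    intro x hx b hb hd q hq hqd
    rcases hcover q hq ⟨_, ⟨x, hx, rfl⟩, hqd⟩ with h1 | h1
    · exact absurd ⟨hqd, hd⟩ (hnoedge q h1 b hb _ ⟨x, hx, rfl⟩)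
    · exact h1
  refine ⟨fun x hx => ?_, ?_⟩
  · by_cases hb : ∃ b ∈ π₂, b ∣ cs[x]
    · obtain ⟨b, hb, hd⟩ := hb
      exact Or.inl (key x hx b hb hd)
    · exact Or.inr fun q _ hd hq => hb ⟨q, hq, hd⟩
  · obtain ⟨b, hb⟩ := h₂
    obtain ⟨hp, _, ⟨x, hx, rfl⟩, hd⟩ := hsub b hb
    exact ⟨x, hx, key x hx b hb hd, fun e => hp.one_lt.ne' (Nat.dvd_one.1 (e ▸ hd))⟩

end Cfsg.Agent.H1.RealCls
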