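import Mathlib
import Cfsg.Agent.H92.Ito
import Cfsg.Agent.H91.Basic
import Cfsg.Agent.H93.ClassNumber
import Cfsg.Agent.H58.Orbits
import Cfsg.Agent.H9.BaerSuzuki
import Cfsg.Agent.H89.SolvInd
import Cfsg.Agent.S3861
import Cfsg.Agent.S0205

/-! Groups acting on an elementary abelian `2`-group with odd orbits, where real elements of odd
prime order act fixed-point-freely with class sizes prime to the orbit sizes. Part 1. -/

set_option autoImplicit false
set_option linter.unusedSectionVars false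
set_option linter.style.haveILetI false

namespace Cfsg.Agent.H1.RealMod

open scoped Pointwise commutatorElement
open Cfsg.Agent.H92 MulAction

section general

variable {H : Type*} [Group H] [Finite H]

instance factTwo : Fact (Nat.Prime 2) := ⟨Nat.prime_two⟩

/-- real element of odd prime order -/
def RP (y : H) : Prop := (orderOf y).Prime ∧ orderOf y ≠ 2 ∧ IsConj y y⁻¹

theorem RP.odd {y : H} (h : RP y) : Odd (orderOf y) := h.1.odd_of_ne_two h.2.1

theorem RP.ne_inv {y : H} (h : RP y) : y ≠ y⁻¹ := by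
  intro e
  have h1 : y ^ 2 = 1 := by rw [pow_two]; nth_rewrite 2 [e]; exact mul_inv_cancel y
  exact h.2.1 ((Nat.prime_dvd_prime_iff_eq h.1 Nat.prime_two).1 (orderOf_dvd_of_pow_eq_one h1))

theorem RP.ne_one {y : H} (h : RP y) : y ≠ 1 := by
  rintro rfl; exact h.ne_inv (by simp)

theorem RP.conj {y : H} (h : RP y) (g : H) : RP (g * y * g⁻¹) := by
  refine ⟨by rw [orderOf_conj]; exact h.1, by rw [orderOf_conj]; exact h.2.1, ?_⟩
  obtain ⟨s, hs⟩ := isConj_iff.1 h.2.2
  refine isConj_iff.2 ⟨g * s * g⁻¹, ?_⟩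
  calc g * s * g⁻¹ * (g * y * g⁻¹) * (g * s * g⁻¹)⁻¹ = g * (s * y * s⁻¹) * g⁻¹ := by group
    _ = _ := by rw [hs]; group

theorem exists_RP {x s : H} (hx : x ≠ 1) (hodd : Odd (orderOf x)) (hs : s * x * s⁻¹ = x⁻¹) :
    ∃ y ∈ Subgroup.zpowers x, RP y ∧ s * y * s⁻¹ = y⁻¹ := by
  obtain ⟨p, hp, hpd⟩ := Nat.exists_prime_and_dvd (fun h => hx (orderOf_eq_one_iff.1 h))
  have ho : orderOf (x ^ (orderOf x / p)) = p := orderOf_pow_orderOf_div (orderOf_pos x).ne' hpd
  have hi : s * x ^ (orderOf x / p) * s⁻¹ = (x ^ (orderOf x / p))⁻¹ := by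
    rw [← conj_pow, hs, inv_pow]
  refine ⟨x ^ (orderOf x / p), Subgroup.pow_mem _ (Subgroup.mem_zpowers x) _,
    ⟨ho.symm ▸ hp, ?_, isConj_iff.2 ⟨s, hi⟩⟩, hi⟩
  rw [ho]; rintro rfl
  exact (Nat.not_even_iff_odd.2 hodd) (even_iff_two_dvd.2 hpd)

theorem exists_RP_of_involution (h2 : Cfsg.pCore 2 H = ⊥) {t : H} (ht : orderOf t = 2) :
    ∃ y : H, RP y ∧ t * y * t⁻¹ = y⁻¹ := by
  obtain ⟨a, ha1, ha, hta⟩ := H9.exists_odd_inverted_of_not_mem_pCore (t := t)
    (by have := pow_orderOf_eq_one t; rwa [ht, pow_two] at this)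
    (by rw [h2, Subgroup.mem_bot]; rintro rfl; simp at ht)
  obtain ⟨y, -, h1, h2⟩ := exists_RP ha1 ha hta
  exact ⟨y, h1, h2⟩

theorem le_normalizer_of_no_RP {X : Subgroup H} (hX : ∀ y ∈ X, ¬ RP y) (T : Sylow 2 H)
    (hT : (T : Subgroup H) ≤ X) : X ≤ Subgroup.normalizer ((T : Subgroup H) : Set H) := by
  have h1 := (S3861.result (T.subtype hT)).1 (by
    rintro ⟨x, hx⟩ hx1 hodd hc
    obtain ⟨s, hs⟩ := isConj_iff.1 hc
    obtain ⟨y, hy, hy1, -⟩ := exists_RP (x := x) (s := s) (fun e => hx1 (Subtype.ext e))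
      (by rwa [Subgroup.orderOf_mk] at hodd) (congrArg Subtype.val hs)
    exact hX y ((Subgroup.zpowers_le.2 hx) hy) hy1)
  rw [Sylow.coe_subtype] at h1
  exact (Subgroup.normal_subgroupOf_iff_le_normalizer hT).1 h1

theorem mem_sylow_of_mem_normalizer {p : ℕ} [Fact p.Prime] (T : Sylow p H) {g : H}
    (hg : ∃ k, orderOf g = p ^ k) (hN : g ∈ Subgroup.normalizer ((T : Subgroup H) : Set H)) :
    g ∈ (T : Subgroup H) := by
  have h1 : IsPGroup p (Subgroup.zpowers g ⊔ T : Subgroup H) :=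
    ((isPGroup_zpowers_iff g).2 hg).to_sup_of_normal_right' T.isPGroup' (Subgroup.zpowers_le.2 hN)
  have h2 := T.is_maximal' h1 le_sup_right
  rw [← h2]
  exact Subgroup.mem_sup_left (Subgroup.mem_zpowers g)

theorem isSolvable_normalizer (T : Sylow 2 H) :
    Group.IsSolvable (Subgroup.normalizer ((T : Subgroup H) : Set H)) := by
  set N := Subgroup.normalizer ((T : Subgroup H) : Set H)
  haveI : ((T : Subgroup H).subgroupOf N).Normal := Subgroup.normal_in_normalizer
  haveI : Group.IsSolvable ((T : Subgroup H).subgroupOf N) :=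
    H89.isSolvable_of_isPGroup Nat.prime_two (T.isPGroup'.comap_subtype)
  haveI : Group.IsSolvable (N ⧸ (T : Subgroup H).subgroupOf N) := by
    apply S0205.result
    rw [← Nat.not_even_iff_odd, even_iff_two_dvd]
    intro hd
    exact T.not_dvd_index (hd.trans (Subgroup.relIndex_dvd_index_of_le Subgroup.le_normalizer))
  exact isSolvable_of_normal_of_quotient ((T : Subgroup H).subgroupOf N)

theorem isSolvable_of_sup (K B : Subgroup H) [K.Normal] [Group.IsSolvable K] [Group.IsSolvable B]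
    (h : K ⊔ B = ⊤) : Group.IsSolvable H := by
  haveI : Group.IsSolvable (H ⧸ K) := by
    refine Group.isSolvable_of_surjective (f := (QuotientGroup.mk' K).comp B.subtype) ?_
    intro x
    obtain ⟨x, rfl⟩ := QuotientGroup.mk'_surjective K x
    have hx : x ∈ B ⊔ K := by rw [sup_comm, h]; trivial
    obtain ⟨b, hb, k, hk, rfl⟩ := Subgroup.mem_sup_of_normal_right.1 hx
    exact ⟨⟨b, hb⟩, by simp [(QuotientGroup.eq_one_iff k).2 hk]⟩
  exact isSolvable_of_normal_of_quotient K

theorem mul_self_of_orderOf {t : H} (ht : orderOf t = 2) : t * t = 1 := by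
  have := pow_orderOf_eq_one t; rwa [ht, pow_two] at this

theorem inv_eq_of_orderOf {t : H} (ht : orderOf t = 2) : t⁻¹ = t :=
  inv_eq_of_mul_eq_one_right (mul_self_of_orderOf ht)

theorem mem_smul_sylow {p : ℕ} (T : Sylow p H) (g x : H) :
    x ∈ ((g • T : Sylow p H) : Subgroup H) ↔ g⁻¹ * x * g ∈ (T : Subgroup H) := by
  rw [Sylow.coe_subgroup_smul, mem_conj_smul]

end general

variable {H : Type*} [Group H] [Finite H] {W : Type*} [Group W] [Finite W]
  [MulDistribMulAction H W]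

/-- fixed points of a set of elements -/
def fx (W : Type*) [Group W] [MulDistribMulAction H W] (X : Set H) : Subgroup W where
  carrier := {w | ∀ g ∈ X, g • w = w}
  mul_mem' := fun ha hb g hg => by rw [smul_mul', ha g hg, hb g hg]
  one_mem' := fun g _ => smul_one g
  inv_mem' := fun ha g hg => by rw [smul_inv', ha g hg]

theorem mem_fx {X : Set H} {w : W} : w ∈ fx W X ↔ ∀ g ∈ X, g • w = w := Iff.rfl

theorem mem_fx1 {t : H} {w : W} : w ∈ fx W ({t} : Set H) ↔ t • w = w := by simp [mem_fx]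

structure Hyp (H W : Type*) [Group H] [Group W] [MulDistribMulAction H W] : Prop where
  sq : ∀ w : W, w * w = 1
  faith : ∀ h : H, (∀ w : W, h • w = w) → h = 1
  odd : ∀ w : W, ¬ 2 ∣ (stabilizer H w).index
  cop : ∀ y : H, RP y → ∀ w : W, (cs[y]).Coprime (stabilizer H w).index
  fpf : ∀ y : H, RP y → ∀ w : W, y • w = w → w = 1

/-- invariant subgroups have order `1` modulo the order of a fixed-point-free element -/
theorem card_modEq_of_fpf {y : H} (hp : (orderOf y).Prime) (A : Subgroup W)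
    (hA : ∀ w ∈ A, y • w ∈ A) :
    orderOf y ∣ Nat.card A - Nat.card (A ⊓ fx W ({y} : Set H) : Subgroup W) := by
  have h1 := H58.dvd_ncard_of_orbits (H := Subgroup.zpowers y) (orderOf y)
    ((A : Set W) \ (A ⊓ fx W ({y} : Set H) : Subgroup W)) (by
      rintro ⟨g, hg⟩ x ⟨hx1, hx2⟩
      obtain ⟨k, rfl⟩ := (mem_powers_iff_mem_zpowers.2 hg)
      have hk : ∀ k : ℕ, y ^ k • x ∈ A := by
        intro k
        induction k with
        | zero => simpa using hx1
        | succ k ih => rw [pow_succ', mul_smul]; exact hA _ ih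
      refine ⟨hk k, fun h => hx2 ⟨hx1, mem_fx1.2 ?_⟩⟩
      have h3 : y • (y ^ k • x) = y ^ k • x := mem_fx1.1 h.2
      rw [smul_smul, ← pow_succ', pow_succ, mul_smul] at h3
      exact smul_left_cancel _ h3) (by
      rintro x ⟨hx1, hx2⟩
      have h3 : (stabilizer (Subgroup.zpowers y) x).index ∣ orderOf y := by
        rw [← Nat.card_zpowers]; exact Subgroup.index_dvd_card _
      rcases (Nat.dvd_prime hp).1 h3 with h4 | h4
      · exfalso
        rw [Subgroup.index_eq_one] at h4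
        have : (⟨y, Subgroup.mem_zpowers y⟩ : Subgroup.zpowers y) ∈
            stabilizer (Subgroup.zpowers y) x := h4 ▸ Subgroup.mem_top _
        exact hx2 ⟨hx1, mem_fx1.2 this⟩
      · rw [h4])
  rwa [Set.ncard_sdiff (SetLike.coe_subset_coe.2 inf_le_left), ← Nat.card_coe_set_eq,
    ← Nat.card_coe_set_eq] at h1

namespace Hyp

theorem comm (h : Hyp H W) (a b : W) : a * b = b * a := by
  have h1 : ∀ w : W, w⁻¹ = w := fun w => inv_eq_of_mul_eq_one_right (h.sq w)
  rw [← h1 (a * b), mul_inv_rev, h1, h1]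

theorem inv (h : Hyp H W) (w : W) : w⁻¹ = w := inv_eq_of_mul_eq_one_right (h.sq w)

theorem isPGroup (h : Hyp H W) : IsPGroup 2 W := fun w => ⟨1, by simpa [pow_two] using h.sq w⟩

theorem normal (h : Hyp H W) (L : Subgroup H) [L.Normal] : Hyp L W := by
  have hst : ∀ w : W, (stabilizer L w).index ∣ (stabilizer H w).index := fun w =>
    relIndex_normal_dvd_index (stabilizer H w) L
  have hRP : ∀ y : L, RP y → RP (y : H) := fun y hy =>
    ⟨by rw [Subgroup.orderOf_coe]; exact hy.1, by rw [Subgroup.orderOf_coe]; exact hy.2.1,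
      L.subtype.map_isConj hy.2.2⟩
  exact ⟨h.sq, fun g hg => Subtype.ext (h.faith g hg), fun w hd => h.odd w (hd.trans (hst w)),
    fun y hy w => ((h.cop y (hRP y hy) w).coprime_dvd_left (cs_subgroup_dvd L y)).coprime_dvd_right
      (hst w), fun y hy w hw => h.fpf y (hRP y hy) w hw⟩

theorem exists_sylow (h : Hyp H W) (w : W) : ∃ T : Sylow 2 H, (T : Subgroup H) ≤ stabilizer H w :=
  exists_sylow_le_of_not_dvd_index (h.odd w)

theorem stab_le (h : Hyp H W) {w : W} (hw : w ≠ 1) {T : Sylow 2 H}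
    (hT : (T : Subgroup H) ≤ stabilizer H w) :
    stabilizer H w ≤ Subgroup.normalizer ((T : Subgroup H) : Set H) :=
  le_normalizer_of_no_RP (fun y hy hr => hw (h.fpf y hr w hy)) T hT

theorem mem_of_fix (h : Hyp H W) {w : W} (hw : w ≠ 1) {T : Sylow 2 H}
    (hT : (T : Subgroup H) ≤ stabilizer H w) {g : H} (hg : ∃ k, orderOf g = 2 ^ k)
    (hgw : g • w = w) : g ∈ (T : Subgroup H) :=
  mem_sylow_of_mem_normalizer T hg (h.stab_le hw hT hgw)

theorem sylow_unique (h : Hyp H W) {w : W} (hw : w ≠ 1) {T T' : Sylow 2 H}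
    (hT : (T : Subgroup H) ≤ stabilizer H w) (hT' : (T' : Subgroup H) ≤ stabilizer H w) :
    T' = T :=
  Sylow.ext (T'.is_maximal' T.isPGroup' fun g hg =>
    h.mem_of_fix hw hT (orderOf_eq_pow_of_mem T'.isPGroup' hg) (hT' hg)).symm

theorem pCore_eq_bot (h : Hyp H W) : Cfsg.pCore 2 H = ⊥ := by
  rw [eq_bot_iff]
  intro g hg
  refine h.faith g fun w => ?_
  obtain ⟨T, hT⟩ := h.exists_sylow w
  exact hT (H3.pCore_le_sylow T hg)

theorem exists_fixed (h : Hyp H W) [Nontrivial W] (T : Sylow 2 H) :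
    ∃ w : W, w ≠ 1 ∧ (T : Subgroup H) ≤ stabilizer H w := by
  obtain ⟨w, hw⟩ := exists_ne (1 : W)
  obtain ⟨T', hT'⟩ := h.exists_sylow w
  obtain ⟨g, rfl⟩ := exists_smul_eq H T' T
  refine ⟨g • w, fun e => hw (by simpa using congrArg (g⁻¹ • ·) e), fun x hx => ?_⟩
  have := hT' ((mem_smul_sylow T' g x).1 hx)
  rw [mem_stabilizer_iff] at this ⊢
  rw [mul_smul, mul_smul, inv_smul_eq_iff] at this
  exact this

theorem trans (h : Hyp H W) [Nontrivial W] {y : H} (hy : RP y) (T T' : Sylow 2 H) :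
    ∃ c ∈ Ce[y], c • T = T' := by
  obtain ⟨w, hw, hT⟩ := h.exists_fixed T
  obtain ⟨g, rfl⟩ := exists_smul_eq H T T'
  obtain ⟨c, hc, b, hb, rfl⟩ := H93.exists_mul_of_coprime_index _ _ (h.cop y hy w).symm g
  exact ⟨c, hc, by rw [mul_smul, Sylow.smul_eq_iff_mem_normalizer.2 (h.stab_le hw hT hb)]⟩

theorem not_mem_normalizer (h : Hyp H W) [Nontrivial W] {y : H} (hy : RP y) (T : Sylow 2 H) :
    y ∉ Subgroup.normalizer ((T : Subgroup H) : Set H) := by
  intro hN
  obtain ⟨s, hs, hsy⟩ := H91.exists_two_element_inverts hy.2.2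
  obtain ⟨T', hT'⟩ := exists_sylow_mem hs
  obtain ⟨c, hc, rfl⟩ := h.trans hy T T'
  have h1 : y • c • T = c • T := by
    rw [smul_smul, ← (mem_C.1 hc).eq, mul_smul, Sylow.smul_eq_iff_mem_normalizer.2 hN]
  have h2 := Sylow.smul_eq_iff_mem_normalizer.1 h1
  have h3 := (Subgroup.mem_normalizer_iff.1 h2 s).1 hT'
  have h4 : y * y ∈ ((c • T : Sylow 2 H) : Subgroup H) := by
    have e : y * y = (y * s * y⁻¹) * s⁻¹ := by
      have : s * y⁻¹ * s⁻¹ = y := by rw [← conj_inv, hsy, inv_inv]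
      rw [mul_assoc y s, mul_assoc y, this]
    rw [e]
    exact Subgroup.mul_mem _ h3 (Subgroup.inv_mem _ hT')
  obtain ⟨k, hk⟩ := orderOf_eq_pow_of_mem (c • T).isPGroup' h4
  rw [← pow_two, (Nat.coprime_two_right.2 hy.odd).orderOf_pow] at hk
  rcases k with _ | k
  · exact hy.1.one_lt.ne' (by simpa using hk)
  · have := hy.odd
    rw [hk] at this
    exact (Nat.not_even_iff_odd.2 this) (Nat.even_pow.2 ⟨even_two, k.succ_ne_zero⟩)

/-- a real element normalizing a Sylow `2`-subgroup lies in it -/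
theorem mem_of_real (h : Hyp H W) [Nontrivial W] {x s : H} (hs : s * x * s⁻¹ = x⁻¹)
    (T : Sylow 2 H) (hN : x ∈ Subgroup.normalizer ((T : Subgroup H) : Set H)) :
    x ∈ (T : Subgroup H) := by
  obtain ⟨a, b, ha, hb, hab, ha', hb'⟩ := exists_p_parts Nat.prime_two x
  by_cases hb1 : b = 1
  · rw [hb1, mul_one] at hab
    exact mem_sylow_of_mem_normalizer T (hab ▸ ha') hN
  · exfalso
    have hbs : s * b * s⁻¹ = b⁻¹ := by
      obtain ⟨k, rfl⟩ := hb
      simp only
      rw [← conj_zpow, hs, inv_zpow]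
    obtain ⟨y, hy, hy1, -⟩ := exists_RP hb1
      (Nat.not_even_iff_odd.1 fun e => hb' (even_iff_two_dvd.1 e)) hbs
    exact h.not_mem_normalizer hy1 T ((Subgroup.zpowers_le.2 ((Subgroup.zpowers_le.2 hN) hb)) hy)

/-- the map `w ↦ w * t • w` -/
def nm (h : Hyp H W) (t : H) : W →* W where
  toFun w := w * t • w
  map_one' := by simp
  map_mul' a b := by
    rw [smul_mul', mul_assoc, mul_assoc, ← mul_assoc b, h.comm b, mul_assoc]

theorem nm_apply (h : Hyp H W) (t : H) (w : W) : h.nm t w = w * t • w := rfl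

theorem nm_ker (h : Hyp H W) (t : H) : (h.nm t).ker = fx W ({t} : Set H) := by
  ext w
  rw [MonoidHom.mem_ker, nm_apply, mem_fx1, mul_eq_one_iff_inv_eq, h.inv, eq_comm]

theorem nm_range_le (h : Hyp H W) {t : H} (ht : t * t = 1) :
    (h.nm t).range ≤ fx W ({t} : Set H) := by
  rintro _ ⟨w, rfl⟩
  rw [mem_fx1, nm_apply, smul_mul', smul_smul, ht, one_smul, h.comm]

theorem card_range_mul (h : Hyp H W) (t : H) :
    Nat.card (h.nm t).range * Nat.card (fx W ({t} : Set H)) = Nat.card W := by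
  rw [← h.nm_ker, ← Subgroup.index_ker, Subgroup.index_mul_card]

theorem card_fx_sq (h : Hyp H W) {t : H} (ht : orderOf t = 2) :
    Nat.card (fx W ({t} : Set H)) ^ 2 = Nat.card W := by
  obtain ⟨y, hy, hty⟩ := exists_RP_of_involution h.pCore_eq_bot ht
  have ht1 := mul_self_of_orderOf ht
  have ht2 : (t * y) * (t * y) = 1 := by
    rw [inv_eq_of_orderOf ht] at hty
    rw [← mul_assoc, hty, inv_mul_cancel]
  have hle : ∀ u : H, u * u = 1 → Nat.card W ≤ Nat.card (fx W ({u} : Set H)) ^ 2 := by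
    intro u hu
    rw [← h.card_range_mul u, pow_two]
    exact Nat.mul_le_mul_right _ (Subgroup.card_le_of_le (h.nm_range_le hu))
  have hinf : fx W ({t} : Set H) ⊓ fx W ({t * y} : Set H) = ⊥ := by
    rw [eq_bot_iff]
    rintro w ⟨h1, h2⟩
    have h1' := mem_fx1.1 h1
    have h2' := mem_fx1.1 h2
    refine h.fpf y hy w ?_
    rw [mul_smul] at h2'
    exact smul_left_cancel t (h2'.trans h1'.symm)
  haveI : (fx W ({t * y} : Set H)).Normal := ⟨fun a ha g => by
    rwa [h.comm g, mul_inv_cancel_right]⟩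
  have h3 := H3.card_sup_mul_card_inf (fx W ({t} : Set H)) (fx W ({t * y} : Set H))
  rw [hinf, Subgroup.card_bot, mul_one] at h3
  have h4 := h3 ▸ Subgroup.card_le_card_group (fx W ({t} : Set H) ⊔ fx W ({t * y} : Set H))
  have h5 := hle t ht1
  have h6 := hle _ ht2
  set a := Nat.card (fx W ({t} : Set H))
  set b := Nat.card (fx W ({t * y} : Set H))
  have ha : 0 < a := Nat.card_pos
  have hb : 0 < b := Nat.card_pos
  have hab : a ≤ b := by
    by_contra hlt
    push Not at hlt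
    nlinarith
  nlinarith

theorem nm_range (h : Hyp H W) {t : H} (ht : orderOf t = 2) :
    (h.nm t).range = fx W ({t} : Set H) := by
  apply Subgroup.eq_of_le_of_card_ge (h.nm_range_le (mul_self_of_orderOf ht))
  have h1 := h.card_range_mul t
  rw [← h.card_fx_sq ht, pow_two] at h1
  exact (Nat.eq_of_mul_eq_mul_right Nat.card_pos h1).ge

theorem card_fx_sylow (T T' : Sylow 2 H) :
    Nat.card (fx W ((T : Subgroup H) : Set H)) = Nat.card (fx W ((T' : Subgroup H) : Set H)) := by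
  obtain ⟨g, rfl⟩ := exists_smul_eq H T T'
  refine Nat.card_congr ((MulAction.toPerm g).subtypeEquiv fun w => ?_)
  simp only [mem_fx, toPerm_apply, SetLike.mem_coe]
  constructor
  · intro hw x hx
    have := hw _ ((mem_smul_sylow T g x).1 hx)
    rwa [mul_smul, mul_smul, inv_smul_eq_iff] at this
  · intro hw x hx
    have := hw (g * x * g⁻¹) ((mem_smul_sylow T g _).2 (by simpa [mul_assoc] using hx))
    rw [mul_smul, inv_smul_smul, mul_smul] at this
    exact smul_left_cancel g this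

theorem count (h : Hyp H W) {t : H} (ht : ∃ k, orderOf t = 2 ^ k) (T0 : Sylow 2 H) :
    Nat.card (fx W ({t} : Set H)) = 1 + Nat.card {T : Sylow 2 H // t ∈ (T : Subgroup H)} *
      (Nat.card (fx W ((T0 : Subgroup H) : Set H)) - 1) := by
  classical
  haveI := Fintype.ofFinite W
  haveI := Fintype.ofFinite (Sylow 2 H)
  choose τ hτ using h.exists_sylow
  have hc : ∀ A : Subgroup W, (Finset.univ.filter fun w : W => w ≠ 1 ∧ w ∈ A).card =
      Nat.card A - 1 := by
    intro A
    have : (Finset.univ.filter fun w : W => w ≠ 1 ∧ w ∈ A) =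
        (Finset.univ.filter fun w : W => w ∈ A).erase 1 := by ext; simp
    rw [this, Finset.card_erase_of_mem (by simp), Nat.card_eq_fintype_card, Fintype.card_subtype]
  have h1 := Finset.card_eq_sum_card_fiberwise (f := τ)
    (s := Finset.univ.filter fun w : W => w ≠ 1 ∧ w ∈ fx W ({t} : Set H))
    (t := Finset.univ.filter fun T : Sylow 2 H => t ∈ (T : Subgroup H)) (by
      intro w hw
      simp only [Finset.coe_filter, Finset.mem_univ, true_and, Set.mem_ofPred_eq] at hw ⊢
      exact h.mem_of_fix hw.1 (hτ w) ht (mem_fx1.1 hw.2))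
  rw [Finset.sum_const_nat (m := Nat.card (fx W ((T0 : Subgroup H) : Set H)) - 1), hc] at h1
  · rw [Nat.card_eq_fintype_card (α := {T : Sylow 2 H // t ∈ (T : Subgroup H)}),
      Fintype.card_subtype, ← h1]
    have : 0 < Nat.card (fx W ({t} : Set H)) := Nat.card_pos
    omega
  · intro T hT
    rw [card_fx_sylow T0 T, ← hc]
    congr 1
    ext w
    simp only [Finset.mem_filter, Finset.mem_univ, true_and] at hT ⊢
    constructor
    · rintro ⟨⟨h1, -⟩, rfl⟩
      exact ⟨h1, fun g hg => hτ w hg⟩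
    · rintro ⟨h1, h2⟩
      exact ⟨⟨h1, mem_fx1.2 (h2 t hT)⟩, h.sylow_unique h1 (fun g hg => h2 g hg) (hτ w)⟩

end Hyp

end Cfsg.Agent.H1.RealMod
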