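import Cfsg.Agent.H1.RealMod1

/-! Part 2: counting involutions. -/

set_option autoImplicit false
set_option linter.unusedSectionVars false
set_option linter.style.haveILetI false

namespace Cfsg.Agent.H1.RealMod

open scoped Pointwise commutatorElement
open Cfsg.Agent.H92 MulAction

variable {H : Type*} [Group H] [Finite H] {W : Type*} [Group W] [Finite W]
  [MulDistribMulAction H W]

theorem ineq (T : Sylow 2 H) {Q ν : ℕ}
    (hν : ∀ t : H, orderOf t = 2 → Nat.card {T : Sylow 2 H // t ∈ (T : Subgroup H)} = ν)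
    (hn : Nat.card (Sylow 2 H) = (Q + 1) * ν) (hν0 : 0 < ν)
    (hS : ∀ T' : Sylow 2 H, T' ≠ T → ∃ u0 : H, ∀ u : H, orderOf u = 2 → u • T = T' →
      u0 * u ∈ (T : Subgroup H) ∧ u0 * u ∈ (T' : Subgroup H) ∧ (u0 * u) * (u0 * u) = 1) :
    ∃ i : ℕ, i = Nat.card {u : H // orderOf u = 2 ∧ u ∈ (T : Subgroup H)} ∧
      Q * i + 1 + i ≤ Nat.card (Sylow 2 H) + i * ν ∧
      ((∀ T' : Sylow 2 H, T' ≠ T → ∃ d : H, orderOf d = 2 ∧ d ∈ (T : Subgroup H) ∧
        d ∈ (T' : Subgroup H)) → Nat.card (Sylow 2 H) + i ≤ 1 + i * ν) := by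
  classical
  haveI := Fintype.ofFinite H
  haveI := Fintype.ofFinite (Sylow 2 H)
  set I : Finset H := Finset.univ.filter fun u => orderOf u = 2 with hI
  set IT : Finset H := I.filter fun u => u ∈ (T : Subgroup H) with hIT
  have hi : IT.card = Nat.card {u : H // orderOf u = 2 ∧ u ∈ (T : Subgroup H)} := by
    rw [Nat.card_eq_fintype_card, Fintype.card_subtype, hIT, hI, Finset.filter_filter]
  have hν' : ∀ t ∈ I, (Finset.univ.filter fun T' : Sylow 2 H => t ∈ (T' : Subgroup H)).card = ν := by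
    intro t ht
    rw [← hν t (by simpa [hI] using ht), Nat.card_eq_fintype_card, Fintype.card_subtype]
  have h1 : I.card * ν = Nat.card (Sylow 2 H) * IT.card := by
    rw [Nat.card_eq_fintype_card, ← Finset.card_univ]
    refine Finset.card_mul_eq_card_mul (fun (u : H) (T' : Sylow 2 H) => u ∈ (T' : Subgroup H))
      hν' fun T' _ => ?_
    obtain ⟨g, rfl⟩ := exists_smul_eq H T T'
    refine Finset.card_bij' (fun u _ => g⁻¹ * u * g) (fun u _ => g * u * g⁻¹) ?_ ?_ ?_ ?_
    · intro u hu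
      simp only [Finset.mem_bipartiteBelow, hI, hIT, Finset.mem_filter, Finset.mem_univ,
        true_and] at hu ⊢
      exact ⟨by rw [orderOf_conj']; exact hu.1, (mem_smul_sylow T g u).1 hu.2⟩
    · intro u hu
      simp only [Finset.mem_bipartiteBelow, hI, hIT, Finset.mem_filter, Finset.mem_univ,
        true_and] at hu ⊢
      exact ⟨by rw [orderOf_conj]; exact hu.1, (mem_smul_sylow T g _).2 (by
        simpa [mul_assoc] using hu.2)⟩
    · intro u _; group
    · intro u _; group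
  have h1' : I.card = (Q + 1) * IT.card := by
    rw [hn] at h1
    exact Nat.eq_of_mul_eq_mul_right hν0 (by rw [h1]; ring)
  have h2 := Finset.card_eq_sum_card_fiberwise (f := fun u : H => u • T) (s := I \ IT)
    (t := Finset.univ.erase T) (by
      intro u hu
      simp only [hI, hIT, Finset.coe_sdiff, Finset.coe_filter, Finset.mem_univ, true_and,
        Set.mem_sdiff, Set.mem_ofPred_eq, Finset.mem_filter, not_and, Finset.coe_erase,
        Finset.coe_univ, Set.mem_univ, Set.mem_singleton_iff] at hu ⊢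
      exact fun e => hu.2 hu.1 (mem_sylow_of_mem_normalizer T ⟨1, by simpa using hu.1⟩
        (Sylow.smul_eq_iff_mem_normalizer.1 e)))
  have h3 : ∀ T' ∈ Finset.univ.erase T, ((I \ IT).filter fun u : H => u • T = T').card ≤
      1 + (IT.filter fun u => u ∈ (T' : Subgroup H)).card := by
    intro T' hT'
    obtain ⟨u0, hu0⟩ := hS T' (Finset.ne_of_mem_erase hT')
    refine le_trans (Finset.card_le_card_of_injOn (fun u => u0 * u) (t := insert 1
      (IT.filter fun u => u ∈ (T' : Subgroup H))) ?_ ?_) ?_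
    · intro u hu
      simp only [hI, hIT, Finset.coe_filter, Finset.mem_sdiff, Finset.mem_filter, Finset.mem_univ,
        true_and, Set.mem_ofPred_eq, Finset.coe_insert, Set.mem_insert_iff] at hu ⊢
      obtain ⟨a, b, c⟩ := hu0 u hu.1.1 hu.2
      by_cases e : u0 * u = 1
      · exact Or.inl e
      · exact Or.inr ⟨⟨orderOf_eq_prime (by rw [pow_two]; exact c) e, a⟩, b⟩
    · intro a _ b _ e
      exact mul_left_cancel e
    · rw [add_comm]; exact Finset.card_insert_le _ _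
  have h4 : ∑ T' ∈ Finset.univ.erase T, (IT.filter fun u => u ∈ (T' : Subgroup H)).card =
      IT.card * (ν - 1) := by
    have := Finset.sum_card_bipartiteAbove_eq_sum_card_bipartiteBelow
      (fun (u : H) (T' : Sylow 2 H) => u ∈ (T' : Subgroup H)) (s := IT) (t := Finset.univ.erase T)
    refine this.symm.trans (Finset.sum_const_nat fun u hu => ?_)
    have hu' := Finset.mem_filter.1 hu
    rw [← hν' u hu'.1, Finset.bipartiteAbove, Finset.filter_erase, Finset.card_erase_of_mem]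
    simpa using hu'.2
  have h5 : (Finset.univ.erase T).card + 1 = Nat.card (Sylow 2 H) := by
    rw [Finset.card_erase_add_one (Finset.mem_univ _), Nat.card_eq_fintype_card, Finset.card_univ]
  have h6 : IT.card * (ν - 1) + IT.card = IT.card * ν := by
    obtain ⟨k, rfl⟩ : ∃ k, ν = k + 1 := ⟨ν - 1, by omega⟩
    simp [mul_add]
  refine ⟨IT.card, hi, ?_, fun hd => ?_⟩
  · have h7 := Finset.sum_le_sum h3
    have hsub : IT ⊆ I := Finset.filter_subset _ _
    rw [← h2, Finset.sum_add_distrib, h4, Finset.card_sdiff_of_subset hsub,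
      h1', Finset.sum_const_nat (m := 1) (fun _ _ => rfl)] at h7
    have : (Q + 1) * IT.card = Q * IT.card + IT.card := by ring
    omega
  · have h7 : ∑ T' ∈ Finset.univ.erase T, 1 ≤
        ∑ T' ∈ Finset.univ.erase T, (IT.filter fun u => u ∈ (T' : Subgroup H)).card := by
      refine Finset.sum_le_sum fun T' hT' => Finset.card_pos.2 ?_
      obtain ⟨d, a, b, c⟩ := hd T' (Finset.ne_of_mem_erase hT')
      exact ⟨d, by simp [hI, hIT, a, b, c]⟩
    rw [h4, Finset.sum_const_nat (m := 1) (fun _ _ => rfl)] at h7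
    omega

theorem idx2 (hc : ∀ a b : W, a * b = b * a) {T : Subgroup H} {x : W}
    (h2 : (stabilizer H x).relIndex T = 2) {t : H} (ht : t ∈ T) :
    t • x = x ∨ x * t • x ∈ fx W (T : Set H) := by
  by_cases htx : t • x = x
  · exact Or.inl htx
  right
  intro g hg
  have key : ∀ a b : T, (a : H) • (b : H) • x = x ↔ ((a : H) • x = x ↔ (b : H) • x = x) := by
    intro a b
    have := Subgroup.mul_mem_iff_of_index_two h2 (a := a) (b := b)
    simpa [Subgroup.mem_subgroupOf, mul_smul] using this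
  have hti : ¬ t⁻¹ • x = x := fun e => htx (by rw [inv_smul_eq_iff] at e; exact e.symm)
  rw [smul_mul']
  by_cases hgx : g • x = x
  · have h1 := (key ⟨t⁻¹, T.inv_mem ht⟩ ⟨g * t, T.mul_mem hg ht⟩).2 (by
      simp only [mul_smul]
      rw [key ⟨g, hg⟩ ⟨t, ht⟩]
      simp [hti, hgx, htx])
    simp only [mul_smul, inv_smul_eq_iff] at h1
    rw [hgx, h1]
  · have h1 := (key ⟨t⁻¹, T.inv_mem ht⟩ ⟨g, hg⟩).2 (by simp [hti, hgx])
    have h3 := (key ⟨g, hg⟩ ⟨t, ht⟩).2 (by simp [htx, hgx])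
    simp only [inv_smul_eq_iff] at h1 h3
    rw [h1, h3, hc]

theorem eq_of_card_two {A : Subgroup W} (hA : Nat.card A = 2) {w x : W} (hw : w ∈ A) (hw1 : w ≠ 1)
    (hx : x ∈ A) : x = 1 ∨ x = w := by
  by_cases hx1 : x = 1
  · exact Or.inl hx1
  · obtain ⟨y, -, hy⟩ := (Nat.card_eq_two_iff' (1 : A)).1 hA
    exact Or.inr (congrArg Subtype.val ((hy ⟨x, hx⟩ (fun e => hx1 (congrArg Subtype.val e))).trans
      (hy ⟨w, hw⟩ (fun e => hw1 (congrArg Subtype.val e))).symm))

theorem exists_involution_mem {A : Subgroup H} (hA : IsPGroup 2 A) (hne : A ≠ ⊥) :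
    ∃ z ∈ A, orderOf z = 2 := by
  have hdvd : 2 ∣ Nat.card A := by
    obtain ⟨k, hk⟩ := hA.exists_card_eq
    rcases k with _ | k
    · exact absurd (Subgroup.eq_bot_of_card_eq _ (by simpa using hk)) hne
    · rw [hk]; exact dvd_pow_self 2 k.succ_ne_zero
  obtain ⟨⟨z, hz⟩, hz2⟩ := exists_prime_orderOf_dvd_card' 2 hdvd
  exact ⟨z, hz, by rwa [Subgroup.orderOf_mk] at hz2⟩

/-- elements stabilizing a subgroup of `W` -/
def stab (H : Type*) [Group H] [Finite H] [MulDistribMulAction H W] (A : Subgroup W) :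
    Subgroup H where
  carrier := {g | ∀ x ∈ A, g • x ∈ A}
  mul_mem' := fun ha hb x hx => by rw [mul_smul]; exact ha _ (hb x hx)
  one_mem' := fun x hx => by rwa [one_smul]
  inv_mem' := by
    intro g hg x hx
    obtain ⟨k, hk⟩ := mem_powers_iff_mem_zpowers.2 (Subgroup.inv_mem _ (Subgroup.mem_zpowers g))
    rw [← hk]
    clear hk
    induction k with
    | zero => simpa using hx
    | succ k ih => simp only [pow_succ', mul_smul] at ih ⊢; exact hg _ ih

namespace Hyp

theorem numbers (h : Hyp H W) [Nontrivial W] {t0 : H} (ht0 : orderOf t0 = 2) :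
    ∃ Q f ν : ℕ, 2 ≤ f ∧ 0 < ν ∧ Nat.card W = Q ^ 2 ∧ Q = 1 + ν * (f - 1) ∧
      Nat.card (Sylow 2 H) = (Q + 1) * ν ∧
      (∀ t : H, orderOf t = 2 → Nat.card (fx W ({t} : Set H)) = Q) ∧
      (∀ t : H, orderOf t = 2 → Nat.card {T : Sylow 2 H // t ∈ (T : Subgroup H)} = ν) ∧
      ∀ T : Sylow 2 H, Nat.card (fx W ((T : Subgroup H) : Set H)) = f := by
  obtain ⟨T0, hT0⟩ := exists_sylow_mem (p := 2) (g := t0) ⟨1, by simpa using ht0⟩
  set f := Nat.card (fx W ((T0 : Subgroup H) : Set H)) with hf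
  set Q := Nat.card (fx W ({t0} : Set H)) with hQ
  set ν := Nat.card {T : Sylow 2 H // t0 ∈ (T : Subgroup H)} with hν
  have hf2 : 2 ≤ f := by
    obtain ⟨w, hw, hT⟩ := h.exists_fixed T0
    have : Nontrivial (fx W ((T0 : Subgroup H) : Set H)) :=
      ⟨⟨⟨w, fun g hg => hT hg⟩, 1, fun e => hw (congrArg Subtype.val e)⟩⟩
    exact Finite.one_lt_card
  have hQt : ∀ t : H, orderOf t = 2 → Nat.card (fx W ({t} : Set H)) = Q := fun t ht =>
    Nat.pow_left_injective two_ne_zero ((h.card_fx_sq ht).trans (h.card_fx_sq ht0).symm)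
  have hQν : Q = 1 + ν * (f - 1) := h.count ⟨1, by simpa using ht0⟩ T0
  have hν0 : 0 < ν := by
    haveI : Nonempty {T : Sylow 2 H // t0 ∈ (T : Subgroup H)} := ⟨⟨T0, hT0⟩⟩
    exact Nat.card_pos
  refine ⟨Q, f, ν, hf2, hν0, (h.card_fx_sq ht0).symm, hQν, ?_, hQt, fun t ht => ?_,
    fun T => card_fx_sylow T T0⟩
  · have h1 := h.count (t := 1) ⟨0, by simp⟩ T0
    have h2 : fx W ({1} : Set H) = ⊤ := by ext w; simp [mem_fx1]
    rw [h2, Subgroup.card_top, ← h.card_fx_sq ht0, ← hQ, ← hf,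
      Nat.card_congr (Equiv.subtypeUnivEquiv fun T : Sylow 2 H => (T : Subgroup H).one_mem)] at h1
    refine Nat.eq_of_mul_eq_mul_right (show 0 < f - 1 by omega) ?_
    have h3 : Q ^ 2 = 1 + (Q + 1) * ν * (f - 1) := by
      rw [mul_assoc]
      generalize ν * (f - 1) = k at hQν
      rw [hQν]; ring
    omega
  · have h1 := h.count (t := t) ⟨1, by simpa using ht⟩ T0
    rw [hQt t ht, hQν, ← hf] at h1
    exact (Nat.eq_of_mul_eq_mul_right (show 0 < f - 1 by omega) (by omega)).symm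

theorem swap (h : Hyp H W) [Nontrivial W] {u u' : H} (hu : u * u = 1) (hu' : u' * u' = 1)
    {T T' : Sylow 2 H} (h1 : u • T = T') (h2 : u' • T = T') :
    u * u' ∈ (T : Subgroup H) ∧ u * u' ∈ (T' : Subgroup H) := by
  have hr : u * (u * u') * u⁻¹ = (u * u')⁻¹ := by
    rw [← mul_assoc, hu, one_mul, mul_inv_rev, inv_eq_of_mul_eq_one_right hu']
  have h3 : u • T' = T := by rw [← h1, smul_smul, hu, one_smul]
  have h4 : u' • T' = T := by rw [← h2, smul_smul, hu', one_smul]
  exact ⟨h.mem_of_real hr T (Sylow.smul_eq_iff_mem_normalizer.1 (by rw [mul_smul, h2, h3])),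
    h.mem_of_real hr T' (Sylow.smul_eq_iff_mem_normalizer.1 (by rw [mul_smul, h4, h1]))⟩

theorem solvable_of_TI (h : Hyp H W) [Nontrivial W] {t : H} (ht : orderOf t = 2) {Q : ℕ}
    (hQ : 0 < Q)
    (hν : ∀ t : H, orderOf t = 2 → Nat.card {T : Sylow 2 H // t ∈ (T : Subgroup H)} = 1)
    (hn : Nat.card (Sylow 2 H) = (Q + 1) * 1) : Group.IsSolvable H := by
  have huniq : ∀ u : H, orderOf u = 2 → ∀ T T' : Sylow 2 H, u ∈ (T : Subgroup H) →
      u ∈ (T' : Subgroup H) → T = T' := by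
    intro u hu T T' h1 h2
    haveI := (Nat.card_eq_one_iff_unique.1 (hν u hu)).1
    exact congrArg Subtype.val (Subsingleton.elim (⟨T, h1⟩ : {T : Sylow 2 H // u ∈ (T : Subgroup H)})
      ⟨T', h2⟩)
  have hone : ∀ T : Sylow 2 H, ∀ a b : H, orderOf a = 2 → orderOf b = 2 → a ∈ (T : Subgroup H) →
      b ∈ (T : Subgroup H) → a = b := by
    intro T a b ha hb haT hbT
    obtain ⟨i, hi, h1, -⟩ := ineq T hν hn one_pos (by
      intro T' hT'
      by_cases hex : ∃ u1 : H, orderOf u1 = 2 ∧ u1 • T = T'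
      · obtain ⟨u1, hu1, hu1T⟩ := hex
        refine ⟨u1, fun u hu huT => ?_⟩
        obtain ⟨h1, h2⟩ := h.swap (mul_self_of_orderOf hu1) (mul_self_of_orderOf hu) hu1T huT
        refine ⟨h1, h2, ?_⟩
        by_cases e : u1 * u = 1
        · rw [e, one_mul]
        · exfalso
          obtain ⟨z, hz, hz2⟩ := exists_involution_mem (A := (T : Subgroup H) ⊓ T')
            T.isPGroup'.to_inf_left (fun hb => e (by
              have : u1 * u ∈ (T : Subgroup H) ⊓ T' := ⟨h1, h2⟩
              rwa [hb] at this))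
          exact hT' (huniq z hz2 T' T hz.2 hz.1)
      · exact ⟨1, fun u hu huT => absurd ⟨u, hu, huT⟩ hex⟩)
    rw [hn] at h1
    have h2 : i ≤ 1 := by
      by_contra hlt
      push Not at hlt
      nlinarith
    rw [hi] at h2
    haveI := Finite.card_le_one_iff_subsingleton.1 h2
    exact congrArg Subtype.val (Subsingleton.elim
      (⟨a, ha, haT⟩ : {u : H // orderOf u = 2 ∧ u ∈ (T : Subgroup H)}) ⟨b, hb, hbT⟩)
  obtain ⟨y, hy, hty⟩ := exists_RP_of_involution h.pCore_eq_bot ht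
  obtain ⟨T, hT⟩ := exists_sylow_mem (p := 2) (g := t) ⟨1, by simpa using ht⟩
  have hinv : ∀ u : H, orderOf u = 2 → u * y * u⁻¹ = y⁻¹ := by
    intro u hu
    obtain ⟨T', hT'⟩ := exists_sylow_mem (p := 2) (g := u) ⟨1, by simpa using hu⟩
    obtain ⟨c, hc, rfl⟩ := h.trans hy T T'
    have e := hone _ u (c * t * c⁻¹) hu (by rw [orderOf_conj]; exact ht) hT'
      ((mem_smul_sylow T c _).2 (by simpa [mul_assoc] using hT))
    have hcy : c⁻¹ * y * c = y := by rw [mul_assoc, ← (mem_C.1 hc).eq]; group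
    have hcy' : c * y⁻¹ * c⁻¹ = y⁻¹ := by rw [(mem_C.1 hc).inv_right.eq]; group
    rw [e]
    calc c * t * c⁻¹ * y * (c * t * c⁻¹)⁻¹ = c * (t * (c⁻¹ * y * c) * t⁻¹) * c⁻¹ := by group
      _ = y⁻¹ := by rw [hcy, hty, hcy']
  have hinv' : ∀ u : H, orderOf u = 2 → ∀ g : H,
      u * (g * y * g⁻¹) * u⁻¹ = (g * y * g⁻¹)⁻¹ := by
    intro u hu g
    have := hinv (g⁻¹ * u * g) (by rw [orderOf_conj']; exact hu)
    calc u * (g * y * g⁻¹) * u⁻¹ = g * (g⁻¹ * u * g * y * (g⁻¹ * u * g)⁻¹) * g⁻¹ := by group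
      _ = _ := by rw [this]; group
  set K := Subgroup.centralizer (Set.range fun g : H => g * y * g⁻¹) with hK
  haveI hKn : K.Normal := ⟨fun a ha g => by
    rw [Subgroup.mem_centralizer_iff] at ha ⊢
    rintro _ ⟨b, rfl⟩
    have := ha _ ⟨g⁻¹ * b, rfl⟩
    calc b * y * b⁻¹ * (g * a * g⁻¹) = g * (g⁻¹ * b * y * (g⁻¹ * b)⁻¹ * a) * g⁻¹ := by group
      _ = _ := by rw [this]; group⟩
  have hKodd : ¬ 2 ∣ Nat.card K := by
    intro hd
    obtain ⟨⟨z, hz⟩, hz2⟩ := exists_prime_orderOf_dvd_card' 2 hd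
    rw [Subgroup.orderOf_mk] at hz2
    have h1 := Subgroup.mem_centralizer_iff.1 hz y ⟨1, by simp⟩
    have h2 := hinv z hz2
    rw [← h1, mul_inv_cancel_right] at h2
    exact hy.ne_inv h2
  haveI : Group.IsSolvable K :=
    S0205.result (Nat.not_even_iff_odd.1 fun e => hKodd (even_iff_two_dvd.1 e))
  haveI := isSolvable_normalizer T
  refine isSolvable_of_sup K (Subgroup.normalizer ((T : Subgroup H) : Set H)) ?_
  rw [eq_top_iff]
  intro g _
  have ht' : orderOf (g * t * g⁻¹) = 2 := by rw [orderOf_conj]; exact ht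
  have hk : g * t * g⁻¹ * t⁻¹ ∈ K := by
    rw [Subgroup.mem_centralizer_iff]
    rintro _ ⟨b, rfl⟩
    have e1 := hinv' _ ht' b
    have e2 := hinv' _ ht b
    simp only
    generalize b * y * b⁻¹ = x at e1 e2
    generalize g * t * g⁻¹ = t' at e1
    have e3 : t⁻¹ * x * t = x⁻¹ := by
      have := inv_eq_of_orderOf ht
      rw [this] at e2 ⊢; exact e2
    have e4 : t' * x⁻¹ * t'⁻¹ = x := by rw [← conj_inv, e1, inv_inv]
    calc x * (t' * t⁻¹) = t' * x⁻¹ * t'⁻¹ * (t' * t⁻¹) := by rw [e4]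
      _ = t' * (t⁻¹ * x * t) * t⁻¹ := by rw [e3]; group
      _ = _ := by group
  have hc2 : Nat.Coprime 2 (Nat.card K) := (Nat.Prime.coprime_iff_not_dvd Nat.prime_two).2 hKodd
  obtain ⟨k, hkK, hk2⟩ := H94.exists_conj_eq_of_coprime (N := K) (x := t) (y := g * t * g⁻¹)
    (ht ▸ hc2) (ht' ▸ hc2) (by
      rw [eq_comm, QuotientGroup.eq_iff_div_mem, div_eq_mul_inv]; exact hk)
  have h3 : (k⁻¹ * g) • T = T := by
    refine huniq t ht _ _ ((mem_smul_sylow T _ t).2 ?_) hT
    have : (k⁻¹ * g)⁻¹ * t * (k⁻¹ * g) = t := by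
      calc (k⁻¹ * g)⁻¹ * t * (k⁻¹ * g) = g⁻¹ * (k * t * k⁻¹) * g := by group
        _ = t := by rw [hk2]; group
    rw [this]; exact hT
  have : g = k * (k⁻¹ * g) := by group
  rw [this]
  exact Subgroup.mul_mem_sup hkK (Sylow.smul_eq_iff_mem_normalizer.1 h3)

theorem relIndex_stab (h : Hyp H W) {w : W} (hw : w ≠ 1) {T' : Sylow 2 H}
    (hT' : (T' : Subgroup H) ≤ stabilizer H w) (T : Sylow 2 H) :
    (stabilizer H w).relIndex T = (T' : Subgroup H).relIndex T := by
  rw [← Subgroup.inf_relIndex_right, ← Subgroup.inf_relIndex_right (T' : Subgroup H)]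
  congr 1
  apply le_antisymm
  · exact fun g hg => ⟨h.mem_of_fix hw hT' (orderOf_eq_pow_of_mem T.isPGroup' hg.2) hg.1, hg.2⟩
  · exact inf_le_inf_right _ hT'

theorem orb2 (T : Sylow 2 H) (hf : Nat.card (fx W ((T : Subgroup H) : Set H)) = 2)
    (h4 : 4 ∣ Nat.card W) :
    ∃ x : W, x ∉ fx W ((T : Subgroup H) : Set H) ∧ (stabilizer H x).relIndex T = 2 := by
  by_contra hne
  push Not at hne
  have h1 := H58.dvd_ncard_of_orbits (H := (T : Subgroup H)) 4
    (Set.univ \ (fx W ((T : Subgroup H) : Set H) : Set W)) (by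
      rintro ⟨g, hg⟩ x ⟨-, hx⟩
      refine ⟨trivial, fun h' => hx ?_⟩
      have h2 : g⁻¹ • g • x = g • x := h' g⁻¹ ((T : Subgroup H).inv_mem hg)
      rw [inv_smul_smul] at h2
      rw [h2]; exact h') (by
      rintro x ⟨-, hx⟩
      change 4 ∣ (stabilizer H x).relIndex T
      obtain ⟨k, hk⟩ := T.isPGroup'.index ((stabilizer H x).subgroupOf T)
      change (stabilizer H x).relIndex T = _ at hk
      rcases k with _ | _ | k
      · exact absurd (fun g hg => Subgroup.relIndex_eq_one.1 hk hg) hx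
      · exact absurd hk (hne x hx)
      · rw [hk]; exact ⟨2 ^ k, by ring⟩)
  rw [Set.ncard_sdiff (Set.subset_univ _), Set.ncard_univ, ← Nat.card_coe_set_eq,
    SetLike.coe_sort_coe, hf] at h1
  have : 0 < Nat.card W := Nat.card_pos
  omega

theorem not_two_trans (h : Hyp H W) [Nontrivial W] {t : H} (ht : orderOf t = 2) {Q f ν : ℕ}
    (hf2 : 2 ≤ f) (hν1 : 1 < ν) (hW : Nat.card W = Q ^ 2) (hQ : Q = 1 + ν * (f - 1))
    (hn : Nat.card (Sylow 2 H) = (Q + 1) * ν)
    (hQt : ∀ t : H, orderOf t = 2 → Nat.card (fx W ({t} : Set H)) = Q)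
    (hν : ∀ t : H, orderOf t = 2 → Nat.card {T : Sylow 2 H // t ∈ (T : Subgroup H)} = ν)
    (hf : ∀ T : Sylow 2 H, Nat.card (fx W ((T : Subgroup H) : Set H)) = f)
    (h2 : ∀ a b c d : Sylow 2 H, a ≠ b → c ≠ d → ∃ g : H, g • a = c ∧ g • b = d) : False := by
  obtain ⟨T, hT⟩ := exists_sylow_mem (p := 2) (g := t) ⟨1, by simpa using ht⟩
  have hTne : (T : Subgroup H) ≠ ⊥ := fun e => by
    rw [e, Subgroup.mem_bot] at hT; rw [hT] at ht; simp at ht
  obtain ⟨z, ⟨hzT, hzC⟩, hz⟩ := exists_involution_mem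
    (A := (T : Subgroup H) ⊓ Subgroup.centralizer (T : Set H)) T.isPGroup'.to_inf_left
    (inf_centralizer_ne_bot_of_isPGroup T.isPGroup' T.isPGroup' Subgroup.le_normalizer hTne)
  obtain ⟨y, hy, hzy⟩ := exists_RP_of_involution h.pCore_eq_bot hz
  have hT1 : y • T ≠ T := fun e =>
    h.not_mem_normalizer hy T (Sylow.smul_eq_iff_mem_normalizer.1 e)
  have hzz := mul_self_of_orderOf hz
  have huu : (y * z) * (y * z) = 1 := by
    rw [inv_eq_of_orderOf hz] at hzy
    rw [mul_assoc, ← mul_assoc z, hzy, mul_inv_cancel]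
  have huT : (y * z) • T = y • T := by
    rw [mul_smul, Sylow.smul_eq_iff_mem_normalizer.2 (Subgroup.le_normalizer hzT)]
  have hud : ∀ d ∈ (T : Subgroup H), d ∈ ((y • T : Sylow 2 H) : Subgroup H) →
      Commute (y * z) d := by
    intro d hd1 hd2
    have h1 : d * z = z * d := Subgroup.mem_centralizer_iff.1 hzC d hd1
    have h3 : (y⁻¹ * d * y) * z = z * (y⁻¹ * d * y) :=
      Subgroup.mem_centralizer_iff.1 hzC _ ((mem_smul_sylow T y d).1 hd2)
    have h4 : z * y⁻¹ * z⁻¹ = y := by rw [← conj_inv, hzy, inv_inv]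
    have h5 : y * d * y⁻¹ = y⁻¹ * d * y := by
      calc y * d * y⁻¹ = (z * y⁻¹ * z⁻¹) * d * (z * y * z⁻¹) := by rw [h4, hzy]
        _ = z * y⁻¹ * (z⁻¹ * (d * z)) * y * z⁻¹ := by group
        _ = z * (y⁻¹ * d * y) * z⁻¹ := by rw [h1]; group
        _ = _ := by rw [← h3]; group
    have h6 : Commute (y ^ 2) d := by
      show y ^ 2 * d = d * y ^ 2
      calc y ^ 2 * d = y * (y * d * y⁻¹) * y := by rw [pow_two]; group
        _ = _ := by rw [h5, pow_two]; group
    obtain ⟨k, hk⟩ := exists_pow_eq_self_of_coprime (x := y) (n := 2)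
      (Nat.coprime_two_left.2 hy.odd)
    have h7 : Commute y d := hk ▸ h6.pow_left k
    exact h7.mul_left h1.symm
  obtain ⟨i, hi, h3, h4⟩ := ineq T hν hn (by omega) (by
    intro T' hT'
    obtain ⟨g, hg1, hg2⟩ := h2 T (y • T) T T' hT1.symm hT'.symm
    refine ⟨g * (y * z) * g⁻¹, fun u hu huT' => ?_⟩
    have e1 : g * (y * z) * g⁻¹ * (g * (y * z) * g⁻¹) = 1 := by
      rw [conj_mul, huu]; simp
    have e2 : (g * (y * z) * g⁻¹) • T = T' := by
      rw [mul_smul, mul_smul, inv_smul_eq_iff.2 hg1.symm, huT, hg2]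
    obtain ⟨a, b⟩ := h.swap e1 (mul_self_of_orderOf hu) e2 huT'
    refine ⟨a, b, ?_⟩
    set u0 := g * (y * z) * g⁻¹ with hu0
    have e3 : Commute u0 (u0 * u) := by
      have := hud (g⁻¹ * (u0 * u) * g) ((mem_smul_sylow T g _).1 (hg1.symm ▸ a))
        ((mem_smul_sylow (y • T) g _).1 (hg2.symm ▸ b))
      generalize u0 * u = d at this ⊢
      show g * (y * z) * g⁻¹ * d = d * (g * (y * z) * g⁻¹)
      calc g * (y * z) * g⁻¹ * d = g * (y * z * (g⁻¹ * d * g)) * g⁻¹ := by group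
        _ = _ := by rw [this.eq]; group
    have e4 : u0 * u * u0 = u := by rw [← e3.eq, ← mul_assoc, e1, one_mul]
    rw [← mul_assoc, e4, mul_self_of_orderOf hu])
  have h5 := h4 (by
    intro T' hT'
    have : Nontrivial {T : Sylow 2 H // t ∈ (T : Subgroup H)} :=
      Finite.one_lt_card_iff_nontrivial.1 (by rw [hν t ht]; exact hν1)
    obtain ⟨⟨a, ha⟩, ⟨b, hb⟩, hab⟩ := this
    obtain ⟨g, hg1, hg2⟩ := h2 a b T T' (fun e => hab (Subtype.ext e)) hT'.symm
    refine ⟨g * t * g⁻¹, by rw [orderOf_conj]; exact ht, ?_, ?_⟩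
    · rw [← hg1, mem_smul_sylow]; simpa [mul_assoc] using ha
    · rw [← hg2, mem_smul_sylow]; simpa [mul_assoc] using hb)
  have hi0 : 0 < i := by
    rw [hi]
    haveI : Nonempty {u : H // orderOf u = 2 ∧ u ∈ (T : Subgroup H)} := ⟨⟨t, ht, hT⟩⟩
    exact Nat.card_pos
  have h6 : Q + 2 ≤ 2 * ν := by
    by_contra hlt
    push Not at hlt
    nlinarith
  have hf' : f = 2 := by
    by_contra hne
    have : 2 ≤ f - 1 := by omega
    nlinarith
  subst hf'
  obtain ⟨a, ha⟩ := (h.isPGroup.to_subgroup (fx W ({t} : Set H))).exists_card_eq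
  rw [hQt t ht] at ha
  have h4W : 4 ∣ Nat.card W := by
    rw [hW, ha]
    rcases a with _ | a
    · omega
    · exact ⟨(2 ^ a) ^ 2, by ring⟩
  obtain ⟨x, hx1, hx2⟩ := orb2 T (hf T) h4W
  have hall : ∀ x' : W, x' ∉ fx W ((T : Subgroup H) : Set H) →
      (stabilizer H x').relIndex T = 2 := by
    intro x' hx'
    obtain ⟨A, hA⟩ := h.exists_sylow x
    obtain ⟨B, hB⟩ := h.exists_sylow x'
    have hA1 : T ≠ A := by rintro rfl; exact hx1 fun g hg => hA hg
    have hB1 : T ≠ B := by rintro rfl; exact hx' fun g hg => hB hg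
    obtain ⟨g, hg1, hg2⟩ := h2 T A T B hA1 hB1
    refine Eq.trans ?_ hx2
    rw [h.relIndex_stab (by rintro rfl; exact hx' (Subgroup.one_mem _)) hB, ← hg2,
      h.relIndex_stab (by rintro rfl; exact hx1 (Subgroup.one_mem _)) hA]
    conv_lhs => rw [← hg1]
    rw [Sylow.coe_subgroup_smul, Sylow.coe_subgroup_smul, Subgroup.relIndex_pointwise_smul]
  have hle : (h.nm t).range ≤ fx W ((T : Subgroup H) : Set H) := by
    rintro _ ⟨x', rfl⟩
    rw [nm_apply]
    by_cases hx' : x' ∈ fx W ((T : Subgroup H) : Set H)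
    · rw [hx' t hT, h.sq]; exact Subgroup.one_mem _
    · rcases idx2 h.comm (hall x' hx') hT with e | e
      · rw [e, h.sq]; exact Subgroup.one_mem _
      · exact e
  have := Subgroup.card_le_of_le hle
  rw [h.nm_range ht, hQt t ht, hf] at this
  omega

theorem not_eight (h : Hyp H W) [Nontrivial W] {t : H} (ht : orderOf t = 2)
    (hW : Nat.card W = 64)
    (hQt : ∀ t : H, orderOf t = 2 → Nat.card (fx W ({t} : Set H)) = 8)
    (hf : ∀ T : Sylow 2 H, Nat.card (fx W ((T : Subgroup H) : Set H)) = 2) : False := by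
  obtain ⟨T, hT⟩ := exists_sylow_mem (p := 2) (g := t) ⟨1, by simpa using ht⟩
  obtain ⟨x, hx1, hx2⟩ := orb2 T (hf T) (by rw [hW]; norm_num)
  have hx0 : x ≠ 1 := by rintro rfl; exact hx1 (Subgroup.one_mem _)
  obtain ⟨T', hT'⟩ := h.exists_sylow x
  obtain ⟨w, hw0, hw⟩ := h.exists_fixed T
  have hTT' : T' ≠ T := by rintro rfl; exact hx1 fun g hg => hT' hg
  have hr1 : (T' : Subgroup H).relIndex T = 2 := by rw [← h.relIndex_stab hx0 hT', hx2]
  have hcard : Nat.card (T : Subgroup H) = Nat.card (T' : Subgroup H) := by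
    rw [Sylow.card_eq_multiplicity, Sylow.card_eq_multiplicity]
  have hr2 : (T : Subgroup H).relIndex T' = 2 := by
    have e1 := H3.card_inf_mul_relIndex (T' : Subgroup H) T
    have e2 := H3.card_inf_mul_relIndex (T : Subgroup H) T'
    rw [inf_comm, hr1, hcard, ← e2] at e1
    exact (Nat.eq_of_mul_eq_mul_left Nat.card_pos e1).symm
  set D := (T : Subgroup H) ⊓ T' with hD
  have hPN : (T : Subgroup H) ⊔ T' ≤ Subgroup.normalizer (D : Set H) := by
    refine sup_le ?_ ?_
    · refine (Subgroup.normal_subgroupOf_iff_le_normalizer inf_le_left).1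
        (Subgroup.normal_of_index_eq_two ?_)
      change D.relIndex T = 2
      rw [hD, Subgroup.inf_relIndex_left, hr1]
    · refine (Subgroup.normal_subgroupOf_iff_le_normalizer inf_le_right).1
        (Subgroup.normal_of_index_eq_two ?_)
      change D.relIndex T' = 2
      rw [hD, Subgroup.inf_relIndex_right, hr2]
  obtain ⟨y, hyP, hy⟩ : ∃ y ∈ (T : Subgroup H) ⊔ T', RP y := by
    by_contra hne
    push Not at hne
    have := le_normalizer_of_no_RP hne T le_sup_left
    exact hTT' (Sylow.ext (T'.is_maximal' T.isPGroup' fun g hg => mem_sylow_of_mem_normalizer T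
      (orderOf_eq_pow_of_mem T'.isPGroup' hg) (this (Subgroup.mem_sup_right hg))).symm)
  haveI hnormW : ∀ A : Subgroup W, A.Normal := fun A => ⟨fun a ha g => by
    rwa [h.comm g, mul_inv_cancel_right]⟩
  have hfix : ∀ A : Subgroup W, (∀ a ∈ A, y • a ∈ A) → orderOf y ∣ Nat.card A - 1 := by
    intro A hA
    have h1 := card_modEq_of_fpf hy.1 A hA
    have h2 : A ⊓ fx W ({y} : Set H) = ⊥ := by
      rw [eq_bot_iff]
      exact fun a ha => h.fpf y hy a (mem_fx1.1 ha.2)
    rwa [h2, Subgroup.card_bot] at h1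
  have hy3 : orderOf y = 3 := by
    set A := fx W ((T : Subgroup H) : Set H) ⊔ fx W ((T' : Subgroup H) : Set H) with hA
    have hxT' : x ∈ fx W ((T' : Subgroup H) : Set H) := fun g hg => hT' hg
    have hwT : w ∈ fx W ((T : Subgroup H) : Set H) := fun g hg => hw hg
    have hc4 : Nat.card A = 4 := by
      have e1 := H3.card_sup_mul_card_inf (fx W ((T : Subgroup H) : Set H))
        (fx W ((T' : Subgroup H) : Set H))
      have e2 : fx W ((T : Subgroup H) : Set H) ⊓ fx W ((T' : Subgroup H) : Set H) = ⊥ := by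
        rw [eq_bot_iff]
        rintro a ⟨ha1, ha2⟩
        rcases eq_of_card_two (hf T') hxT' hx0 ha2 with e | e
        · exact e
        · exact absurd (e ▸ ha1) hx1
      rwa [e2, Subgroup.card_bot, mul_one, hf, hf] at e1
    have key : ∀ (S S' : Sylow 2 H) (v : W), v ≠ 1 → (S' : Subgroup H) ≤ stabilizer H v →
        (S' : Subgroup H).relIndex S = 2 → (S : Subgroup H) ≤ stab H
          (fx W ((S : Subgroup H) : Set H) ⊔ fx W ((S' : Subgroup H) : Set H)) := by
      intro S S' v hv hS' hr g hg a ha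
      obtain ⟨b, hb, c, hc, rfl⟩ := Subgroup.mem_sup_of_normal_right.1 ha
      rw [smul_mul', hb g hg]
      refine Subgroup.mul_mem _ (Subgroup.mem_sup_left hb) ?_
      rcases eq_of_card_two (hf S') (fun g hg => hS' hg) hv hc with rfl | rfl
      · rw [smul_one]; exact Subgroup.one_mem _
      · rcases idx2 h.comm ((h.relIndex_stab hv hS' S).trans hr) hg with e | e
        · rw [e]; exact Subgroup.mem_sup_right hc
        · have : g • c = c⁻¹ * (c * g • c) := by group
          rw [this]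
          exact Subgroup.mul_mem _ (Subgroup.inv_mem _ (Subgroup.mem_sup_right hc))
            (Subgroup.mem_sup_left e)
    have hP : (T : Subgroup H) ⊔ T' ≤ stab H A :=
      sup_le (key T T' x hx0 hT' hr1) (by rw [hA, sup_comm]; exact key T' T w hw0 hw hr2)
    have := hfix A (hP hyP)
    rw [hc4] at this
    exact (Nat.prime_dvd_prime_iff_eq hy.1 Nat.prime_three).1 this
  rw [hy3] at hfix
  have hyyy : y * y * y = 1 := by
    have := pow_orderOf_eq_one y
    rwa [hy3, pow_three'] at this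
  have hnoC : ∀ e : H, orderOf e = 2 → ¬ Commute y e := by
    intro e he hc
    have := hfix (fx W ({e} : Set H)) fun a ha => by
      rw [mem_fx1] at ha ⊢
      rw [smul_smul, ← hc.eq, mul_smul, ha]
    rw [hQt e he] at this
    omega
  have hDne : D ≠ ⊥ := by
    intro e
    have e1 := H3.card_inf_mul_relIndex (T' : Subgroup H) T
    rw [inf_comm, ← hD, e, Subgroup.card_bot, one_mul, hr1] at e1
    have e2 : Subgroup.zpowers t = T := Subgroup.eq_of_le_of_card_ge (Subgroup.zpowers_le.2 hT)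
      (by rw [Nat.card_zpowers, ht, ← e1])
    have e3 : fx W ({t} : Set H) ≤ fx W ((T : Subgroup H) : Set H) := by
      intro a ha g hg
      have : Subgroup.zpowers t ≤ stabilizer H a := Subgroup.zpowers_le.2 (mem_fx1.1 ha)
      exact this (e2 ▸ hg)
    have := Subgroup.card_le_of_le e3
    rw [hQt t ht, hf] at this
    omega
  have hDp : IsPGroup 2 D := T.isPGroup'.to_inf_left
  obtain ⟨z, hzZ, hz⟩ := exists_involution_mem
    (A := D ⊓ Subgroup.centralizer (D : Set H)) hDp.to_inf_left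
    (inf_centralizer_ne_bot_of_isPGroup hDp hDp Subgroup.le_normalizer hDne)
  have hyZ : ∀ a ∈ D ⊓ Subgroup.centralizer (D : Set H),
      y * a * y⁻¹ ∈ D ⊓ Subgroup.centralizer (D : Set H) := fun a ha =>
    ⟨(Subgroup.mem_normalizer_iff.1 (hPN hyP) a).1 ha.1,
      (Subgroup.mem_normalizer_iff.1 (normalizer_le_normalizer_centralizer D (hPN hyP)) a).1 ha.2⟩
  have hcomm : ∀ a ∈ D ⊓ Subgroup.centralizer (D : Set H),
      ∀ b ∈ D ⊓ Subgroup.centralizer (D : Set H), a * b = b * a := fun a ha b hb =>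
    Subgroup.mem_centralizer_iff.1 hb.2 a ha.1
  obtain ⟨z1, hz1⟩ : ∃ z1, z1 = y * z * y⁻¹ := ⟨_, rfl⟩
  obtain ⟨z2, hz2⟩ : ∃ z2, z2 = y * z1 * y⁻¹ := ⟨_, rfl⟩
  have hz1Z := hz1 ▸ hyZ z hzZ
  have hz2Z := hz2 ▸ hyZ z1 hz1Z
  have hz1o : orderOf z1 = 2 := by rw [hz1, orderOf_conj]; exact hz
  have hz2o : orderOf z2 = 2 := by rw [hz2, orderOf_conj]; exact hz1o
  have hz3 : y * z2 * y⁻¹ = z := by
    rw [hz2, hz1]
    calc y * (y * (y * z * y⁻¹) * y⁻¹) * y⁻¹ = (y * y * y) * z * (y * y * y)⁻¹ := by group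
      _ = z := by rw [hyyy]; group
  have c01 := hcomm z hzZ z1 hz1Z
  have c02 := hcomm z hzZ z2 hz2Z
  have c12 := hcomm z1 hz1Z z2 hz2Z
  have s0 := mul_self_of_orderOf hz
  have s1 := mul_self_of_orderOf hz1o
  have s2 := mul_self_of_orderOf hz2o
  have he : z * z1 * z2 = 1 := by
    by_contra hne
    refine hnoC (z * z1 * z2) (orderOf_eq_prime ?_ hne) ?_
    · rw [Commute.mul_pow (Commute.mul_left c02 c12), Commute.mul_pow c01, pow_two, pow_two,
        pow_two, s0, s1, s2]; simp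
    · have : y * (z * z1 * z2) * y⁻¹ = z * z1 * z2 := by
        calc y * (z * z1 * z2) * y⁻¹
            = (y * z * y⁻¹) * (y * z1 * y⁻¹) * (y * z2 * y⁻¹) := by group
          _ = z1 * z2 * z := by rw [← hz1, ← hz2, hz3]
          _ = _ := by rw [mul_assoc, ← c02, ← mul_assoc, ← c01]
      exact mul_inv_eq_iff_eq_mul.1 this
  have he2 : z2 = z * z1 := by
    have := eq_inv_of_mul_eq_one_right he
    rw [this, mul_inv_rev, inv_eq_of_orderOf hz, inv_eq_of_orderOf hz1o, c01]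
  have a0 : y * z = z1 * y := by rw [hz1]; group
  have a1 : y * z1 = z2 * y := by rw [hz2]; group
  have a2 : y * z2 = z * y := by rw [← hz3]; group
  have hE := hfix (fx W ({z} : Set H) ⊓ fx W ({z1} : Set H)) fun a ha => by
    obtain ⟨h1, h2⟩ := ha
    have h1 := mem_fx1.1 h1
    have h2 := mem_fx1.1 h2
    refine ⟨mem_fx1.2 ?_, mem_fx1.2 ?_⟩
    · rw [smul_smul, ← a2, he2, mul_smul, mul_smul, h2, h1]
    · rw [smul_smul, ← a0, mul_smul, h1]
  have hR := hfix ((fx W ({z} : Set H)).map (h.nm z1)) (by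
    rintro _ ⟨b, hb, rfl⟩
    rw [← h.nm_range hz] at hb
    obtain ⟨a, rfl⟩ := hb
    refine ⟨h.nm z (y • a), h.nm_range_le s0 ⟨_, rfl⟩, ?_⟩
    simp only [nm_apply, smul_mul', smul_smul]
    have b1 : y * (z1 * z) = z * y := by rw [← c01, ← he2, a2]
    have b2 : z1 * (z * y) = z2 * y := by rw [← mul_assoc, ← c01, ← he2]
    rw [a0, a1, b1, b2]
    letI : CommGroup W := { ‹Group W› with mul_comm := h.comm }
    ac_rfl)
  have hprod : Nat.card ((fx W ({z} : Set H)).map (h.nm z1)) *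
      Nat.card (fx W ({z} : Set H) ⊓ fx W ({z1} : Set H) : Subgroup W) = 8 := by
    rw [← hQt z hz, ← h.nm_ker z1, ← MonoidHom.domRestrict_range, ← Subgroup.index_ker,
      ← Subgroup.index_mul_card ((h.nm z1).domRestrict (fx W ({z} : Set H))).ker,
      MonoidHom.ker_domRestrict]
    congr 1
    rw [inf_comm, ← Subgroup.inf_subgroupOf_right]
    exact (Nat.card_congr (Subgroup.subgroupOfEquivOfLe inf_le_right).toEquiv).symm
  have p1 : 0 < Nat.card ((fx W ({z} : Set H)).map (h.nm z1)) := Nat.card_pos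
  have p2 : 0 < Nat.card (fx W ({z} : Set H) ⊓ fx W ({z1} : Set H) : Subgroup W) := Nat.card_pos
  generalize Nat.card ((fx W ({z} : Set H)).map (h.nm z1)) = r at hR hprod p1
  generalize Nat.card (fx W ({z} : Set H) ⊓ fx W ({z1} : Set H) : Subgroup W) = s at hE hprod p2
  obtain ⟨a, ha⟩ := hR
  obtain ⟨b, hb⟩ := hE
  obtain rfl : r = 3 * a + 1 := by omega
  obtain rfl : s = 3 * b + 1 := by omega
  have : (3 * a + 1) * (3 * b + 1) = 3 * (3 * (a * b) + a + b) + 1 := by ring
  omega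

end Hyp

end Cfsg.Agent.H1.RealMod
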