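import Cfsg.Agent.H1.RealMod2
import Cfsg.Agent.H5.Semiregular
import Cfsg.Agent.H59.Schur
import Cfsg.Agent.H69.FixLift
import Cfsg.Agent.H3.Fitting
import Cfsg.Agent.S0675
import Cfsg.Agent.S2904

/-! Part 3: primitive prime divisors, Burnside–Schur, and the solvability theorem. -/

set_option autoImplicit false
set_option linter.unusedSectionVars false
set_option linter.style.haveILetI false

namespace Cfsg.Agent.H1.RealMod

open scoped Pointwise commutatorElement
open Cfsg.Agent.H92 MulAction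

/-- Burnside–Schur: a primitive group with a transitive cyclic subgroup -/
theorem two_trans_or_solvable {H Ω : Type*} [Group H] [Finite H] [Finite Ω] [MulAction H Ω]
    [IsPreprimitive H Ω] [Nonempty Ω] (C : Subgroup H) [IsCyclic C]
    (htr : ∀ a b : Ω, ∃ c ∈ C, c • a = b) :
    (∀ a b c d : Ω, a ≠ b → c ≠ d → ∃ g : H, g • a = c ∧ g • b = d) ∨
      Group.IsSolvable (toPermHom H Ω).range := by
  classical
  haveI := Fintype.ofFinite Ω
  set G' := (toPermHom H Ω).range with hG'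
  set φ : H →* G' := (toPermHom H Ω).rangeRestrict with hφ
  have hφs : ∀ (g : H) (a : Ω), φ g • a = g • a := fun g a => rfl
  haveI : IsPreprimitive G' Ω := by
    let f : Ω →ₑ[φ] Ω := ⟨id, fun g a => rfl⟩
    exact IsPreprimitive.of_surjective (f := f) Function.surjective_id
  have back : IsMultiplyPretransitive G' Ω 2 →
      ∀ a b c d : Ω, a ≠ b → c ≠ d → ∃ g : H, g • a = c ∧ g • b = d := by
    intro h2 a b c d hab hcd
    obtain ⟨g, hg⟩ := is_two_pretransitive_iff.1 h2 hab hcd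
    obtain ⟨g, rfl⟩ := (toPermHom H Ω).rangeRestrict_surjective g
    exact ⟨g, hg⟩
  haveI : IsCyclic (C.map φ) := isCyclic_of_surjective _ (φ.subgroupMap_surjective C)
  obtain ⟨ω⟩ : Nonempty Ω := inferInstance
  have hbij : Function.Bijective fun x : C.map φ => (C.map φ).subtype x • ω := by
    constructor
    · intro x y hxy
      simp only [Subgroup.subtype_apply] at hxy
      refine Subtype.ext (Subtype.ext (Equiv.ext fun a => ?_))
      obtain ⟨c, hc, rfl⟩ := htr ω a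
      have hc' : φ c ∈ C.map φ := ⟨c, hc, rfl⟩
      have hcomm : ∀ z : C.map φ, (z : G') * φ c = φ c * z := fun z =>
        congrArg Subtype.val ((IsCyclic.isMulCommutative (α := C.map φ)).is_comm.comm z ⟨_, hc'⟩)
      change (x : G') • φ c • ω = (y : G') • φ c • ω
      rw [smul_smul, smul_smul, hcomm, hcomm, mul_smul, mul_smul, hxy]
    · intro a
      obtain ⟨c, hc, rfl⟩ := htr ω a
      exact ⟨⟨φ c, c, hc, rfl⟩, rfl⟩
  by_cases hp : (Nat.card (C.map φ)).Prime
  · rw [Nat.card_eq_of_bijective _ hbij, Nat.card_eq_fintype_card] at hp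
    rcases S0675.result hp G' with h | h
    · exact Or.inr h
    · exact Or.inl (back h)
  · exact Or.inl (back (H59.Schur.two_pretransitive_of_isCyclic _ ω hbij hp))

variable {H : Type*} [Group H] [Finite H] {W : Type*} [Group W] [Finite W]
  [MulDistribMulAction H W]

theorem exists_conj_sylow_of_le {p : ℕ} [Fact p.Prime] {C : Subgroup H} (P Q : Sylow p H)
    (hP : (P : Subgroup H) ≤ C) (hQ : (Q : Subgroup H) ≤ C) : ∃ c ∈ C, c • P = Q := by
  obtain ⟨c, hc⟩ := exists_smul_eq C (P.subtype hP) (Q.subtype hQ)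
  rw [Sylow.smul_subtype] at hc
  exact ⟨c, c.2, Sylow.subtype_injective hc⟩

namespace Hyp

/-- BG 3.4 in action form -/
theorem le_C_of_fpf (h : Hyp H W) {l : H} (hl : (orderOf l).Prime) (hl2 : orderOf l ≠ 2)
    (hfpf : ∀ w : W, l • w = w → w = 1) (K : Subgroup H) [hKn : K.Normal]
    (hK2 : ¬ 2 ∣ Nat.card K) (hKl : ¬ orderOf l ∣ Nat.card K) : K ≤ Ce[l] := by
  set φ : H →* MulAut W := MulDistribMulAction.toMulAut H W with hφ
  haveI : Finite (W ⋊[φ] H) := Finite.of_equiv _ SemidirectProduct.equivProd.symm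
  set V : Subgroup (W ⋊[φ] H) := (SemidirectProduct.inl : W →* W ⋊[φ] H).range with hV
  set K' : Subgroup (W ⋊[φ] H) := K.map SemidirectProduct.inr with hK'
  set R' : Subgroup (W ⋊[φ] H) := (Subgroup.zpowers l).map SemidirectProduct.inr with hR'
  have cK : Nat.card K' = Nat.card K :=
    Subgroup.card_map_of_injective SemidirectProduct.inr_injective
  have cR : Nat.card R' = orderOf l := by
    rw [← Nat.card_zpowers]
    exact Subgroup.card_map_of_injective SemidirectProduct.inr_injective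
  have cV : Nat.card V = Nat.card W :=
    (Nat.card_congr (MonoidHom.ofInjective SemidirectProduct.inl_injective).toEquiv).symm
  have hcop : (Nat.card K').Coprime (Nat.card R') := by
    rw [cK, cR]; exact ((Nat.Prime.coprime_iff_not_dvd hl).2 hKl).symm
  have hnorm : R' ≤ Subgroup.normalizer (K' : Set _) :=
    (Subgroup.map_mono (by rw [Subgroup.normalizer_eq_top]; exact le_top)).trans
      (Subgroup.le_normalizer_map _)
  have hodd : ¬ 2 ∣ Nat.card (K' ⊔ R' : Subgroup _) := by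
    rw [hK', hR', ← Subgroup.map_sup,
      Subgroup.card_map_of_injective SemidirectProduct.inr_injective, sup_comm]
    intro hd
    have h1 := H3.card_sup_mul_card_inf (Subgroup.zpowers l) K
    have h2 : 2 ∣ Nat.card (Subgroup.zpowers l) * Nat.card K := h1 ▸ hd.mul_right _
    rcases (Nat.Prime.dvd_mul Nat.prime_two).1 h2 with h3 | h3
    · rw [Nat.card_zpowers] at h3
      exact hl2 ((Nat.prime_dvd_prime_iff_eq Nat.prime_two hl).1 h3).symm
    · exact hK2 h3
  have hVn : V.Normal := by rw [hV, SemidirectProduct.range_inl_eq_ker_rightHom]; infer_instance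
  have hVp : IsPGroup 2 V := h.isPGroup.of_surjective _ (MonoidHom.rangeRestrict_surjective _)
  have key := H69.odd_prime_sdprod_cent1 (M := K' ⊔ R') (K := K') (R := R') (V := V)
    (Nat.not_even_iff_odd.1 fun e => hodd (even_iff_two_dvd.1 e))
    ⟨hnorm, Subgroup.disjoint_of_coprime_natCard hcop |>.eq_bot, rfl⟩ hcop (cR ▸ hl)
    (H89.isSolvable_of_isPGroup Nat.prime_two hVp)
    (by rw [Subgroup.normalizer_eq_top]; exact le_top)
    (coprime_of_pow_of_not_dvd Nat.prime_two hVp.exists_card_eq hodd) (by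
      rw [eq_bot_iff]
      rintro _ ⟨⟨w, rfl⟩, hw⟩
      have h1 := Subgroup.mem_centralizer_iff.1 hw (SemidirectProduct.inr l)
        ⟨l, Subgroup.mem_zpowers l, rfl⟩
      have h2 : φ l w = w := by
        apply SemidirectProduct.inl_injective (φ := φ)
        rw [SemidirectProduct.inl_aut, h1, map_inv, mul_inv_cancel_right]
      rw [Subgroup.mem_bot, hfpf w h2, map_one])
  intro k hk
  have h1 := (key (Subgroup.commutator_mem_commutator
    (⟨l, Subgroup.mem_zpowers l, rfl⟩ : SemidirectProduct.inr l ∈ R')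
    (⟨k, hk, rfl⟩ : SemidirectProduct.inr k ∈ K'))).2
  rw [← map_commutatorElement] at h1
  rw [mem_C', ← commutatorElement_eq_one_iff_commute]
  refine h.faith _ fun w => ?_
  have h2 := Subgroup.mem_centralizer_iff.1 h1 (SemidirectProduct.inl w) ⟨w, rfl⟩
  apply SemidirectProduct.inl_injective (φ := φ)
  change SemidirectProduct.inl (φ ⁅l, k⁆ w) = _
  rw [SemidirectProduct.inl_aut, ← h2, map_inv, mul_inv_cancel_right]

section ppd

variable {N ℓ : ℕ}

theorem irr (h : Hyp H W) (hW : Nat.card W = 2 ^ N) (hℓ : ℓ.Prime) (hℓ2 : ℓ ≠ 2)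
    (hp : ∀ k, 0 < k → k < N → ¬ ℓ ∣ 2 ^ k - 1) {l : H} (hl : orderOf l = ℓ) :
    (∀ w : W, l • w = w → w = 1) ∧ ∀ A : Subgroup W, (∀ w ∈ A, l • w ∈ A) → A = ⊥ ∨ A = ⊤ := by
  have key : ∀ A : Subgroup W, (∀ w ∈ A, l • w ∈ A) → A ≤ fx W ({l} : Set H) ∨
      (A = ⊤ ∧ A ⊓ fx W ({l} : Set H) = ⊥) := by
    intro A hA
    have h1 := card_modEq_of_fpf (hl ▸ hℓ) A hA
    obtain ⟨i, hi⟩ := (h.isPGroup.to_subgroup A).exists_card_eq
    obtain ⟨j, hj⟩ := (h.isPGroup.to_subgroup (A ⊓ fx W ({l} : Set H))).exists_card_eq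
    have hji : j ≤ i := by
      have := Subgroup.card_le_of_le (inf_le_left : A ⊓ fx W ({l} : Set H) ≤ A)
      rw [hi, hj] at this
      exact (Nat.pow_le_pow_iff_right one_lt_two).1 this
    have hiN : i ≤ N := by
      have := Subgroup.card_le_card_group A
      rw [hi, hW] at this
      exact (Nat.pow_le_pow_iff_right one_lt_two).1 this
    obtain ⟨k, rfl⟩ := Nat.exists_eq_add_of_le hji
    rw [hl, hi, hj, pow_add, ← Nat.mul_sub_one] at h1
    have h2 : ℓ ∣ 2 ^ k - 1 := (Nat.Coprime.pow_right j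
      ((Nat.coprime_primes hℓ Nat.prime_two).2 hℓ2)).dvd_of_dvd_mul_left h1
    rcases Nat.eq_zero_or_pos k with rfl | hk
    · left
      rw [← inf_eq_left]
      exact Subgroup.eq_of_le_of_card_ge inf_le_left (by rw [hi, hj, add_zero])
    · right
      have hkN : N ≤ k := by
        by_contra hlt
        exact hp k hk (by omega) h2
      obtain rfl : j = 0 := by omega
      obtain rfl : k = N := by omega
      exact ⟨Subgroup.eq_top_of_card_eq _ (by rw [hi, hW, zero_add]),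
        Subgroup.eq_bot_of_card_eq _ (by simpa using hj)⟩
  have hbot : fx W ({l} : Set H) = ⊥ := by
    rcases key ⊤ (fun _ _ => trivial) with h1 | h1
    · exfalso
      have := h.faith l fun w => mem_fx1.1 (h1 trivial)
      rw [this, orderOf_one] at hl
      exact hℓ.one_lt.ne hl
    · simpa using h1.2
  refine ⟨fun w hw => by simpa [hbot] using mem_fx1.2 hw, fun A hA => ?_⟩
  rcases key A hA with h1 | h1
  · exact Or.inl (le_bot_iff.1 (hbot ▸ h1))
  · exact Or.inr h1.1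

theorem semireg (h : Hyp H W) {l : H}
    (hirr : ∀ A : Subgroup W, (∀ w ∈ A, l • w ∈ A) → A = ⊥ ∨ A = ⊤) {c : H} (hc : c ∈ Ce[l])
    (hc1 : c ≠ 1) (w : W) (hw : c • w = w) : w = 1 := by
  rcases hirr (fx W ({c} : Set H)) (fun a ha => by
    rw [mem_fx1] at ha ⊢
    rw [smul_smul, (mem_C.1 hc).eq, mul_smul, ha]) with h1 | h1
  · simpa [h1] using mem_fx1.2 hw
  · exact absurd (h.faith c fun w => mem_fx1.1 (h1 ▸ Subgroup.mem_top w)) hc1

theorem C_comm (h : Hyp H W) [Nontrivial W] {l : H}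
    (hirr : ∀ A : Subgroup W, (∀ w ∈ A, l • w ∈ A) → A = ⊥ ∨ A = ⊤) {c d : H} (hc : c ∈ Ce[l])
    (hd : d ∈ Ce[l]) : c * d = d * c := by
  letI : CommGroup W := { ‹Group W› with mul_comm := h.comm }
  obtain ⟨w, hw⟩ := exists_ne (1 : W)
  let A : Subgroup W :=
    { carrier := {x | ∃ φ : W →* W, (∀ e ∈ Ce[l], ∀ y, φ (e • y) = e • φ y) ∧ φ w = x}
      mul_mem' := by
        rintro _ _ ⟨φ, hφ, rfl⟩ ⟨ψ, hψ, rfl⟩
        exact ⟨φ * ψ, fun e he y => by simp [hφ e he, hψ e he, smul_mul'], rfl⟩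
      one_mem' := ⟨1, fun e _ y => by simp, rfl⟩
      inv_mem' := by
        rintro _ ⟨φ, hφ, rfl⟩
        exact ⟨φ, hφ, (h.inv _).symm⟩ }
  have hA : A = ⊤ := by
    refine (hirr A ?_).resolve_left fun e => hw ?_
    · rintro _ ⟨φ, hφ, rfl⟩
      refine ⟨(MulDistribMulAction.toMonoidHom W l).comp φ, fun e he y => ?_, rfl⟩
      simp only [MonoidHom.comp_apply, MulDistribMulAction.toMonoidHom_apply]
      rw [hφ e he, smul_smul, smul_smul, (mem_C.1 he).eq]
    · have : w ∈ A := ⟨MonoidHom.id W, fun _ _ _ => rfl, rfl⟩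
      simpa [e] using this
  obtain ⟨φ, hφ, hφw⟩ : c • w ∈ A := hA ▸ Subgroup.mem_top _
  have hB : φ.eqLocus (MulDistribMulAction.toMonoidHom W c) = ⊤ := by
    refine (hirr _ ?_).resolve_left fun e => hw ?_
    · intro x hx
      change φ (l • x) = c • l • x
      have hx' : φ x = c • x := hx
      rw [hφ l (self_mem_C l), hx', smul_smul, smul_smul, (mem_C.1 hc).eq]
    · have : w ∈ φ.eqLocus (MulDistribMulAction.toMonoidHom W c) := hφw
      simpa [e] using this
  have hφc : ∀ x, φ x = c • x := fun x =>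
    (hB ▸ Subgroup.mem_top x : x ∈ φ.eqLocus (MulDistribMulAction.toMonoidHom W c))
  have := h.faith ((d * c)⁻¹ * (c * d)) fun x => by
    rw [mul_smul, inv_smul_eq_iff, mul_smul, mul_smul, ← hφc, ← hφc, hφ d hd]
  exact (inv_mul_eq_one.1 this).symm

theorem C_cyclic (h : Hyp H W) [Nontrivial W] {l : H}
    (hirr : ∀ A : Subgroup W, (∀ w ∈ A, l • w ∈ A) → A = ⊥ ∨ A = ⊤) : IsCyclic (Ce[l]) := by
  haveI : IsMulCommutative (Ce[l]) := ⟨⟨fun a b => Subtype.ext (h.C_comm hirr a.2 b.2)⟩⟩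
  exact H5.Semireg.isCyclic_of_comm (K := W) fun a ha w hw =>
    h.semireg hirr a.2 (fun e => ha (Subtype.ext e)) w hw

theorem exists_real_ppd (h : Hyp H W) [Nontrivial W] (hW : Nat.card W = 2 ^ N) (hℓ : ℓ.Prime)
    (hℓ2 : ℓ ≠ 2) (hp : ∀ k, 0 < k → k < N → ¬ ℓ ∣ 2 ^ k - 1)
    (hn : ℓ ∣ Nat.card (Sylow 2 H)) {t : H} (ht : orderOf t = 2) :
    ∃ l : H, orderOf l = ℓ ∧ RP l ∧ Cfsg.pCore ℓ H ≤ Ce[l] := by
  haveI := Fact.mk hℓ
  obtain ⟨y, hy, hty⟩ := exists_RP_of_involution h.pCore_eq_bot ht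
  obtain ⟨T⟩ : Nonempty (Sylow 2 H) := inferInstance
  obtain ⟨w, hw, hT⟩ := h.exists_fixed T
  rw [Sylow.card_eq_index_normalizer T] at hn
  have h1 : ¬ ℓ ∣ cs[y] := fun hd => hℓ.one_lt.ne' (Nat.eq_one_of_dvd_coprimes (h.cop y hy w) hd
    (hn.trans (Subgroup.index_dvd_of_le (h.stab_le hw hT))))
  obtain ⟨L, hL⟩ := not_dvd_cs_iff.1 h1
  have hL' : ((t • L : Sylow ℓ H) : Subgroup H) ≤ Ce[y] := by
    rw [Sylow.coe_subgroup_smul, ← C_inv, ← hty, C_conj]
    exact Subgroup.pointwise_smul_le_pointwise_smul_iff.2 hL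
  obtain ⟨c, hc, hcL⟩ := exists_conj_sylow_of_le _ L hL' hL
  rw [smul_smul] at hcL
  have hsy : c * t * y * (c * t)⁻¹ = y⁻¹ := by
    calc c * t * y * (c * t)⁻¹ = c * (t * y * t⁻¹) * c⁻¹ := by group
      _ = y⁻¹ := by rw [hty, (mem_C.1 hc).inv_right.eq]; group
  have hs2 : 2 ∣ orderOf (c * t) := by
    by_contra hne
    have := H91.conj_pow_of_inverts hsy (m := orderOf (c * t))
      (Nat.not_even_iff_odd.1 fun e => hne (even_iff_two_dvd.1 e))
    rw [pow_orderOf_eq_one] at this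
    exact hy.ne_inv (by simpa using this)
  obtain ⟨s, hs, hsN⟩ : ∃ s : H, orderOf s = 2 ∧
      s ∈ Subgroup.normalizer ((L : Subgroup H) : Set H) :=
    ⟨_, orderOf_pow_orderOf_div (orderOf_pos _).ne' hs2,
      Subgroup.pow_mem _ (Sylow.smul_eq_iff_mem_normalizer.1 hcL) _⟩
  have hLne : (L : Subgroup H) ≠ ⊥ := by
    intro e
    apply L.not_dvd_index
    rw [e, Subgroup.index_bot]
    exact hn.trans (Subgroup.index_dvd_card _)
  obtain ⟨l0, ⟨hl0L, hl0C⟩, hl0⟩ : ∃ l0 ∈ (L : Subgroup H) ⊓ Subgroup.centralizer (L : Set H),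
      orderOf l0 = ℓ := by
    have hne := inf_centralizer_ne_bot_of_isPGroup L.isPGroup' L.isPGroup'
      Subgroup.le_normalizer hLne
    have hP : IsPGroup ℓ ((L : Subgroup H) ⊓ Subgroup.centralizer (L : Set H) : Subgroup H) :=
      L.isPGroup'.to_inf_left
    have hdvd : ℓ ∣ Nat.card ((L : Subgroup H) ⊓ Subgroup.centralizer (L : Set H) : Subgroup H) := by
      obtain ⟨k, hk⟩ := hP.exists_card_eq
      rcases k with _ | k
      · exact absurd (Subgroup.eq_bot_of_card_eq _ (by simpa using hk)) hne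
      · rw [hk]; exact dvd_pow_self ℓ k.succ_ne_zero
    obtain ⟨⟨z, hz⟩, hz2⟩ := exists_prime_orderOf_dvd_card' ℓ hdvd
    exact ⟨z, hz, by rwa [Subgroup.orderOf_mk] at hz2⟩
  have hirr := (h.irr hW hℓ hℓ2 hp hl0).2
  have hLC : (L : Subgroup H) ≤ Ce[l0] := fun a ha =>
    mem_C.2 (Subgroup.mem_centralizer_iff.1 hl0C a ha)
  have hsC : s ∉ Ce[l0] := by
    intro hsC
    have h2 := h.card_fx_sq hs
    have h3 : fx W ({s} : Set H) = ⊥ := by
      rw [eq_bot_iff]
      exact fun a ha => h.semireg hirr hsC (by rintro rfl; simp at hs) a (mem_fx1.1 ha)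
    rw [h3, Subgroup.card_bot] at h2
    have : 1 < Nat.card W := Finite.one_lt_card
    omega
  have hl1L : s * l0 * s⁻¹ ∈ (L : Subgroup H) := (Subgroup.mem_normalizer_iff.1 hsN l0).1 hl0L
  have hcm : Commute l0⁻¹ (s * l0 * s⁻¹) := (mem_C'.1 (hLC hl1L)).inv_left
  have hne : l0⁻¹ * (s * l0 * s⁻¹) ≠ 1 := by
    intro e
    apply hsC
    rw [inv_mul_eq_one] at e
    exact mem_C.2 (mul_inv_eq_iff_eq_mul.1 e.symm)
  have ho : orderOf (l0⁻¹ * (s * l0 * s⁻¹)) = ℓ := by
    refine orderOf_eq_prime ?_ hne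
    rw [hcm.mul_pow, inv_pow, conj_pow, ← hl0, pow_orderOf_eq_one]; simp
  have hmem : l0⁻¹ * (s * l0 * s⁻¹) ∈ (L : Subgroup H) :=
    Subgroup.mul_mem _ (Subgroup.inv_mem _ hl0L) hl1L
  refine ⟨_, ho, ⟨ho.symm ▸ hℓ, ho.symm ▸ hℓ2, isConj_iff.2 ⟨s, ?_⟩⟩, fun a ha => ?_⟩
  · have hss := mul_self_of_orderOf hs
    calc s * (l0⁻¹ * (s * l0 * s⁻¹)) * s⁻¹ = s * l0⁻¹ * s⁻¹ * ((s * s) * l0 * (s * s)⁻¹) := by group
      _ = _ := by rw [hss]; group
  · exact mem_C.2 (h.C_comm hirr (hLC (H3.pCore_le_sylow L ha)) (hLC hmem))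

end ppd

theorem step (h : Hyp H W) (ih : ∀ L : Subgroup H, L.Normal → L ≠ ⊤ → Group.IsSolvable L) :
    Group.IsSolvable H := by
  by_cases h2 : 2 ∣ Nat.card H
  swap
  · exact S0205.result (Nat.not_even_iff_odd.1 fun e => h2 (even_iff_two_dvd.1 e))
  obtain ⟨t, ht⟩ := exists_prime_orderOf_dvd_card' 2 h2
  haveI : Nontrivial W := by
    by_contra hn
    rw [not_nontrivial_iff_subsingleton] at hn
    have := h.faith t fun w => Subsingleton.elim _ _
    rw [this] at ht; simp at ht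
  obtain ⟨Q, f, ν, hf2, hν0, hW, hQ, hn, hQt, hν, hf⟩ := h.numbers ht
  rcases (show ν = 1 ∨ 1 < ν by omega) with rfl | hν1
  · exact h.solvable_of_TI ht (by omega) hν hn
  obtain ⟨T, hT⟩ := exists_sylow_mem (p := 2) (g := t) ⟨1, by simpa using ht⟩
  obtain ⟨a, ha⟩ := (h.isPGroup.to_subgroup (fx W ({t} : Set H))).exists_card_eq
  obtain ⟨b, hb⟩ := (h.isPGroup.to_subgroup (fx W ((T : Subgroup H) : Set H))).exists_card_eq
  rw [hQt t ht] at ha
  rw [hf] at hb
  have hfQ : f < Q := by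
    have : 2 * (f - 1) ≤ ν * (f - 1) := Nat.mul_le_mul_right _ hν1
    omega
  have hba : b < a := by
    rw [ha, hb] at hfQ
    exact (Nat.pow_lt_pow_iff_right one_lt_two).1 hfQ
  have hb0 : 0 < b := by
    rcases b with _ | b
    · omega
    · omega
  by_cases ha3 : a = 3
  · exfalso
    subst ha3
    have hb2 : b = 1 ∨ b = 2 := by omega
    rcases hb2 with rfl | rfl
    · exact h.not_eight ht (by rw [hW, ha]; norm_num) (fun t ht => by rw [hQt t ht, ha]; norm_num)
        (fun T => by rw [hf, hb]; norm_num)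
    · rw [hb, ha] at hQ; omega
  obtain ⟨ℓ, hℓ, hℓd, hp⟩ := S2904.result 2 (a * 2) one_lt_two (by omega) (by omega) (by omega)
  have hW' : Nat.card W = 2 ^ (a * 2) := by rw [hW, ha, pow_mul]
  have hℓ2 : ℓ ≠ 2 := by
    rintro rfl
    have : 2 ∣ 2 ^ (a * 2) := dvd_pow_self 2 (by omega)
    have : 0 < 2 ^ (a * 2) := by positivity
    omega
  have hℓn : ℓ ∣ Nat.card (Sylow 2 H) := by
    have e : 2 ^ (a * 2) - 1 = Nat.card (Sylow 2 H) * (f - 1) := by
      rw [hn, pow_mul, ← ha, mul_assoc]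
      generalize ν * (f - 1) = k at hQ
      rw [hQ]
      have : (1 + k) ^ 2 = (1 + k + 1) * k + 1 := by ring
      omega
    rw [e] at hℓd
    rcases (Nat.Prime.dvd_mul hℓ).1 hℓd with h1 | h1
    · exact h1
    · exact absurd (hb ▸ h1) (hp b hb0 (by omega))
  obtain ⟨l, hl, hlR, hlO⟩ := h.exists_real_ppd hW' hℓ hℓ2 hp hℓn ht
  obtain ⟨hfpf, hirr⟩ := h.irr hW' hℓ hℓ2 hp hl
  haveI := h.C_cyclic hirr
  have hFC : Cfsg.fittingSubgroup H ≤ Ce[l] := by
    intro x hx
    refine mem_of_forall_primePow fun y hy q hq _ hyq => ?_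
    haveI := Fact.mk hq
    have hyO : y ∈ Cfsg.pCore q H := H3.le_pCore_of_le_fitting ((isPGroup_zpowers_iff y).2 hyq)
      (Subgroup.zpowers_le.2 ((Subgroup.zpowers_le.2 hx) hy)) (Subgroup.mem_zpowers y)
    by_cases hq2 : q = 2
    · subst hq2
      rw [h.pCore_eq_bot, Subgroup.mem_bot] at hyO
      rw [hyO]; exact Subgroup.one_mem _
    by_cases hqℓ : q = ℓ
    · subst hqℓ; exact hlO hyO
    · obtain ⟨k, hk⟩ := H3.exists_card_pCore (p := q) (G := H)
      exact h.le_C_of_fpf hlR.1 hlR.2.1 hfpf (Cfsg.pCore q H)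
        (not_dvd_of_eq_pow Nat.prime_two hq (Ne.symm hq2) ⟨k, hk⟩)
        (hl ▸ not_dvd_of_eq_pow hℓ hq (Ne.symm hqℓ) ⟨k, hk⟩) hyO
  haveI : (Cfsg.fittingSubgroup H).Normal := H3.fitting_normal H
  by_cases hCF : Subgroup.centralizer (Cfsg.fittingSubgroup H : Set H) = ⊤
  swap
  · haveI := ih _ inferInstance hCF
    haveI : IsCyclic (Cfsg.fittingSubgroup H) := Subgroup.isCyclic_of_le hFC
    haveI : Group.IsSolvable (MulAut (Cfsg.fittingSubgroup H)) := Group.isSolvable_of_comm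
      fun a b => (IsCyclic.mulAutMulEquiv _).injective (by rw [map_mul, map_mul, mul_comm])
    refine Group.isSolvable_of_ker_le_range
      (Subgroup.centralizer (Cfsg.fittingSubgroup H : Set H)).subtype
      (MulAut.conjNormal (H := Cfsg.fittingSubgroup H)) ?_
    intro g hg
    refine ⟨⟨g, Subgroup.mem_centralizer_iff.2 fun x hx => ?_⟩, rfl⟩
    have := congrArg (fun φ : MulAut (Cfsg.fittingSubgroup H) => ((φ ⟨x, hx⟩ : _) : H))
      (MonoidHom.mem_ker.1 hg)
    simp only [MulAut.conjNormal_apply, MulAut.one_apply] at this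
    exact (mul_inv_eq_iff_eq_mul.1 this).symm
  have hcoatom : IsCoatom (stabilizer H T) := by
    rw [Sylow.stabilizer_eq_normalizer]
    refine ⟨fun e => h.not_mem_normalizer hlR T (e ▸ Subgroup.mem_top _), fun P hP => ?_⟩
    by_contra hPne
    obtain ⟨y, hyP, hy⟩ : ∃ y ∈ P, RP y := by
      by_contra hne
      push Not at hne
      exact hP.not_ge (le_normalizer_of_no_RP hne T (Subgroup.le_normalizer.trans hP.le))
    have hyM : y ∈ P.normalCore := by
      intro g
      obtain ⟨w, hw, hTw⟩ := h.exists_fixed T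
      obtain ⟨c, hc, b, hb, e⟩ := H93.exists_mul_of_coprime_index _ _ (h.cop y hy w).symm g⁻¹
      have hbP : b ∈ P := hP.le (h.stab_le hw hTw hb)
      have e2 : g * y * g⁻¹ = b⁻¹ * y * b := by
        have hcy : c⁻¹ * y * c = y := by rw [mul_assoc, ← (mem_C.1 hc).eq]; group
        rw [← inv_inv g, e]
        calc (c * b)⁻¹ * y * (c * b)⁻¹⁻¹ = b⁻¹ * (c⁻¹ * y * c) * b := by group
          _ = _ := by rw [hcy]
      rw [e2]
      exact P.mul_mem (P.mul_mem (P.inv_mem hbP) hyP) hbP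
    have hMs := ih P.normalCore inferInstance fun e => hPne (eq_top_iff.2 (e ▸ P.normalCore_le))
    have hyF := H3.le_fitting_of_isSolvable_of_le_centralizer hMs (hCF ▸ le_top) hyM
    obtain ⟨s, hs⟩ := isConj_iff.1 hy.2.2
    have := Subgroup.mem_centralizer_iff.1 (hCF ▸ Subgroup.mem_top s) y hyF
    rw [← this, mul_inv_cancel_right] at hs
    exact hy.ne_inv hs
  haveI : Nontrivial (Sylow 2 H) := Finite.one_lt_card_iff_nontrivial.1 (by rw [hn]; nlinarith)
  haveI : IsPreprimitive H (Sylow 2 H) := (isCoatom_stabilizer_iff_preprimitive H T).1 hcoatom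
  rcases two_trans_or_solvable (Ω := Sylow 2 H) (Ce[l]) (h.trans hlR) with h3 | h3
  · exact (h.not_two_trans ht hf2 hν1 hW hQ hn hQt hν hf h3).elim
  · haveI := isSolvable_normalizer T
    refine Group.isSolvable_of_ker_le_range
      (Subgroup.normalizer ((T : Subgroup H) : Set H)).subtype
      (toPermHom H (Sylow 2 H)).rangeRestrict ?_
    intro g hg
    refine ⟨⟨g, Sylow.smul_eq_iff_mem_normalizer.1 ?_⟩, rfl⟩
    exact congrArg (fun φ : (toPermHom H (Sylow 2 H)).range => (φ : Equiv.Perm (Sylow 2 H)) T)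
      (MonoidHom.mem_ker.1 hg)

end Hyp

universe u

theorem isSolvable_aux {W : Type*} [Group W] [Finite W] (n : ℕ) :
    ∀ (H : Type u) [Group H] [Finite H] [MulDistribMulAction H W], Nat.card H = n → Hyp H W →
      Group.IsSolvable H := by
  induction n using Nat.strong_induction_on with
  | _ n ih =>
    intro H _ _ _ hn h
    exact h.step fun L hL hne => ih _ (hn ▸ card_subgroup_lt hne) L rfl (h.normal L)

/-- The main solvability theorem. -/
theorem Hyp.isSolvable (h : Hyp H W) : Group.IsSolvable H := isSolvable_aux _ H rfl h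

end Cfsg.Agent.H1.RealMod
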