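import Mathlib
import Cfsg.Agent.H83.Syl
import Cfsg.Agent.H96.NormalCrit
import Cfsg.Agent.H98.Transport

/-!
# Fusion systems over the Sylow subgroup of `Sp₄(q)`: definitions and interfaces

See `stubs/notes/h1_sp4.md`.
-/

set_option autoImplicit false

namespace Cfsg.Agent.H1.SP

open Subgroup H83 H97
open scoped commutatorElement

universe u v

section general
variable {G : Type*} [Group G]

/-- what is used of an essential subgroup `P` with automizer `Γ` -/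
structure Lc (p : ℕ) (P : Subgroup G) (Γ : Subgroup (MulAut P)) : Prop where
  ne : P ≠ ⊤
  cent : centralizer (P : Set G) ≤ P
  syl : IsSylowIn p (autInducedBy ⊤ P) Γ
  rad : ∀ M ≤ Γ, Γ ≤ normalizer (M : Set (MulAut P)) → IsPGroup p M → M ≤ Inn P

/-- `R` is invariant under `Γ` -/
def Iv {P : Subgroup G} (Γ : Subgroup (MulAut P)) (R : Subgroup G) : Prop :=
  ∀ α ∈ Γ, ∀ r ∈ R, ext α r ∈ R

/-- `α` normalizes the automorphisms induced by `G` -/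
def Nm {P : Subgroup G} (α : MulAut P) : Prop :=
  ∀ s : G, ∃ s' : G, ∀ x ∈ P, ext α (s * x * s⁻¹) = s' * ext α x * s'⁻¹

/-- congruence modulo `N` -/
def Cg (N : Subgroup G) (a b : G) : Prop := a⁻¹ * b ∈ N

/-- L1: a homomorphism from `C` to a `p`-group which kills a Sylow subgroup is trivial -/
theorem hom_triv [Finite G] {p : ℕ} [Fact p.Prime] {X H C : Subgroup G} (hX : IsSylowIn p X H)
    (hC : C ≤ H) (hXC : X ≤ C) {B : Type*} [Group B] (hB : IsPGroup p B) (φ : C →* B)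
    (h : ∀ x : C, (x : G) ∈ X → φ x = 1) (x : C) : φ x = 1 := by
  obtain ⟨S, hS⟩ := (hX.mono hXC hC).exists_sylow
  have h1 : (S : Subgroup C) ≤ φ.ker := fun y hy => h y (by rw [hS] at hy; exact hy)
  have h2 : ¬ p ∣ φ.ker.index := fun d => S.not_dvd_index (d.trans (index_dvd_of_le h1))
  have : Finite φ.range := Finite.of_surjective _ φ.rangeRestrict_surjective
  obtain ⟨k, hk⟩ := IsPGroup.iff_card.1 (hB.to_subgroup φ.range)
  rw [index_ker, hk] at h2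
  have : φ.range = ⊥ := by
    rw [← card_eq_one, hk]
    cases k with
    | zero => rfl
    | succ k => exact absurd (dvd_pow_self p k.succ_ne_zero) h2
  exact mem_bot.1 (this ▸ (⟨x, rfl⟩ : φ x ∈ φ.range))

variable {K : Type*} [Field K]

/-- `P / N` looks like the natural `SL₂(K)`-module for the elements `x c` -/
structure SpI (P N : Subgroup G) (τ : G → K) (z x : K → G) : Prop where
  le : N ≤ P
  cen : ∀ s ∈ normalizer (P : Set G), ∀ n ∈ N, s * n = n * s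
  comm : ∀ a ∈ P, ∀ b ∈ P, ⁅a, b⁆ ∈ N
  tmul : ∀ a ∈ P, ∀ b ∈ P, τ (a * b) = τ a + τ b
  zmem : ∀ k, z k ∈ P
  zmul : ∀ k l, Cg N (z (k + l)) (z k * z l)
  zinj : ∀ k, z k ∈ N → k = 0
  ker : ∀ a ∈ P, τ a = 0 ↔ ∃ k, Cg N (z k) a
  xn : ∀ c, x c ∈ normalizer (P : Set G)
  act : ∀ c, ∀ a ∈ P, Cg N (a * z (c * τ a)) (x c * a * (x c)⁻¹)
  fix : ∀ s ∈ normalizer (P : Set G), ∀ k, Cg N (z k) (s * z k * s⁻¹)

/-- `α ∈ Γ` fixes `N` and acts on `P / N` as the matrix `(a b; c d)` -/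
def Mt {P : Subgroup G} (Γ : Subgroup (MulAut P)) (N : Subgroup G) (σ z : K → G) (a b c d : K) :
    Prop := ∃ α ∈ Γ, (∀ n ∈ N, ext α n = n) ∧
  ∀ t k, Cg N (σ (a * t + b * k) * z (c * t + d * k)) (ext α (σ t * z k))

/-- the conclusion of the `SL₂` lemma -/
structure SpO {P : Subgroup G} (Γ : Subgroup (MulAut P)) (N : Subgroup G) (τ : G → K)
    (z σ : K → G) : Prop where
  mem : ∀ t, σ t ∈ P
  mul : ∀ t s, Cg N (σ (t + s)) (σ t * σ s)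
  sec : ∀ t, τ (σ t) = t
  mat : ∀ a b c d : K, a * d - b * c = 1 → Mt Γ N σ z a b c d
  cls : ∀ γ ∈ Γ, (∀ k, τ (ext γ (z k)) = 0) ∨
    ∃ c, ∀ k, ∃ t, Cg N (σ t * z (c * t)) (ext γ (z k))

end general

/-- coordinates of the unipotent group of `Sp₄` -/
@[ext] structure U (K : Type u) where
  t : K
  u : K
  v : K
  w : K

section coords
variable {K : Type u} [Field K]

instance : Mul (U K) := ⟨fun x y => ⟨x.t + y.t, x.u + y.u, x.v + y.v + x.t * y.u,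
  x.w + y.w + 2 * x.t * y.v + x.t ^ 2 * y.u⟩⟩
instance : One (U K) := ⟨⟨0, 0, 0, 0⟩⟩
instance : Inv (U K) :=
  ⟨fun x => ⟨-x.t, -x.u, -x.v + x.t * x.u, -x.w + 2 * x.t * x.v - x.t ^ 2 * x.u⟩⟩

@[simp] theorem mul_t (x y : U K) : (x * y).t = x.t + y.t := rfl
@[simp] theorem mul_u (x y : U K) : (x * y).u = x.u + y.u := rfl
@[simp] theorem mul_v (x y : U K) : (x * y).v = x.v + y.v + x.t * y.u := rfl
@[simp] theorem mul_w (x y : U K) :
    (x * y).w = x.w + y.w + 2 * x.t * y.v + x.t ^ 2 * y.u := rfl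
@[simp] theorem one_t : (1 : U K).t = 0 := rfl
@[simp] theorem one_u : (1 : U K).u = 0 := rfl
@[simp] theorem one_v : (1 : U K).v = 0 := rfl
@[simp] theorem one_w : (1 : U K).w = 0 := rfl
@[simp] theorem inv_t (x : U K) : x⁻¹.t = -x.t := rfl
@[simp] theorem inv_u (x : U K) : x⁻¹.u = -x.u := rfl
@[simp] theorem inv_v (x : U K) : x⁻¹.v = -x.v + x.t * x.u := rfl
@[simp] theorem inv_w (x : U K) : x⁻¹.w = -x.w + 2 * x.t * x.v - x.t ^ 2 * x.u := rfl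

instance : Group (U K) := Group.ofLeftAxioms
  (fun x y z => by ext <;> simp <;> ring) (fun x => by ext <;> simp)
  fun x => by ext <;> simp <;> ring

instance [Finite K] : Finite (U K) :=
  Finite.of_injective (fun x : U K => (x.t, x.u, x.v, x.w)) fun x y e => by
    simp only [Prod.mk.injEq] at e; exact U.ext e.1 e.2.1 e.2.2.1 e.2.2.2

@[simp] theorem comm_t (x y : U K) : ⁅x, y⁆.t = 0 := by simp [commutatorElement_def]
@[simp] theorem comm_u (x y : U K) : ⁅x, y⁆.u = 0 := by simp [commutatorElement_def]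
@[simp] theorem comm_v (x y : U K) : ⁅x, y⁆.v = x.t * y.u - y.t * x.u := by
  simp [commutatorElement_def]; ring
@[simp] theorem comm_w (x y : U K) : ⁅x, y⁆.w =
    2 * (x.t * y.v - y.t * x.v) + x.t ^ 2 * y.u - y.t ^ 2 * x.u := by
  simp [commutatorElement_def]; ring

variable (K)
/-- the abelian subgroup `t = 0` -/
def A : Subgroup (U K) where
  carrier := {g | g.t = 0}
  one_mem' := rfl
  mul_mem' {a b} (h : a.t = 0) (k : b.t = 0) := by simp [h, k]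
  inv_mem' {a} (h : a.t = 0) := by simp [h]
variable {K} in
/-- the subgroups `u = l t` -/
def Q (l : K) : Subgroup (U K) where
  carrier := {g | g.u = l * g.t}
  one_mem' := by simp
  mul_mem' {a b} (h : a.u = _) (k : b.u = _) := by simp [h, k, mul_add]
  inv_mem' {a} (h : a.u = _) := by simp [h]
/-- `t = u = 0` -/
def Y : Subgroup (U K) where
  carrier := {g | g.t = 0 ∧ g.u = 0}
  one_mem' := ⟨rfl, rfl⟩
  mul_mem' h k := by simp [h.1, h.2, k.1, k.2]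
  inv_mem' h := by simp [h.1, h.2]
/-- the `w`-axis -/
def Z : Subgroup (U K) where
  carrier := {g | g.t = 0 ∧ g.u = 0 ∧ g.v = 0}
  one_mem' := ⟨rfl, rfl, rfl⟩
  mul_mem' h k := by simp [h.1, h.2.1, h.2.2, k.1, k.2.1, k.2.2]
  inv_mem' h := by simp [h.1, h.2.1, h.2.2]
/-- the `v`-axis -/
def Z' : Subgroup (U K) where
  carrier := {g | g.t = 0 ∧ g.u = 0 ∧ g.w = 0}
  one_mem' := ⟨rfl, rfl, rfl⟩
  mul_mem' h k := by simp [h.1, h.2.1, h.2.2, k.1, k.2.1, k.2.2]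
  inv_mem' h := by simp [h.1, h.2.1, h.2.2]
variable {K}
theorem mem_A {g : U K} : g ∈ A K ↔ g.t = 0 := Iff.rfl
theorem mem_Q {l : K} {g : U K} : g ∈ Q l ↔ g.u = l * g.t := Iff.rfl
theorem mem_B {g : U K} : g ∈ Q (0 : K) ↔ g.u = 0 := by rw [mem_Q, zero_mul]
theorem mem_Y {g : U K} : g ∈ Y K ↔ g.t = 0 ∧ g.u = 0 := Iff.rfl
theorem mem_Z {g : U K} : g ∈ Z K ↔ g.t = 0 ∧ g.u = 0 ∧ g.v = 0 := Iff.rfl
theorem mem_Z' {g : U K} : g ∈ Z' K ↔ g.t = 0 ∧ g.u = 0 ∧ g.w = 0 := Iff.rfl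

/-- diagonal automorphisms -/
def tor (a b : Kˣ) : MulAut (U K) where
  toFun g := ⟨a * g.t, b * g.u, a * b * g.v, a ^ 2 * b * g.w⟩
  invFun g := ⟨a⁻¹ * g.t, b⁻¹ * g.u, (a * b)⁻¹ * g.v, (a ^ 2 * b)⁻¹ * g.w⟩
  left_inv g := by ext <;> simp <;> field_simp
  right_inv g := by ext <;> simp <;> field_simp
  map_mul' g h := by ext <;> simp <;> ring
theorem tor_apply (a b : Kˣ) (g : U K) :
    tor a b g = ⟨a * g.t, b * g.u, a * b * g.v, a ^ 2 * b * g.w⟩ := rfl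

/-- `U K / Z K` as unitriangular matrices -/
def th : U K →* GL (Fin 3) K := MonoidHom.mk' (fun g =>
    ⟨!![1, g.t, g.v; 0, 1, g.u; 0, 0, 1], !![1, -g.t, -g.v + g.t * g.u; 0, 1, -g.u; 0, 0, 1],
      by ext i j; fin_cases i <;> fin_cases j <;> simp [Matrix.mul_apply, Fin.sum_univ_three],
      by ext i j; fin_cases i <;> fin_cases j <;> simp [Matrix.mul_apply, Fin.sum_univ_three]; ring⟩)
  fun g h => Units.ext (by
    ext i j; fin_cases i <;> fin_cases j <;> simp [Matrix.mul_apply, Fin.sum_univ_three] <;> ring)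
theorem th_val (g : U K) : (th g : Matrix (Fin 3) (Fin 3) K) = !![1, g.t, g.v; 0, 1, g.u; 0, 0, 1] :=
  rfl

/-- `f` is induced modulo `Z K` by the matrix `g`, and acts on `Z K` as `(det g)⁻¹` -/
def Ind (P : Subgroup (U K)) (f : U K → U K) (g : GL (Fin 3) K) : Prop :=
  (∀ x ∈ P, th (f x) = g * th x * g⁻¹) ∧ ∀ x ∈ P, x ∈ Z K →
    f x = ⟨0, 0, 0, ((Matrix.GeneralLinearGroup.det g)⁻¹ : Kˣ) * x.w⟩

/-! ### the cubic module -/

/-- additive automorphisms of `K³`, as a multiplicative group -/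
abbrev Au (K : Type u) [Field K] : Type u := (K × K × K) ≃ₗ[ℤ] (K × K × K)

/-- the action of `x(t)` on `A` -/
def xa : Multiplicative K →* Au K := MonoidHom.mk' (fun t => AddEquiv.toIntLinearEquiv
    { toFun a := (a.1, a.2.1 + t.toAdd * a.1, a.2.2 + 2 * t.toAdd * a.2.1 + t.toAdd ^ 2 * a.1)
      invFun a := (a.1, a.2.1 - t.toAdd * a.1, a.2.2 - 2 * t.toAdd * a.2.1 + t.toAdd ^ 2 * a.1)
      left_inv a := by ext <;> simp; ring
      right_inv a := by ext <;> simp; ring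
      map_add' a b := by ext <;> simp <;> ring })
  fun s t => LinearEquiv.ext fun a => by ext <;> simp <;> ring
theorem xa_apply (t : K) (a : K × K × K) :
    xa (.ofAdd t) a = (a.1, a.2.1 + t * a.1, a.2.2 + 2 * t * a.2.1 + t ^ 2 * a.1) := rfl

/-- the torus -/
def da : Kˣ →* Au K := MonoidHom.mk' (fun c => AddEquiv.toIntLinearEquiv
    { toFun a := (c ^ 2 * a.1, c * a.2.1, a.2.2)
      invFun a := ((c ^ 2)⁻¹ * a.1, c⁻¹ * a.2.1, a.2.2)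
      left_inv a := by ext <;> simp
      right_inv a := by ext <;> simp
      map_add' a b := by ext <;> simp <;> ring })
  fun s t => LinearEquiv.ext fun a => by ext <;> simp <;> ring
theorem da_apply (c : Kˣ) (a : K × K × K) : da c a = (c ^ 2 * a.1, c * a.2.1, a.2.2) := rfl

variable (K) in
/-- the group of the `x(t)` -/
def XA : Subgroup (Au K) := (xa (K := K)).range

/-- `g` normalizes the conjugate of `XA` under `h` -/
def Nx (g h : Au K) : Prop := h⁻¹ * g * h ∈ normalizer (XA K : Set (Au K))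

/-- a minimal configuration -/
structure Cb (p : ℕ) (Γ : Subgroup (Au K)) (W : AddSubgroup K) : Prop where
  syl : IsSylowIn p (XA K) Γ
  tor : ∀ c, da c ∈ Γ
  ne : W ≠ ⊥
  fix : ∀ g ∈ Γ, ∀ w ∈ W, g (0, 0, w) = (0, 0, w)
  unif : ∀ g ∈ Γ, g ∉ normalizer (XA K : Set (Au K)) →
    ∀ w w', g (0, 0, w) = (0, 0, w') → w ∈ W
  nn : ¬ Γ ≤ normalizer (XA K : Set (Au K))

/-- the geometric facts on a minimal configuration -/
structure CbF (Γ : Subgroup (Au K)) (W : AddSubgroup K) : Prop where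
  top : W ≠ ⊤
  f3 : ∀ g ∈ Γ, g ∉ normalizer (XA K : Set (Au K)) →
    ∀ w, (g (0, 0, w)).1 = 0 → w ∈ W
  f4 : ∀ g ∈ normalizer (XA K : Set (Au K)), ∃ (σ : RingAut K) (a b : Kˣ),
    (∀ t, g * xa (.ofAdd t) * g⁻¹ = xa (.ofAdd (a * σ t))) ∧
    (∀ w, g (0, 0, w) = (0, 0, a * b * σ w)) ∧
    (∀ v w, (g (0, v, w)).1 = 0 ∧ (g (0, v, w)).2.1 = b * σ v) ∧ ∀ x, (g x).1 = b / a * σ x.1
  f5 : ∀ g ∈ Γ, (∀ w, g (0, 0, w) = (0, 0, w)) → (∀ v w, (g (0, v, w)).2.1 = v) →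
    (∀ x, (g x).1 = x.1) → g ∈ XA K
  f6 : ∀ g ∈ Γ, g ∉ normalizer (XA K : Set (Au K)) → Nx (da (-1)) g →
    ∃ t, Commute (da (-1)) (g * xa (.ofAdd t))
  f7 : ∀ g ∈ Γ, g ∉ normalizer (XA K : Set (Au K)) →
    ∃ t, Nx (da (-1)) (xa (.ofAdd t) * g)
  f9 : ∀ g ∈ Γ, ∀ t ≠ 0, Nx (xa (.ofAdd t)) g → g ∈ normalizer (XA K : Set (Au K))

/-! ### characteristic two -/

/-- normal form of a system in which both `A` and `B = Q 0` are essential -/
structure Std (F : FusionSystem (⊤ : Subgroup (U K))) : Prop where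
  sat : F.IsSaturated 2
  nrm : F.IsNormal (Z K)
  lcA : Lc 2 (A K) (F.autGroup (A K))
  lcB : Lc 2 (Q (0 : K)) (F.autGroup (Q (0 : K)))
  mA : ∀ a b c d : K, a * d - b * c = 1 → ∃ α ∈ F.autGroup (A K), (∀ g ∈ Z K, ext α g = g) ∧
    ∀ g ∈ A K, (ext α g).u = a * g.u + b * g.v ∧ (ext α g).v = c * g.u + d * g.v
  mB : ∀ a b c d : K, a * d - b * c = 1 → ∃ α ∈ F.autGroup (Q (0 : K)), (∀ g ∈ Z K, ext α g = g) ∧
    ∀ g ∈ Q (0 : K), (ext α g).t = a * g.t + b * g.v ∧ (ext α g).v = c * g.t + d * g.v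
  cA : ∀ γ ∈ F.autGroup (A K), (∀ g ∈ Y K, ext γ g ∈ Y K) ∨
    ∃ c, ∀ g ∈ Y K, (ext γ g).v = c * (ext γ g).u
  cB : ∀ γ ∈ F.autGroup (Q (0 : K)), (∀ g ∈ Y K, ext γ g ∈ Y K) ∨
    ∃ c, ∀ g ∈ Y K, (ext γ g).v = c * (ext γ g).t

/-- the automizer of the whole group -/
structure Top (F : FusionSystem (⊤ : Subgroup (U K))) (Δ : Subgroup Kˣ) : Prop where
  of : ∀ β : MulAut (U K), Mor F ⊤ β → ∃ (s : U K) (a b : Kˣ), a ^ 2 * b ∈ Δ ∧
    (∀ g, Cg (Z K) (β g) (s * tor a b g * s⁻¹)) ∧ ∀ g ∈ Z K, β g = tor a b g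
  ex : ∀ a b : Kˣ, a ^ 2 * b ∈ Δ → ∃ β : MulAut (U K), Mor F ⊤ β ∧
    (∀ g, Cg (Z K) (β g) (tor a b g)) ∧ ∀ g ∈ Z K, β g = tor a b g

end coords

/-! ### The pieces -/

/-- SYL -/
def SylStmt : Prop := ∀ (K : Type u) [Field K] [Fintype K] (p : ℕ) [Fact p.Prime] [CharP K p],
  IsPGroup p (U K) ∧ ∀ T : Sylow p (Matrix.symplecticGroup (Fin 2) K),
    Nonempty (U K ≃* (T : Subgroup (Matrix.symplecticGroup (Fin 2) K)))

/-- SPR: the `SL₂` lemma -/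
def SprStmt : Prop := ∀ (G K : Type u) [Group G] [Finite G] [Field K] [Finite K] (p : ℕ)
  [Fact p.Prime] [CharP K p] (P N : Subgroup G) (Γ : Subgroup (MulAut P)) (τ : G → K)
  (z x : K → G), SpI P N τ z x → IsSylowIn p (autInducedBy ⊤ P) Γ → Iv Γ N →
  (∃ γ ∈ Γ, ∃ k, τ (ext γ (z k)) ≠ 0) → ∃ σ, SpO Γ N τ z σ

/-- OE: the essential subgroups, `p` odd -/
def OeStmt : Prop := ∀ (K : Type u) [Field K] [Finite K] (p : ℕ) [Fact p.Prime] [CharP K p],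
  p ≠ 2 → ∀ (P : Subgroup (U K)) (Γ : Subgroup (MulAut P)), Lc p P Γ →
  ∀ R : Subgroup (U K), R.Normal → R ≠ ⊥ → R ≤ P → Iv Γ R → P = A K ∨ ∃ l, P = Q l

/-- OQ: the automizer of `Q l`, `p` odd -/
def OqStmt : Prop := ∀ (K : Type u) [Field K] [Finite K] (p : ℕ) [Fact p.Prime] [CharP K p],
  p ≠ 2 → ∀ (l : K) (Γ : Subgroup (MulAut (Q l))), Lc p (Q l) Γ →
  (∀ c : Kˣ, ∃ α ∈ Γ, Nm α ∧ (∀ g ∈ Z K, ext α g = g) ∧
    (∀ g ∈ Y K, ext α g ∈ Y K ∧ (ext α g).v = c * g.v) ∧ ∀ g ∈ Q l, (ext α g).t = c⁻¹ * g.t) ∧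
  ∀ R : Subgroup (U K), R.Normal → R ≤ Q l → Iv Γ R → R ≤ Z K ∨ R = Q l

/-- CB1 -/
def Cb1Stmt : Prop := ∀ (K : Type u) [Field K] [Finite K] (p : ℕ) [Fact p.Prime] [CharP K p],
  p ≠ 2 → ∀ (Γ : Subgroup (Au K)) (W : AddSubgroup K), Cb p Γ W → CbF Γ W

/-- CB2 -/
def Cb2Stmt : Prop := ∀ (K : Type u) [Field K] [Finite K] (p : ℕ) [Fact p.Prime] [CharP K p],
  p ≠ 2 → ∀ (Γ : Subgroup (Au K)) (W : AddSubgroup K), Cb p Γ W → CbF Γ W → False

/-- CUB: a group on the cubic module with a fixed vector -/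
def CubStmt : Prop := ∀ (K : Type u) [Field K] [Finite K] (p : ℕ) [Fact p.Prime] [CharP K p],
  p ≠ 2 → ∀ Γ : Subgroup (Au K), IsSylowIn p (XA K) Γ →
  (∀ c : Kˣ, ∃ d ∈ Γ, (∀ w, d (0, 0, w) = (0, 0, w)) ∧
    (∀ v w, (d (0, v, w)).1 = 0 ∧ (d (0, v, w)).2.1 = c * v) ∧ ∀ a, (d a).1 = c ^ 2 * a.1) →
  (∃ w ≠ 0, ∀ g ∈ Γ, g (0, 0, w) = (0, 0, w)) → Γ ≤ normalizer (XA K : Set (Au K))

/-- OM: `p` odd -/
def OmStmt : Prop := ∀ (K : Type u) [Field K] [Finite K] (p : ℕ) [Fact p.Prime] [CharP K p],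
  p ≠ 2 → ∀ F : FusionSystem (⊤ : Subgroup (U K)), F.IsSaturated p → F.core ≠ ⊥ →
  ∃ N, F.IsNormal N ∧ F.IsCentric N

/-- EE: the essential subgroups and the fixed axis, `p = 2` -/
def EeStmt : Prop := ∀ (K : Type u) [Field K] [Finite K] [CharP K 2] (P : Subgroup (U K))
  (Γ : Subgroup (MulAut P)), Lc 2 P Γ → (P = A K ∨ P = Q 0) ∧
  ∀ R : Subgroup (U K), R ≠ ⊥ → R ≤ Y K → Iv Γ R →
    (R ≤ Z K ∧ Iv Γ (Z K)) ∨ (R ≤ Z' K ∧ Iv Γ (Z' K))

/-- ES: normal form -/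
def EsStmt : Prop := ∀ (K : Type u) [Field K] [Finite K] [CharP K 2]
  (F : FusionSystem (⊤ : Subgroup (U K))), F.IsSaturated 2 → F.core ≠ ⊥ →
  F.IsEssential 2 (A K) → F.IsEssential 2 (Q 0) →
  ∃ F' : FusionSystem (⊤ : Subgroup (U K)), Std F' ∧ (F'.IsRealizable 2 → F.IsRealizable 2)

/-- ET: the field has two or four elements; the automizer of the whole group -/
def EtStmt : Prop := ∀ (K : Type u) [Field K] [Finite K] [CharP K 2]
  (F : FusionSystem (⊤ : Subgroup (U K))), Std F → (∀ c : Kˣ, c ^ 3 = 1) ∧ ∃ Δ, Top F Δ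

/-- H1: every map of the system is induced by a matrix -/
def H1Stmt : Prop := ∀ (K : Type u) [Field K] [Finite K] [CharP K 2]
  (F : FusionSystem (⊤ : Subgroup (U K))) (Δ : Subgroup Kˣ), Std F → (∀ c : Kˣ, c ^ 3 = 1) →
  Top F Δ → ∀ P f, Mor F P f → ∃ g, Matrix.GeneralLinearGroup.det g ∈ Δ ∧ Ind P f g

/-- H2: every matrix induces a map of the system -/
def H2Stmt : Prop := ∀ (K : Type u) [Field K] [Finite K] [CharP K 2]
  (F : FusionSystem (⊤ : Subgroup (U K))) (Δ : Subgroup Kˣ), Std F → (∀ c : Kˣ, c ^ 3 = 1) →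
  Top F Δ → ∀ (P : Subgroup (U K)) (g : GL (Fin 3) K), Matrix.GeneralLinearGroup.det g ∈ Δ →
  Z K ≤ P → (∀ x ∈ P, g * th x * g⁻¹ ∈ (th (K := K)).range) → ∃ f, Mor F P f ∧ Ind P f g

/-- TX: twisted extension of a Sylow subgroup -/
def TxStmt : Prop := ∀ (S L : Type u) [Group S] [Finite S] [Group L] [Finite L] (p : ℕ)
  [Fact p.Prime], IsPGroup p S → ∀ θ : S →* L, θ.ker ≤ center S → ¬ p ∣ θ.range.index →
  ∀ ρ : L →* MulAut θ.ker, (∀ s, ρ (θ s) = 1) →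
  (∀ g : L, ∃ φ : S → S, (∀ a : θ.ker, φ a = ρ g a) ∧ ∀ s, g * θ s * g⁻¹ ∈ θ.range →
    θ (φ s) = g * θ s * g⁻¹ ∧ ∀ t, g * θ t * g⁻¹ ∈ θ.range → φ (s * t) = φ s * φ t) →
  ∃ (G : Type u) (_ : Group G) (_ : Finite G) (π : G →* L) (ι : S →* G),
    Function.Surjective π ∧ Function.Injective ι ∧ (∀ s, π (ι s) = θ s) ∧
    π.ker = θ.ker.map ι ∧ ∀ (g : G) (a : θ.ker), g * ι a * g⁻¹ = ι (ρ (π g) a)

/-- UQ: uniqueness of central extensions, up to a central automorphism -/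
def UqStmt : Prop := ∀ (S G : Type u) [Group S] [Finite S] [Group G] [Finite G] (p : ℕ)
  [Fact p.Prime] (F : FusionSystem (⊤ : Subgroup S)), F.IsSaturated p → ∀ N : Subgroup S,
  F.IsCentral N → ∀ ι : S →* G, Function.Injective ι → IsSylowIn p ι.range ⊤ →
  N.map ι ≤ center G →
  (∀ P f, N ≤ P → Mor F P f → ∃ g, ∀ x ∈ P, ι (f x) * (g * ι x * g⁻¹)⁻¹ ∈ N.map ι) →
  (∀ (P : Subgroup S) (g : G), N ≤ P → (∀ x ∈ P, g * ι x * g⁻¹ ∈ ι.range) →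
    ∃ f, Mor F P f ∧ ∀ x ∈ P, ι (f x) * (g * ι x * g⁻¹)⁻¹ ∈ N.map ι) →
  ∃ γ : MulAut S, (∀ x, x⁻¹ * γ x ∈ N) ∧ (∀ a ∈ N, γ a = a) ∧
    ∀ P f, Mor F P f ↔ ∃ g, ∀ x ∈ P, ι (γ (f x)) = g * ι (γ x) * g⁻¹

/-- RG: rigidity -/
def RgStmt : Prop := ∀ (K : Type u) [Field K] [Finite K] [CharP K 2]
  (F : FusionSystem (⊤ : Subgroup (U K))), Std F → ∀ γ : MulAut (U K),
  (∀ x, th (γ x) = th x) → (∀ a ∈ Z K, γ a = a) →
  (∀ P f, Z K ≤ P → Mor F P f → (∀ a ∈ Z K, f a = a) → Mor F P fun x => γ (f (γ⁻¹ x))) → γ = 1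

/-- TW: realizability from the quotient by a normal subgroup of the centre of `S` -/
def TwStmt : Prop := ∀ (S L : Type u) [Group S] [Finite S] [Group L] [Finite L] (p : ℕ)
  [Fact p.Prime], IsPGroup p S → ∀ F : FusionSystem (⊤ : Subgroup S), F.IsSaturated p →
  ∀ θ : S →* L, θ.ker ≤ center S → F.IsNormal θ.ker → ¬ p ∣ θ.range.index →
  ∀ ρ : L →* MulAut θ.ker, (∀ s, ρ (θ s) = 1) →
  (∀ P f, θ.ker ≤ P → Mor F P f →
    ∃ g, (∀ x ∈ P, θ (f x) = g * θ x * g⁻¹) ∧ ∀ a : θ.ker, f a = ρ g a) →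
  (∀ (P : Subgroup S) (g : L), θ.ker ≤ P → (∀ x ∈ P, g * θ x * g⁻¹ ∈ θ.range) →
    ∃ f, Mor F P f ∧ (∀ x ∈ P, θ (f x) = g * θ x * g⁻¹) ∧ ∀ a : θ.ker, f a = ρ g a) →
  (∀ γ : MulAut S, (∀ x, θ (γ x) = θ x) → (∀ a ∈ θ.ker, γ a = a) →
    (∀ P f, θ.ker ≤ P → Mor F P f → (∀ a ∈ θ.ker, f a = a) → Mor F P fun x => γ (f (γ⁻¹ x))) →
    Mor F ⊤ γ) → F.IsRealizable p

/-- EM: `p = 2`, standard form -/
def EmStmt : Prop := ∀ (K : Type u) [Field K] [Finite K] [CharP K 2]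
  (F : FusionSystem (⊤ : Subgroup (U K))), Std F → F.IsRealizable 2

end Cfsg.Agent.H1.SP
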