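import Cfsg.Agent.H1.SzOutD
import Cfsg.Agent.H59.KO

/-!
# Project S95: the outer involutions of the sporadic Suzuki group
-/

set_option autoImplicit false
set_option maxRecDepth 200000

namespace Cfsg.Agent.H1.SzOut

open Subgroup Cfsg.Agent.H44 Cfsg.Agent.H44.Ki Cfsg.Agent.H59 Cfsg.Agent.H46.S95
open Cfsg.Agent.H50.SzA
open Cfsg.Agent.H43 hiding allL allL_iff anyL anyL_iff
open Cfsg.Agent.H46.S95.Sz (Γ)
open scoped commutatorElement

theorem ET_le : grp 1782 ET ≤ H59.Sz.Γ := ET_lb.trans SuzM.lb_le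

/-- The model data. -/
noncomputable abbrev DD : MD := DA ET cd

/-- The letters as automorphisms. -/
noncomputable def m : ℕ → MulAut Γ := μE cd ET_le

/-- The letters as elements. -/
noncomputable def c : ℕ → Γ := γE cd ET_le

theorem okm : DD.Ok ι m := okA cd ET_ok ET_le

theorem m_ω : m 14 = ω := μE_om cd ET_le rfl

theorem m_c {x : ℕ} (h2 : x ≤ 13) : m x = MulAut.conj (c x) :=
  μE_conj cd ET_le ((by decide +kernel : ∀ x ≤ 13, nth 0 cd x / 2 ≠ 15) x h2)

theorem ev_m {l : List ℕ} (h : lettersIn 13 l = true) : ev m l = MulAut.conj (ev c l) :=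
  (ev_congr fun x hx => m_c (lettersIn_iff.1 h x hx).2).trans
    (map_ev MulAut.conj c l).symm

/-- The Sylow subgroup. -/
noncomputable def K : Subgroup (MulAut Γ) := gen m 14

open Classical in
/-- The letters in the Sylow subgroup. -/
noncomputable def n (x : ℕ) : K := if h : m x ∈ K then ⟨m x, h⟩ else 1

theorem n_coe {x : ℕ} (h1 : 1 ≤ x) (h2 : x ≤ 14) : (n x : MulAut Γ) = m x := by
  rw [n, dif_pos (show m x ∈ K from mem_gen m h1 h2)]

theorem ev_n {l : List ℕ} (h : lettersIn 14 l = true) : ((ev n l : K) : MulAut Γ) = ev m l :=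
  (map_ev K.subtype n l).trans
    (ev_congr fun x hx => let k := lettersIn_iff.1 h x hx; n_coe k.1 k.2)

/-- Equality of words in the Sylow subgroup. -/
noncomputable def qq (l r : List ℕ) : Bool := lettersIn 14 l && lettersIn 14 r && DD.eqW l r

theorem orq : Orc n qq := fun l r h => by
  simp only [qq, Bool.and_eq_true] at h
  exact Subtype.ext (by rw [ev_n h.1.1, ev_n h.1.2, okm.eq h.2])

theorem n_top : gen n 14 = ⊤ := eq_top_iff.2 fun x _ => by
  have : K ≤ (gen n 14).map K.subtype :=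
    gen_le.2 fun i h1 h2 => ⟨n i, mem_gen _ h1 h2, n_coe h1 h2⟩
  obtain ⟨y, hy, e⟩ := this x.2
  exact (Subtype.ext e : y = x) ▸ hy

theorem K_ge : 2 ^ 14 ≤ Nat.card K := by
  rw [K, gen_eq_wgen, okm.card_wgen]
  exact EP_ge.trans (card_le_of_le (grp_le_wgen' (List.range' 1 14) rfl (by decide +kernel)))

theorem pc : Pc n 14 :=
  Pc.of orq (W := WP) (allL_iff.1 (by decide +kernel)) (by rw [n_top, card_top]; exact K_ge)

theorem card_K : Nat.card K = 2 ^ 14 := by
  rw [← pc.card 14 le_rfl, n_top, card_top]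

theorem p_K : IsPGroup 2 K := .of_card card_K

theorem cov : Cov n RR 14 [] := Cov.of orq pc tr (by decide +kernel)

theorem leaf {y : MulAut Γ} (hy : y ∈ K) (e : y * y = 1) :
    ∃ r ∈ RR, ∃ k ∈ K, k * ev m r * k⁻¹ = y := by
  obtain ⟨r, hr, h⟩ := cov ⟨y, hy⟩ (n_top ▸ mem_top _) (Subtype.ext e)
  obtain ⟨k, h⟩ := isConj_iff.1 h
  refine ⟨r, hr, k, k.2, ?_⟩
  rw [← ev_n (List.all_eq_true.1 (by decide : RR.all (lettersIn 14) = true) r hr)]
  exact congrArg Subtype.val h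

theorem syl {S : Subgroup (MulAut Γ)} (hS : IsPGroup 2 S) : ∃ g, ∀ x ∈ S, g * x * g⁻¹ ∈ K := by
  have := Fact.mk Nat.prime_two
  have hi : ¬ 2 ∣ K.index := by
    have h := K.index_mul_card
    rw [card_K, card_aut] at h
    omega
  obtain ⟨Q, hQ⟩ := hS.exists_le_sylow
  obtain ⟨g, hg⟩ := MulAction.exists_smul_eq (MulAut Γ) Q (p_K.toSylow hi)
  refine ⟨g, fun x hx => ?_⟩
  have : MulAut.conj g • x ∈ ((g • Q : Sylow 2 (MulAut Γ)) : Subgroup (MulAut Γ)) :=
    smul_mem_pointwise_smul _ _ _ (hQ hx)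
  rwa [hg] at this

theorem cen {y : MulAut Γ} (hy : y ∈ K) (e : y * y = 1) (h : ∀ k ∈ K, k * y = y * k) :
    y = 1 ∨ y = m 1 := by
  obtain ⟨r, hr, k, hk, e⟩ := leaf hy e
  rw [mul_inv_eq_iff_eq_mul, ← h k hk, mul_right_inj] at e
  have := allL_iff.1 (by decide +kernel : allL (fun r => bO (r == []) (bO (r == [1])
    (anyL (fun j => DD.neW (j :: r) (r ++ [j])) (List.range' 1 14)))) RR = true) r hr
  simp only [bO_iff, beq_iff_eq, anyL_iff] at this
  rcases this with rfl | rfl | ⟨j, hj, k⟩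
  · exact .inl e.symm
  · exact .inr (e.symm.trans (ev_single m 1))
  · have hj := List.mem_range'_1.1 hj
    refine absurd ?_ (okm.ne k)
    rw [ev_cons, ev_append, ev_single, e]
    exact h _ (mem_gen m hj.1 (by omega))

/-- The facts needed about an outer involution. -/
def Gd (α : MulAut Γ) : Prop :=
  (∃ x y w, α x = x ∧ α y = y ∧ ⁅x, y⁆ ≠ 1 ∧ ⁅x, y⁆ * ⁅x, y⁆ = 1 ∧ α w = w * ⁅x, y⁆) ∧
    ∃ P : Subgroup Γ, (∀ x ∈ P, α x = x) ∧ IsPGroup 2 P ∧ 128 ≤ Nat.card P

theorem Gd.cj {α : MulAut Γ} (h : Gd α) (k : MulAut Γ) : Gd (k * α * k⁻¹) := by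
  obtain ⟨⟨x, y, w, h1, h2, h3, h4, h5⟩, P, p1, p2, p3⟩ := h
  refine ⟨⟨k x, k y, k w, by simp [h1], by simp [h2], ?_, ?_, ?_⟩, P.map k.toMonoidHom, ?_,
    p2.map _, by rwa [card_map_of_injective k.injective]⟩
  · rw [← map_commutatorElement]
    exact fun e => h3 (k.injective (e.trans (map_one k).symm))
  · rw [← map_commutatorElement, ← map_mul, h4, map_one]
  · rw [← map_commutatorElement, ← map_mul, ← h5]; simp
  · rintro _ ⟨z, hz, rfl⟩
    simp [p1 z hz]

theorem act {r l l' : List ℕ} (h : (lettersIn 13 l && lettersIn 13 l' &&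
    DD.eqW (r ++ l) (l' ++ r)) = true) : ev m r (ev c l) = ev c l' := by
  simp only [Bool.and_eq_true] at h
  rw [act_iff, ← ev_m h.1.1, ← ev_m h.1.2, ← ev_append, ← ev_append, okm.eq h.2]

theorem c_eq {l r : List ℕ} (h : (lettersIn 13 l && lettersIn 13 r && DD.eqW l r) = true) :
    ev c l = ev c r := by
  simp only [Bool.and_eq_true] at h
  exact conj_inj (by rw [← ev_m h.1.1, ← ev_m h.1.2, okm.eq h.2])

theorem c_sq : c 1 * c 1 = 1 := by
  simpa only [ev_cons, ev_nil, mul_one] using c_eq (l := [1, 1]) (r := []) (by decide +kernel)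

theorem c_ne : c 1 ≠ 1 := fun e => okm.ne (l := [1]) (r := []) (by decide +kernel) (by
  rw [ev_single, m_c (by decide), e, map_one, ev_nil])

theorem gd_of (r x y w : List ℕ) (C : List (List ℕ))
    (h1 : (lettersIn 13 x && lettersIn 13 x && DD.eqW (r ++ x) (x ++ r)) = true)
    (h2 : (lettersIn 13 y && lettersIn 13 y && DD.eqW (r ++ y) (y ++ r)) = true)
    (h3 : (lettersIn 13 (x ++ y) && lettersIn 13 (1 :: (y ++ x)) &&
      DD.eqW (x ++ y) (1 :: (y ++ x))) = true)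
    (h4 : (lettersIn 13 w && lettersIn 13 (w ++ [1]) && DD.eqW (r ++ w) (w ++ [1] ++ r)) = true)
    (h5 : allL (fun w => lettersIn 13 w && lettersIn 13 w && DD.eqW (r ++ w) (w ++ r)) C = true)
    (h6 : incB DD.key C 0 = true) (h7 : 128 ≤ C.length) : Gd (ev m r) := by
  have e : ⁅ev c x, ev c y⁆ = c 1 := by
    have := c_eq h3
    rw [ev_append, ev_cons, ev_append] at this
    rw [commutatorElement_def, this]; group
  have l : ∀ w ∈ C, lettersIn 13 w = true := fun w hw =>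
    (Bool.and_eq_true_iff.1 (Bool.and_eq_true_iff.1 (allL_iff.1 h5 w hw)).1).1
  refine ⟨⟨ev c x, ev c y, ev c w, act h1, act h2, e ▸ c_ne, e ▸ c_sq,
    by rw [act h4, e, ev_append, ev_single]⟩,
    K.comap MulAut.conj ⊓ (ev m r).toMonoidHom.eqLocus (MonoidHom.id Γ), fun _ h => h.2,
    (p_K.comap_of_injective _ conj_inj).to_le inf_le_left, h7.trans ?_⟩
  rw [← List.length_map (ev c)]
  refine length_le_card (List.Nodup.of_map MulAut.conj ?_) fun z hz => ?_
  · rw [List.map_map, ← List.map_congr_left (f := ev m) (g := MulAut.conj ∘ ev c)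
      fun w hw => ev_m (l w hw)]
    exact okm.nodup h6
  · obtain ⟨w, hw, rfl⟩ := List.mem_map.1 hz
    refine ⟨?_, act (allL_iff.1 h5 w hw)⟩
    change MulAut.conj (ev c w) ∈ K
    rw [← ev_m (l w hw)]
    exact gen_mono m (by decide) (ev_gen m (l w hw))

theorem gd1 : Gd (ev m [14]) := gd_of [14] [2] [9] [3] C1 (by decide +kernel) (by decide +kernel)
  (by decide +kernel) (by decide +kernel) (by decide +kernel) (by decide +kernel) (by decide +kernel)

theorem gd2 : Gd (ev m [14, 8]) := gd_of [14, 8] [2] [10, 9] [4] C2 (by decide +kernel)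
  (by decide +kernel) (by decide +kernel) (by decide +kernel) (by decide +kernel)
  (by decide +kernel) (by decide +kernel)

theorem gd_cj {r s : List ℕ} (j : ℕ) (h : Gd (ev m s)) (e : DD.eqW (j :: s) (r ++ [j]) = true) :
    Gd (ev m r) := by
  have := okm.eq e
  rw [ev_cons, ev_append, ev_single, ← mul_inv_eq_iff_eq_mul] at this
  exact this ▸ h.cj (m j)

theorem p_zp {α : MulAut Γ} (h : α * α = 1) : IsPGroup 2 (zpowers α) :=
  IsPGroup.of_card_dvd_pow (n := 1) (by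
    rw [Nat.card_zpowers, pow_one]; exact orderOf_dvd_of_pow_eq_one (by rw [sq, h]))

theorem gd {α : MulAut Γ} (h1 : α * α = 1) (h2 : ¬ H46.S95.Inn α) : Gd α := by
  obtain ⟨g, hg⟩ := syl (p_zp h1)
  obtain ⟨r, hr, k, -, e⟩ := leaf (hg α (mem_zpowers α)) (by rw [conj_mul, h1]; simp)
  have e' : α = g⁻¹ * k * ev m r * (g⁻¹ * k)⁻¹ := by
    rw [mul_inv_rev, mul_assoc g⁻¹, mul_assoc g⁻¹, ← mul_assoc _ k⁻¹, e]; group
  rw [e'] at h2 ⊢
  refine Gd.cj ?_ _
  rcases (by decide : ∀ r ∈ RR, lettersIn 13 r = true ∨ r = [14] ∨ r = [14, 8] ∨ r = [14, 9] ∨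
    r = [14, 12]) r hr with h | rfl | rfl | rfl | rfl
  · exact absurd (Inn.cj ⟨_, ev_m h⟩ _) h2
  · exact gd1
  · exact gd2
  · exact gd_cj 15 gd1 (by decide +kernel)
  · exact gd_cj 16 gd2 (by decide +kernel)

theorem outF : OutF Γ := fun α h1 h2 => by
  obtain ⟨⟨x, y, w, a1, a2, a3, a4, a5⟩, -⟩ := gd h1 h2
  refine ⟨zpowers ⁅x, y⁆, fun e he => ?_, .inr ⟨by rwa [Ne, zpowers_eq_bot],
    α.toMonoidHom.eqLocus (MonoidHom.id Γ), fun _ hx => hx,
    zpowers_le_of_mem (commutator_mem_commutator a1 a2)⟩⟩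
  rcases (H49.mem_zpowers_invol a4).1 he with rfl | rfl
  · exact ⟨one_mul 1, map_one α, 1, by simp⟩
  · exact ⟨a4, by rw [map_commutatorElement, a1, a2], w, by
      rw [a5, mul_inv_rev, inv_mul_cancel_right, inv_eq_of_mul_eq_one_right a4]⟩

theorem outM : OutM Γ 128 := fun _ h1 h2 => (gd h1 h2).2

theorem cent_le (r : List ℕ) (C : List (List ℕ × List ℕ))
    (h1 : allL (fun p => lettersIn 14 p.1 && DD.eqW (p.1 ++ r) (p.2 ++ p.1)) C = true)
    (h2 : incB DD.key (C.map Prod.snd) 0 = true) (h3 : 64 ≤ C.length) :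
    Nat.card ↥(K ⊓ centralizer {ev m r}) ≤ 256 := by
  classical
  have h := card_class K (ev m r)
  have h4 : C.length ≤ {a | ∃ k ∈ K, k * ev m r * k⁻¹ = a}.ncard := by
    rw [← List.length_map Prod.snd, ← List.length_map (ev m),
      ← List.toFinset_card_of_nodup (okm.nodup h2), ← Set.ncard_coe_finset]
    refine Set.ncard_le_ncard (fun a ha => ?_) (Set.toFinite _)
    obtain ⟨_, h5, rfl⟩ := List.mem_map.1 (List.mem_toFinset.1 ha)
    obtain ⟨p, hp, rfl⟩ := List.mem_map.1 h5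
    obtain ⟨h6, h7⟩ := Bool.and_eq_true_iff.1 (allL_iff.1 h1 p hp)
    have := okm.eq h7
    rw [ev_append, ev_append, ← mul_inv_eq_iff_eq_mul] at this
    exact ⟨_, ev_gen m h6, this⟩
  rw [card_K] at h
  nlinarith

theorem r2_sq : ev m [14, 8] * ev m [14, 8] = 1 := by
  rw [← ev_append]; exact okm.eq (r := []) (by decide +kernel)

theorem r2_out : ¬ H46.S95.Inn (ev m [14, 8]) := fun h => ω_out (by
  rw [ev_cons, ev_single, m_ω, m_c (by decide)] at h
  exact (Inn.conj _).of_mul_right h)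

theorem oiF : OiF Γ 128 := by
  refine ⟨_, r2_sq, r2_out, fun P p1 p2 => ?_⟩
  have hc : ∀ x ∈ P, ev m [14, 8] * MulAut.conj x = MulAut.conj x * ev m [14, 8] :=
    fun x hx => act_iff.1 (p1 x hx)
  obtain ⟨g, hg⟩ := syl (((p2.map MulAut.conj).to_sup_of_normal_left' (p_zp r2_sq))
    (zpowers_le_of_mem (mem_normalizer_fintype (by
      rintro _ ⟨t, ht, rfl⟩
      exact ⟨_, ht, by rw [hc t ht, mul_inv_cancel_right]⟩))))
  obtain ⟨r, hr, k, hk, e⟩ := leaf (hg _ (mem_sup_right (mem_zpowers _)))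
    (by rw [conj_mul, r2_sq]; simp)
  have e' : ev m r = k⁻¹ * g * ev m [14, 8] * (k⁻¹ * g)⁻¹ := by
    rw [mul_inv_rev, mul_assoc k⁻¹, mul_assoc k⁻¹, ← mul_assoc _ g⁻¹, ← e]; group
  have h1 : Nat.card ↥(K ⊓ centralizer {ev m r}) ≤ 256 := by
    have h2 := okm.fixW_eq Sz.h_hk (l := [14, 8]) (r := r)
      (ι.map_isConj (isConj_iff.2 ⟨_, e'.symm⟩))
    have := allL_iff.1 (by decide +kernel : allL (fun r => bO (r == [14, 8]) (bO (r == [14, 12])
      (bN (Nat.beq (DD.fixW 11 [14, 8]) (DD.fixW 11 r))))) RR = true) r hr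
    simp only [bO_iff, beq_iff_eq] at this
    rcases this with rfl | rfl | h
    · exact cent_le _ K2 (by decide +kernel) (by decide +kernel) (by decide +kernel)
    · exact cent_le _ K4 (by decide +kernel) (by decide +kernel) (by decide +kernel)
    · rw [h2, Nat.beq_refl] at h
      exact Bool.noConfusion h
  let φ : Γ →* MulAut Γ := (MulAut.conj (k⁻¹ * g)).toMonoidHom.comp MulAut.conj
  have hφ : Function.Injective φ := (MulAut.conj (k⁻¹ * g)).injective.comp conj_inj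
  have h3 : P.map φ ≤ K ⊓ centralizer {ev m r} := by
    rintro _ ⟨x, hx, rfl⟩
    refine ⟨?_, mem_centralizer_singleton_iff.2 ?_⟩
    · have := K.mul_mem (K.mul_mem (K.inv_mem hk) (hg _ (mem_sup_left (mem_map_of_mem _ hx)))) hk
      change k⁻¹ * g * MulAut.conj x * (k⁻¹ * g)⁻¹ ∈ K
      simpa only [mul_inv_rev, inv_inv, mul_assoc] using this
    · change k⁻¹ * g * MulAut.conj x * (k⁻¹ * g)⁻¹ * _ =
        _ * (k⁻¹ * g * MulAut.conj x * (k⁻¹ * g)⁻¹)
      rw [e', conj_mul, conj_mul, hc x hx]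
  have h4 : Nat.card (P.map φ) ≠ Nat.card ↥(K ⊓ centralizer {ev m r}) := fun h => by
    obtain ⟨x, -, h5⟩ := (eq_of_le_of_card_ge h3 h.ge).ge (show ev m r ∈ K ⊓ centralizer {ev m r} from
      ⟨ev_gen m (List.all_eq_true.1 (by decide : RR.all (lettersIn 14) = true) r hr),
        mem_centralizer_singleton_iff.2 rfl⟩)
    refine r2_out ⟨x, ((MulAut.conj (k⁻¹ * g)).injective (h5.trans e')).symm⟩
  obtain ⟨t, ht⟩ := card_dvd_of_le h3
  rw [card_map_of_injective hφ] at h4 ht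
  have h5 : 0 < Nat.card ↥(K ⊓ centralizer {ev m r}) := Nat.card_pos
  rcases t with _ | _ | t
  · omega
  · omega
  · nlinarith

theorem ex_cen {P : Subgroup Γ} (h : IsPGroup 2 P) (hc : 128 ≤ Nat.card P) :
    ∃ p : P, p ≠ 1 ∧ p * p = 1 ∧ ∀ q, q * p = p * q := by
  have := Fact.mk Nat.prime_two
  have : Nontrivial P := Finite.one_lt_card_iff_nontrivial.1 (by omega)
  have := h.center_nontrivial
  obtain ⟨k, hk, e⟩ := (h.to_subgroup (center P)).nontrivial_iff_card.1 this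
  obtain ⟨p, hp⟩ := exists_prime_orderOf_dvd_card' (G := center P) 2 (e ▸ dvd_pow_self 2 hk.ne')
  refine ⟨p, fun e => ?_, ?_, fun q => mem_center_iff.1 p.2 q⟩
  · rw [show p = 1 from Subtype.ext e, orderOf_one] at hp
    omega
  · have := congrArg Subtype.val (hp ▸ pow_orderOf_eq_one p)
    rwa [SubgroupClass.coe_pow, sq] at this

theorem ooF : OoF Γ := fun α β a1 a2 b1 b2 => by
  have := Fact.mk Nat.prime_two
  obtain ⟨P, p1, p2, p3⟩ := outM α a1 a2
  obtain ⟨R, r1, r2, r3⟩ := outM β b1 b2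
  refine ⟨P, R, p1, r1, p2, r2, fun f hf => ?_⟩
  have c1 : Nat.card f.range = Nat.card P * Nat.card R := by
    rw [← Nat.card_congr (MonoidHom.ofInjective hf).toEquiv, Nat.card_prod]
  obtain ⟨a, ha⟩ := IsPGroup.iff_card.1 p2
  obtain ⟨b, hb⟩ := IsPGroup.iff_card.1 r2
  obtain ⟨g, hg⟩ := syl (S := f.range) (.of_card (n := a + b) (by rw [c1, ha, hb, pow_add]))
  have e : f.range.map (MulAut.conj g).toMonoidHom = K := eq_of_le_of_card_ge
    (by rintro _ ⟨x, hx, rfl⟩; exact hg x hx)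
    (by rw [card_map_of_injective (MulAut.conj g).injective, c1, card_K]; nlinarith)
  have k : ∀ u : P × R, u ≠ 1 → u * u = 1 → (∀ v, v * u = u * v) → g * f u * g⁻¹ = m 1 :=
    fun u h1 h2 h3 => (cen (hg _ ⟨u, rfl⟩) (by rw [conj_mul, ← map_mul, h2]; simp) fun k hk => by
      obtain ⟨_, ⟨v, rfl⟩, rfl⟩ := e.ge hk
      change g * f v * g⁻¹ * _ = _ * (g * f v * g⁻¹)
      rw [conj_mul, conj_mul, ← map_mul, ← map_mul, h3]).resolve_left fun h =>
        h1 (hf (by simpa using h))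
  obtain ⟨p, q1, q2, q3⟩ := ex_cen p2 p3
  obtain ⟨r, s1, s2, s3⟩ := ex_cen r2 r3
  have e1 := k (p, 1) (fun h => q1 (congrArg Prod.fst h)) (Prod.ext q2 (one_mul 1))
    fun v => Prod.ext (q3 v.1) (by simp)
  have e2 := k (1, r) (fun h => s1 (congrArg Prod.snd h)) (Prod.ext (one_mul 1) s2)
    fun v => Prod.ext (by simp) (s3 v.2)
  exact q1 (congrArg Prod.fst (hf (mul_left_cancel (mul_right_cancel (e1.trans e2.symm)))))

theorem out : Sz.OutS := ⟨outF, outM, oiF, ooF⟩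

end Cfsg.Agent.H1.SzOut
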