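import Cfsg.Agent.H97.U5Defs
import Cfsg.Agent.H82.SPE

/-!
# The offender lemma
-/

set_option autoImplicit false
set_option linter.unusedSectionVars false

namespace Cfsg.Agent.H1.U5Off

open Subgroup Cfsg.Agent.H82

universe u

variable {p : ℕ} [hp : Fact p.Prime] {Γ : Type u} [Group Γ] [Finite Γ] {M : Type u} [CommGroup M]
  [Finite M] {ρ : Γ →* MulAut M} {H N A : Subgroup Γ} {C : Subgroup M}

/-- A nontrivial `p`-element of `H` is conjugated into `H` only by elements of `H`. -/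
theorem spe (h : IsStronglyPEmbedded p H) {a g : Γ} (ha : a ∈ H) (h1 : a ≠ 1) {k : ℕ}
    (hk : a ^ p ^ k = 1) (hg : g * a * g⁻¹ ∈ H) : g ∈ H := by
  obtain ⟨j, -, hj⟩ := (Nat.dvd_prime_pow hp.out).1 (orderOf_dvd_of_pow_eq_one hk)
  have hd : p ∣ orderOf a := by
    rw [hj]
    exact dvd_pow_self p fun e => h1 (orderOf_eq_one_iff.1 (by rw [hj, e, pow_zero]))
  obtain ⟨n, hn⟩ := exists_pow_orderOf_eq hd
  exact (isStronglyPEmbedded_iff.1 h).2.2 (a ^ n) g (pow_mem ha n) hn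
    (by rw [← conj_pow]; exact pow_mem hg n)

theorem rm (g k : Γ) (m : M) : ρ (g * k) m = ρ g (ρ k m) := by rw [map_mul]; rfl

theorem ri (g : Γ) (m : M) : ρ g⁻¹ (ρ g m) = m := by rw [← rm, inv_mul_cancel, map_one]; rfl

theorem ri' (g : Γ) (m : M) : ρ g (ρ g⁻¹ m) = m := by rw [← rm, mul_inv_cancel, map_one]; rfl

variable (p ρ H N A C) in
/-- The hypotheses. -/
structure Hy : Prop where
  pM : IsPGroup p M
  sp : IsStronglyPEmbedded p H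
  nN : N.Normal
  fa : ∀ g ∈ N, ρ g = 1 → g = 1
  aN : A ≤ N
  ne : A ≠ ⊥
  pA : IsPGroup p A
  aH : A ≤ H
  fx : ∀ x, x ∈ C ↔ ∀ a ∈ A, ρ a x = x
  qu : ∀ a ∈ A, ∀ x, x⁻¹ * ρ a x ∈ C
  ix : C.index ≤ Nat.card A

variable (ρ C) in
/-- the image of `C` under `g` -/
def Cg (g : Γ) : Subgroup M := C.comap (ρ g⁻¹).toMonoidHom

theorem mem_Cg {g : Γ} {m : M} : m ∈ Cg ρ C g ↔ ρ g⁻¹ m ∈ C := Iff.rfl

theorem index_Cg (g : Γ) : (Cg ρ C g).index = C.index :=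
  index_comap_of_surjective _ (ρ g⁻¹).surjective

variable (ρ) in
/-- the stabiliser of a point -/
def Sb (m : M) : Subgroup Γ where
  carrier := {g | ρ g m = m}
  one_mem' := by change ρ 1 m = m; rw [map_one]; rfl
  mul_mem' := fun {a b} (ha : _ = _) (hb : _ = _) => by change ρ (a * b) m = m; rw [rm, hb, ha]
  inv_mem' := fun {a} (ha : _ = _) => by
    change ρ a⁻¹ m = m
    conv_lhs => rw [← ha]
    exact ri a m

variable (ρ C) in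
/-- the stabiliser of the chain `M > C > 1` -/
def Sc : Subgroup Γ where
  carrier := {g | (∀ m, m⁻¹ * ρ g m ∈ C) ∧ ∀ c ∈ C, ρ g c = c}
  one_mem' := ⟨fun m => by rw [map_one]; simp, fun c _ => by rw [map_one]; rfl⟩
  mul_mem' := fun {a b} ha hb => ⟨fun m => by
    have e : m⁻¹ * ρ (a * b) m = (m⁻¹ * ρ b m) * ((ρ b m)⁻¹ * ρ a (ρ b m)) := by rw [rm]; group
    rw [e]
    exact mul_mem (hb.1 m) (ha.1 _), fun c hc => by rw [rm, hb.2 c hc, ha.2 c hc]⟩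
  inv_mem' := fun {a} ha => ⟨fun m => by
    have := inv_mem (ha.1 (ρ a⁻¹ m))
    rwa [ri', mul_inv_rev, inv_inv] at this, fun c hc => (Sb ρ c).inv_mem (ha.2 c hc)⟩

theorem pow_Sc {g : Γ} (hg : g ∈ Sc ρ C) (m : M) (k : ℕ) :
    ρ (g ^ k) m = m * (m⁻¹ * ρ g m) ^ k := by
  induction k with
  | zero => rw [pow_zero, pow_zero, map_one, mul_one]; rfl
  | succ k ih =>
    rw [pow_succ', rm, ih, map_mul, hg.2 _ (pow_mem (hg.1 m) k), pow_succ', ← mul_assoc,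
      mul_inv_cancel_left]

namespace Hy

variable (h : Hy p ρ H N A C)
include h

theorem out {a g : Γ} (ha : a ∈ A) (h1 : a ≠ 1) (hg : g ∉ H) : g * a * g⁻¹ ∉ H := fun e => by
  obtain ⟨k, hk⟩ := h.pA ⟨a, ha⟩
  exact hg (spe h.sp (h.aH ha) h1 (congrArg Subtype.val hk) e)

/-- Counting. -/
theorem cnt {x : Γ} {v : M} (hi : ∀ a ∈ A, a ≠ 1 → v⁻¹ * ρ a v ∉ Cg ρ C x) (m : M) :
    ∃ a ∈ A, m⁻¹ * (v⁻¹ * ρ a v) ∈ Cg ρ C x := by
  let f : A → M ⧸ Cg ρ C x := fun a => ((v⁻¹ * ρ a v : M) : M ⧸ Cg ρ C x)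
  have inj : Function.Injective f := fun a b e => by
    by_contra hab
    refine hi (a⁻¹ * b : A) (a⁻¹ * b).2 (fun e' => hab (inv_mul_eq_one.1 (Subtype.ext e'))) ?_
    have e1 := QuotientGroup.eq.1 e
    have e2 : ρ (a : Γ)⁻¹ ((v⁻¹ * ρ a v)⁻¹ * (v⁻¹ * ρ b v)) = (v⁻¹ * ρ a v)⁻¹ * (v⁻¹ * ρ b v) :=
      (h.fx _).1 (mul_mem (inv_mem (h.qu _ a.2 v)) (h.qu _ b.2 v)) _ (inv_mem a.2)
    rw [← e2] at e1
    have e3 : (v⁻¹ * ρ a v)⁻¹ * (v⁻¹ * ρ b v) = (ρ a v)⁻¹ * ρ b v := by group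
    rw [e3, map_mul, map_inv, ri, ← rm] at e1
    exact e1
  have bij : Function.Bijective f := inj.bijective_of_nat_card_le (by
    rw [← index_eq_card, index_Cg]; exact h.ix)
  obtain ⟨a, ha⟩ := bij.2 (m : M ⧸ Cg ρ C x)
  exact ⟨a, a.2, QuotientGroup.eq.1 ha.symm⟩

/-- The key property. -/
theorem key {g : Γ} (hg : g ∉ H) {a : Γ} (ha : a ∈ A) (h1 : a ≠ 1) {m : M}
    (hm : m⁻¹ * ρ a m ∈ Cg ρ C g) : m ∈ C := by
  let L0 : Subgroup Γ := A ⊔ A.map (MulAut.conj g).toMonoidHom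
  have hL0 : L0 ≤ N := sup_le h.aN (by rintro _ ⟨b, hb, rfl⟩; exact h.nN.conj_mem b (h.aN hb) g)
  obtain ⟨L, ⟨AL, LL, LH⟩, hmin⟩ := (wellFounded_lt (α := Subgroup Γ)).has_min
    {L | A ≤ L ∧ L ≤ L0 ∧ ¬ L ≤ H}
    ⟨L0, le_sup_left, le_rfl, fun e => h.out ha h1 hg (e (mem_sup_right ⟨a, ha, rfl⟩))⟩
  have gen : ∀ x ∈ L, x ∉ H → ∀ K : Subgroup Γ, A ≤ K → (∀ b ∈ A, x * b * x⁻¹ ∈ K) → L ≤ K :=
    fun x hx hxH K h1' h2 => by
      by_contra e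
      exact hmin (L ⊓ K) ⟨le_inf AL h1', inf_le_left.trans LL, fun e' => h.out ha h1 hxH
        (e' ⟨L.mul_mem (L.mul_mem hx (AL ha)) (L.inv_mem hx), h2 a ha⟩)⟩
        (lt_of_le_of_ne inf_le_left fun e' => e (e' ▸ inf_le_right))
  have cjf : ∀ {x : Γ} {w : M}, w ∈ Cg ρ C x → ∀ b ∈ A, x * b * x⁻¹ ∈ Sb ρ w := fun hw b hb => by
    change ρ _ _ = _
    rw [rm, rm, (h.fx _).1 (mem_Cg.1 hw) b hb, ri']
  have fixL : ∀ x ∈ L, x ∉ H → ∀ w ∈ C, w ∈ Cg ρ C x → L ≤ Sb ρ w := fun x hx hxH w w1 w2 =>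
    gen x hx hxH _ (fun b hb => (h.fx w).1 w1 b hb) (cjf w2)
  obtain ⟨x, hx, hxH⟩ := SetLike.not_le_iff_exists.1 LH
  have inj : ∀ v ∈ Cg ρ C x, v ∉ C → ∀ b ∈ A, b ≠ 1 → v⁻¹ * ρ b v ∉ Cg ρ C x :=
    fun v hv hvC b hb b1 e => by
      have e1 : ρ b v ∈ Cg ρ C x := by
        have := mul_mem hv e
        rwa [mul_inv_cancel_left] at this
      have hb' : x⁻¹ * b⁻¹ * x⁻¹⁻¹ ∉ H :=
        h.out (inv_mem hb) (inv_ne_one.2 b1) fun e' => hxH (inv_mem_iff.1 e')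
      have e2 : L ≤ Sb ρ (ρ x⁻¹ v) := fixL _ (mul_mem (mul_mem (inv_mem hx) (inv_mem (AL hb)))
        (inv_mem (inv_mem hx))) hb' _ hv (by
          rw [mem_Cg, ← rm]
          have e3 : (x⁻¹ * b⁻¹ * x⁻¹⁻¹)⁻¹ * x⁻¹ = x⁻¹ * b := by group
          rw [e3, rm]
          exact e1)
      have e4 : ρ x (ρ x⁻¹ v) = ρ x⁻¹ v := e2 hx
      rw [ri'] at e4
      exact hvC (e4 ▸ hv)
  obtain ⟨v, hv, hvC⟩ : ∃ v ∈ Cg ρ C x, v ∉ C := by
    by_contra e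
    have le : Cg ρ C x ≤ C := fun v hv => by
      by_contra e'
      exact e ⟨v, hv, e'⟩
    have eq : Cg ρ C x = C := by
      refine le_antisymm le (relIndex_eq_one.1 ?_)
      have := relIndex_mul_index le
      rw [index_Cg] at this
      exact Nat.eq_of_mul_eq_mul_right (Nat.pos_of_ne_zero C.index_ne_zero_of_finite)
        (this.trans (one_mul _).symm)
    have hS : L ≤ Sc ρ C := gen x hx hxH _
      (fun b hb => ⟨h.qu b hb, fun c hc => (h.fx c).1 hc b hb⟩) fun b hb => ⟨fun w => by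
        rw [← eq, mem_Cg, map_mul, map_inv, rm, rm, ri]
        exact h.qu b hb _, fun c hc => cjf (eq.symm ▸ hc) b hb⟩
    obtain ⟨n, hn⟩ := IsPGroup.iff_card.1 h.pM
    have hL : IsPGroup p L := fun l => ⟨n, Subtype.ext (h.fa _ (pow_mem (hL0 (LL l.2)) _)
      (MulEquiv.ext fun w => by
        rw [SubgroupClass.coe_pow, pow_Sc (hS l.2), ← hn, pow_card_eq_one', mul_one]; rfl))⟩
    exact LH ((isStronglyPEmbedded_iff_norm.1 h.sp).2.2.le_of_inf_ne_bot hL fun e' =>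
      h.ne (eq_bot_iff.2 (e' ▸ le_inf AL h.aH)))
  obtain ⟨b, hb, hb'⟩ := h.cnt (inj v hv hvC) m
  have hc := h.qu b hb v
  set c := v⁻¹ * ρ b v
  have hw : c⁻¹ * m ∈ Cg ρ C x := by
    have := inv_mem hb'
    rwa [mul_inv_rev, inv_inv] at this
  have e1 : (c⁻¹ * m)⁻¹ * ρ a (c⁻¹ * m) = m⁻¹ * ρ a m := by
    rw [map_mul, (h.fx _).1 (inv_mem hc) a ha]
    group
  have e2 : L0 ≤ Sb ρ (m⁻¹ * ρ a m) := sup_le (fun b hb => (h.fx _).1 (h.qu a ha m) b hb)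
    (by rintro _ ⟨b, hb, rfl⟩; exact cjf hm b hb)
  have e3 : m⁻¹ * ρ a m ∈ Cg ρ C x := by
    rw [mem_Cg, show ρ x⁻¹ _ = _ from e2 (LL (inv_mem hx))]
    exact h.qu a ha m
  by_contra hmC
  refine inj _ hw (fun e => hmC ?_) a ha h1 (e1 ▸ e3)
  have := mul_mem hc e
  rwa [mul_inv_cancel_left] at this

theorem surj {g : Γ} (hg : g ∉ H) {v : M} (hv : v ∉ C) (m : M) :
    ∃ a ∈ A, m⁻¹ * (v⁻¹ * ρ a v) ∈ Cg ρ C g :=
  h.cnt (fun _ ha h1 e => hv (h.key hg ha h1 e)) m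

/-- A `p`-element normalizing `A` fixes a nontrivial coset of `C`. -/
theorem coset {s : Γ} (hs : s ∈ normalizer (A : Set Γ)) {k : ℕ} (hk : s ^ p ^ k = 1) :
    ∃ m, m ∉ C ∧ m⁻¹ * ρ s m ∈ C := by
  have st : ∀ {t : Γ}, t ∈ normalizer (A : Set Γ) → ∀ c ∈ C, ρ t c ∈ C := fun {t} ht c hc =>
    (h.fx _).2 fun a ha => by
      have e : a * t = t * (t⁻¹ * a * t) := by group
      rw [← rm, e, rm, (h.fx c).1 hc _ ((mem_normalizer_iff''.1 ht a).1 ha)]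
  have hmap : C.map (ρ s : M →* M) = C := le_antisymm
    (by rintro _ ⟨c, hc, rfl⟩; exact st hs c hc) fun c hc => ⟨_, st (inv_mem hs) c hc, ri' s c⟩
  let τ : Equiv.Perm (M ⧸ C) := (QuotientGroup.congr C C (ρ s) hmap).toEquiv
  have hτ : ∀ (n : ℕ) (m : M), (τ ^ n) (m : M ⧸ C) = (ρ (s ^ n) m : M) := fun n => by
    induction n with
    | zero => intro m; rw [pow_zero, pow_zero, map_one]; rfl
    | succ n ih => intro m; rw [pow_succ', pow_succ', Equiv.Perm.mul_apply, ih, rm]; rfl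
  have hτ1 : τ ^ p ^ k = 1 := Equiv.ext fun q => by
    obtain ⟨m, rfl⟩ := QuotientGroup.mk_surjective q
    rw [hτ, hk, map_one]; rfl
  have hne : C ≠ ⊤ := fun e => h.ne (eq_bot_iff.2 fun a ha => h.fa a (h.aN ha)
    (MulEquiv.ext fun m => (h.fx m).1 (e ▸ mem_top m) a ha))
  have hd : p ∣ Nat.card (M ⧸ C) := ((h.pM.to_quotient C).card_eq_or_dvd).resolve_left
    fun e => hne (index_eq_one.1 e)
  have : Fintype (M ⧸ C) := Fintype.ofFinite _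
  rw [Nat.card_eq_fintype_card] at hd
  obtain ⟨q, q1, q2⟩ := Equiv.Perm.exists_fixed_point_of_prime' hd hτ1
    (a := 1) (map_one (QuotientGroup.congr C C (ρ s) hmap))
  obtain ⟨m, rfl⟩ := QuotientGroup.mk_surjective q
  exact ⟨m, fun e => q2 ((QuotientGroup.eq_one_iff m).2 e), QuotientGroup.eq.1 q1.symm⟩

theorem main {S : Subgroup Γ} (hS : IsPGroup p S) (AS : A ≤ S) (SH : S ≤ H) : S ≤ A := by
  by_contra e
  obtain ⟨s, hs, hsN, hsA⟩ := exists_mem_normalizer_of_lt hS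
    (lt_of_le_of_ne AS fun e' => e e'.ge)
  obtain ⟨k, hk⟩ := hS ⟨s, hs⟩
  obtain ⟨m0, m1, m2⟩ := h.coset hsN (congrArg Subtype.val hk)
  obtain ⟨g, hg⟩ : ∃ g, g ∉ H := by
    by_contra e'
    exact h.sp.2.1 (eq_top_iff.2 fun g _ => by by_contra e''; exact e' ⟨g, e''⟩)
  obtain ⟨a0, ha0, e0⟩ := h.surj (g := g⁻¹) (fun e' => hg (inv_mem_iff.1 e')) m1 (ρ g⁻¹ m0)
  rw [mem_Cg, inv_inv, map_mul, map_inv, ri'] at e0
  have hw := h.qu a0 ha0 m0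
  set w := m0⁻¹ * ρ a0 m0 with hw0
  have x1 : ρ g w ∉ C := fun e' => m1 (by
    have := mul_mem e' (inv_mem e0)
    rwa [mul_inv_rev, inv_inv, mul_inv_cancel_left] at this)
  have a01 : a0 ≠ 1 := fun e' => x1 (by
    rw [hw0, e', map_one, MulAut.one_apply, inv_mul_cancel, map_one]; exact one_mem _)
  have st : ∀ c ∈ C, ρ s c ∈ C := fun c hc => (h.fx _).2 fun a ha => by
    have e : a * s = s * (s⁻¹ * a * s) := by group
    rw [← rm, e, rm, (h.fx c).1 hc _ ((mem_normalizer_iff''.1 hsN a).1 ha)]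
  have hc : (ρ g w)⁻¹ * ρ s (ρ g w) ∈ C := by
    have e1 : (ρ g w)⁻¹ * ρ s (ρ g w) =
        (m0⁻¹ * ρ g w)⁻¹ * (m0⁻¹ * ρ s m0) * ρ s (m0⁻¹ * ρ g w) := by
      rw [map_mul (ρ s), map_inv (ρ s)]; group
    rw [e1]
    exact mul_mem (mul_mem (inv_mem e0) m2) (st _ e0)
  obtain ⟨a, ha, e1⟩ := h.surj hg x1 ((ρ g w)⁻¹ * ρ s (ρ g w))⁻¹
  have x2 : ρ g w ∈ Cg ρ C g := by rw [mem_Cg, ri]; exact hw
  have e2 : ρ (a * s) (ρ g w) ∈ Cg ρ C g := by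
    have e3 := (h.fx _).1 hc a ha
    rw [map_mul, map_inv, inv_mul_eq_iff_eq_mul] at e3
    have e4 := mul_mem x2 e1
    rw [inv_inv, mul_comm ((ρ g w)⁻¹ * ρ s (ρ g w)), ← mul_assoc, mul_inv_cancel_left] at e4
    rw [rm, e3]
    exact e4
  have e5 : (g⁻¹ * (a * s) * g⁻¹⁻¹)⁻¹ ∈ H := by
    by_contra e6
    refine m1 (h.key e6 ha0 a01 ?_)
    rw [mem_Cg, inv_inv, inv_inv, rm, rm]
    exact e2
  have as : a * s ∈ S := mul_mem (AS ha) hs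
  obtain ⟨j, hj⟩ := hS ⟨_, as⟩
  by_cases e7 : a * s = 1
  · exact hsA (by rw [eq_inv_of_mul_eq_one_right e7]; exact inv_mem ha)
  · exact hg (inv_mem_iff.1 (spe h.sp (SH as) e7 (congrArg Subtype.val hj) (inv_mem_iff.1 e5)))

end Hy

theorem off : Cfsg.Agent.H97.U5.OffStmt.{u} p :=
  fun _ _ _ _ _ _ _ _ _ _ _ _ h1 h2 h3 h4 h5 h6 h7 h8 h9 h10 h11 h12 =>
    Hy.main ⟨h1, h2, h3, h4, h5, h6, h7.to_le h8, h8.trans h9, h10, h11, h12⟩ h7 h8 h9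

end Cfsg.Agent.H1.U5Off
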