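import Cfsg.Agent.H97.U5Defs

/-!
# U5F, pieces RIGT and RIGQ
-/

set_option autoImplicit false
set_option linter.unusedSectionVars false

namespace Cfsg.Agent.H1.U5Rig

open Cfsg.Agent.H97 Cfsg.Agent.H97.U5 Subgroup

universe u

variable {K : Type u} [Field K] [Finite K] {T : Hm K} {p : ℕ} [Fact p.Prime] [CharP K p]

theorem rigT : RigTStmt T p := by
  intro C L AQ AR hL hC hQ hR h1 h2
  refine ⟨fun c => ?_, fun l => ?_⟩
  · obtain ⟨δ, hδ, hn, e⟩ := h2 c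
    obtain ⟨β, hβ, e'⟩ := hR.ext δ hδ hn
    obtain ⟨s, l, hl, rfl⟩ := (hC β).1 hβ
    obtain ⟨d, φ, rfl⟩ := hL l hl
    have k : ∀ v w : K, (d.1 : K) * φ v + s.t * (d.2 * φ w) = c * v ∧
        (d.2 : K) * φ w = (c : K)⁻¹ * w := fun v w => by
      have hx : rv T v w ∈ R T := rfl
      have hy : tor T d (fld T φ (rv T v w)) ∈ R T := by simp [mem_R]
      have e1 := e _ hx
      have e2 := conj_R s hy
      rw [e' _ hx] at e1
      exact ⟨e2.1.symm.trans e1.1, e2.2.symm.trans e1.2⟩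
    have k1 : (d.2 : K) = (c : K)⁻¹ := by simpa using (k 0 1).2
    have k2 : (d.1 : K) = c := by simpa using (k 1 0).1
    have k3 : φ = 1 := RingEquiv.ext fun w =>
      mul_left_cancel₀ d.2.ne_zero ((k 0 w).2.trans (by rw [k1]; rfl))
    have k4 : d = (c, c⁻¹) := Prod.ext (Units.ext k2) (Units.ext (k1.trans (by simp)))
    rwa [k3, k4, map_one, mul_one] at hl
  · obtain ⟨δ, hδ, hn, e⟩ := h1 l
    obtain ⟨β, hβ, e'⟩ := hQ.ext δ hδ hn
    obtain ⟨s, m, hm, rfl⟩ := (hC β).1 hβ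
    obtain ⟨d, φ, rfl⟩ := hL m hm
    have k : ∀ x ∈ Q T, uW T s.v2 s.d (wv (tor T d (fld T φ x))) = hW T l (wv x) := fun x hx => by
      have hy : tor T d (fld T φ x) ∈ Q T := by simp [mem_Q, hx.1, hx.2]
      rw [← wv_conj s hy, ← e x hx, e' x hx]
      rfl
    have k0 : ∀ w : K, (d.1 : K) * (d.2 : K)⁻¹ * φ w = (l : K)⁻¹ * w := fun w =>
      congrArg Prod.fst (k (xt T w) ⟨rfl, rfl⟩)
    have k1 : (d.1 : K) * (d.2 : K)⁻¹ = (l : K)⁻¹ := by simpa using k0 1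
    have k2 : (d.1 : K) = l * (T.σ l)⁻¹ := by
      simpa [uW_apply, hW_apply, wv] using congrArg (fun x => x.2.1) (k (rv T 1 0) ⟨rfl, by simp⟩)
    have k3 : φ = 1 := RingEquiv.ext fun w =>
      mul_left_cancel₀ (inv_ne_zero l.ne_zero) ((k1 ▸ k0 w :).trans rfl)
    have k4 : d = eta T l := by
      refine Prod.ext (Units.ext (by simp [eta, k2])) (Units.ext ?_)
      have := l.ne_zero
      have := d.2.ne_zero
      have := T.σ_ne_zero l.ne_zero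
      rw [k2] at k1
      simp only [eta, Units.val_mul, Units.val_inv_eq_inv_val, coe_su]
      field_simp at k1 ⊢
      linear_combination -k1
    rwa [k3, k4, map_one, mul_one] at hm

theorem exists_c : ∃ c : Kˣ, T.σ c = (c : K)⁻¹ ∧ (c : K) ^ 2 ≠ 1 := by
  obtain ⟨x, hx⟩ : ∃ x, x ^ 2 ≠ T.σ x ^ 2 := by
    by_contra! h
    have h1 := h T.om
    have h2 := h (1 + T.om)
    rw [map_add, map_one] at h2
    have h3 : (T.σ T.om - T.om) ^ 2 = 0 := by linear_combination T.om * h2 - (1 + T.om) * h1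
    exact T.om_ne (sub_eq_zero.1 (pow_eq_zero_iff two_ne_zero |>.1 h3))
  have h0 : x ≠ 0 := fun e => hx (by simp [e])
  have h1 := T.σ_ne_zero h0
  refine ⟨Units.mk0 (x / T.σ x) (div_ne_zero h0 h1), by simp, fun e => hx ?_⟩
  rwa [Units.val_mk0, div_pow, div_eq_one_iff_eq (pow_ne_zero _ h1)] at e

theorem wv_inv {g : U T} (hg : g ∈ Q T) : wv g⁻¹ = -wv g := by
  simp [wv, hg.1, hg.2]

theorem modZ {g k : U T} (hg : g ∈ Q T) (hk : k ∈ Q T) (e : wv g = wv k) : g * k⁻¹ ∈ Z T :=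
  (wv_eq_zero (mul_mem hg (inv_mem hk))).1 (by rw [wv_mul (inv_mem hk), wv_inv hk, e, add_neg_cancel])

/-- the reflection as an automorphism of `Q` -/
def om : MulAut (Q T) where
  toFun x := ⟨wQ x, wQ_mem _⟩
  invFun x := ⟨wQ x, wQ_mem _⟩
  left_inv x := Subtype.ext (wQ_wQ x.2)
  right_inv x := Subtype.ext (wQ_wQ x.2)
  map_mul' x y := Subtype.ext (wQ_mul x.2 y.2)

theorem tor_mem (c : Kˣ × Kˣ) {g : U T} (hg : g ∈ Q T) : tor T c g ∈ Q T := by
  simp [mem_Q, hg.1, hg.2]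

/-- the torus as a group of automorphisms of `Q` -/
def tq (c : Kˣ × Kˣ) : MulAut (Q T) where
  toFun x := ⟨tor T c x, tor_mem c x.2⟩
  invFun x := ⟨tor T c⁻¹ x, tor_mem _ x.2⟩
  left_inv x := Subtype.ext (by
    change tor T c⁻¹ (tor T c x) = x
    rw [map_inv]; exact (tor T c).symm_apply_apply _)
  right_inv x := Subtype.ext (by
    change tor T c (tor T c⁻¹ x) = x
    rw [map_inv]; exact (tor T c).apply_symm_apply _)
  map_mul' x y := Subtype.ext (map_mul (tor T c) x.1 y.1)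

theorem rigQ (h : AQ1 T p) : RigQStmt T p := by
  rintro C A hA hK hT ⟨n, hn, sw⟩
  obtain ⟨c, hc, hc2⟩ := exists_c (T := T)
  have c0 := c.ne_zero
  have hc1 : (c : K) ≠ 1 := fun e => hc2 (by rw [e, one_pow])
  set δ : MulAut (Q T) := tq (c, c⁻¹) with hδ
  have δA : δ ∈ A := hA.res _ (hT.1 c) δ fun x hx => ext_apply δ hx
  have wδ : ∀ x : Q T, wv (δ x : U T) = ((c : K) ^ 2 * x.1.t, c * x.1.v1, (c : K) ^ 2 * x.1.m) :=
    fun x => by
      change wv (tor T (c, c⁻¹) x) = _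
      simp [wv, hc, pow_two]
  have δZ : ∀ z : Q T, z.1 ∈ Z T → δ z = z := fun z hz => Subtype.ext (by
    change tor T (c, c⁻¹) z = z
    ext <;> simp [hc, hz.1, hz.2.1, hz.2.2.1, hz.2.2.2.1, hz.2.2.2.2])
  have δω : δ * om = om * δ := MulEquiv.ext fun x => Subtype.ext (by
    change tor T (c, c⁻¹) (wQ x) = wQ (tor T (c, c⁻¹) x)
    ext <;> simp [wQ, hc] <;> field_simp)
  have sj : ∀ w : W K, ∃ x : Q T, wv (δ x : U T) = wv x.1 + w := fun w => by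
    obtain ⟨x, hx, e⟩ := wv_surj (T := T)
      (w.1 / ((c : K) ^ 2 - 1), w.2.1 / (c - 1), w.2.2 / ((c : K) ^ 2 - 1))
    refine ⟨⟨x, hx⟩, ?_⟩
    have h1 := sub_ne_zero.2 hc1
    have h2 := sub_ne_zero.2 hc2
    simp only [wv, Prod.mk.injEq] at e
    rw [wδ]
    simp only [wv, e.1, e.2.1, e.2.2]
    ext <;> simp only [Prod.fst_add, Prod.snd_add] <;> field_simp <;> ring
  set γ : MulAut (Q T) := om * n with hγ
  have wγ : ∀ x : Q T, wv (γ x : U T) = wv x.1 := fun x => by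
    change wv (wQ (n x : U T)) = _
    rw [wv_wQ, ← ext_coe, sw x x.2]
    exact (nW K).left_inv _
  have wγ' : ∀ x : Q T, wv (γ⁻¹ x : U T) = wv x.1 := fun x => by
    rw [← wγ (γ⁻¹ x), MulAut.apply_inv_self]
  have γZ : ∀ z : Q T, z.1 ∈ Z T → γ z = z := fun z hz => Subtype.ext (by
    rw [← ext_coe]
    exact (h.ker γ fun x hx => by rw [ext_apply γ hx, wγ]).1 z hz)
  have wδ' : ∀ x y : Q T, wv x.1 = wv y.1 → wv (δ⁻¹ x : U T) = wv (δ⁻¹ y : U T) := fun x y e => by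
    have e1 := wδ (δ⁻¹ x)
    have e2 := wδ (δ⁻¹ y)
    rw [MulAut.apply_inv_self] at e1 e2
    rw [e1, e2] at e
    simp only [Prod.mk.injEq] at e
    exact Prod.ext (mul_left_cancel₀ (pow_ne_zero 2 c0) e.1)
      (Prod.ext (mul_left_cancel₀ c0 e.2.1) (mul_left_cancel₀ (pow_ne_zero 2 c0) e.2.2))
  have hκ : δ⁻¹ * n⁻¹ * δ * n = δ⁻¹ * γ⁻¹ * δ * γ := by
    rw [hγ, mul_inv_rev]
    simp only [mul_assoc]
    rw [← mul_assoc δ om, δω, mul_assoc, inv_mul_cancel_left]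
  obtain ⟨e, he, he'⟩ := hK (δ⁻¹ * γ⁻¹ * δ * γ)
    (hκ ▸ mul_mem (mul_mem (mul_mem (inv_mem δA) (inv_mem hn)) δA) hn) fun x hx => by
      rw [ext_apply _ hx]
      change wv (δ⁻¹ (γ⁻¹ (δ (γ ⟨x, hx⟩))) : U T) = _
      rw [wδ' _ _ (wγ' _), MulAut.inv_apply_self, wγ]
  have e1 : δ⁻¹ * γ⁻¹ * δ * γ = MulAut.conj (⟨e, he⟩ : Q T) := MulEquiv.ext fun x =>
    Subtype.ext (by rw [← ext_coe, he' x x.2]; rfl)
  obtain ⟨f, hf⟩ := sj (-wv (δ ⟨e, he⟩ : U T))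
  have e2 : MulAut.conj (δ (⟨e, he⟩ * f)) = MulAut.conj f := by
    have hz := modZ (δ (⟨e, he⟩ * f)).2 f.2 (by
      rw [map_mul, coe_mul, wv_mul (δ f).2, hf]; abel)
    refine MulEquiv.ext fun x => Subtype.ext ?_
    have e3 : (δ (⟨e, he⟩ * f) : U T) = δ (⟨e, he⟩ * f) * (f : U T)⁻¹ * f := by group
    change (δ (⟨e, he⟩ * f) : U T) * x * (δ (⟨e, he⟩ * f) : U T)⁻¹ = f * x * (f : U T)⁻¹
    rw [e3]
    generalize (δ (⟨e, he⟩ * f) : U T) * (f : U T)⁻¹ = z at hz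
    calc z * f * x * (z * f)⁻¹ = z * (f * x * (f : U T)⁻¹) * z⁻¹ := by group
      _ = _ := by rw [comm_Z hz, mul_inv_cancel_right]
  set γ' := γ * MulAut.conj f with hγ'
  have e4 : δ * γ' = γ' * δ := by
    have e5 : δ * γ = γ * δ * MulAut.conj (⟨e, he⟩ : Q T) := by rw [← e1]; group
    have e6 : δ * MulAut.conj (⟨e, he⟩ * f : Q T) = MulAut.conj (δ (⟨e, he⟩ * f)) * δ :=
      MulEquiv.ext fun x => by simp
    calc δ * (γ * MulAut.conj f)
        = γ * (δ * (MulAut.conj (⟨e, he⟩ : Q T) * MulAut.conj f)) := by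
          rw [← mul_assoc δ, e5]; simp only [mul_assoc]
      _ = γ * MulAut.conj f * δ := by rw [← map_mul, e6, e2, mul_assoc γ]
  have w' : ∀ x : Q T, wv (γ' x : U T) = wv x.1 := fun x => by
    change wv (γ (f * x * f⁻¹) : U T) = _
    rw [wγ, coe_mul, coe_mul, wv_mul (f⁻¹).2, wv_mul x.2, coe_inv, wv_inv f.2]
    abel
  have z' : ∀ z : Q T, z.1 ∈ Z T → γ' z = z := fun z hz => by
    change γ (f * z * f⁻¹) = z
    rw [show f * z = z * f from Subtype.ext (comm_Z hz f).symm, mul_inv_cancel_right, γZ z hz]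
  have e7 : γ' = 1 := MulEquiv.ext fun y => by
    obtain ⟨x, hx⟩ := sj (wv y.1)
    have h1 : (γ' x * x⁻¹).1 ∈ Z T := modZ (γ' x).2 x.2 (w' x)
    have h2 : γ' (δ x) = γ' x * x⁻¹ * δ x := by
      have : δ (γ' x) = γ' (δ x) := MulEquiv.congr_fun e4 x
      rw [← this, ← δZ _ h1, ← map_mul, inv_mul_cancel_right]
    have h3 : γ' (x⁻¹ * δ x) = x⁻¹ * δ x := by
      have h4 : γ' x * x⁻¹ * x = x * (γ' x * x⁻¹) := Subtype.ext (comm_Z h1 x)
      rw [inv_mul_cancel_right] at h4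
      rw [map_mul, map_inv, h2]
      nth_rewrite 1 [h4]
      have h5 : (γ' x * x⁻¹)⁻¹ * x⁻¹ = x⁻¹ * (γ' x * x⁻¹)⁻¹ :=
        Subtype.ext (comm_Z (inv_mem h1) _)
      rw [mul_inv_rev, h5]
      group
    have h6 : (y * (x⁻¹ * δ x)⁻¹).1 ∈ Z T := modZ y.2 (x⁻¹ * δ x).2 (by
      rw [coe_mul, wv_mul (δ x).2, coe_inv, wv_inv x.2, hx]; abel)
    have h7 := z' _ h6
    rw [map_mul, map_inv, h3] at h7
    exact mul_right_cancel h7
  have e8 : om = (MulAut.conj f)⁻¹ * n⁻¹ := by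
    rw [← mul_inv_rev, eq_inv_iff_mul_eq_one, ← mul_assoc]
    exact e7
  refine ⟨om, e8 ▸ mul_mem (inv_mem (hA.cj f _ fun x hx => ext_apply _ hx)) (inv_mem hn),
    fun x hx => ext_apply _ hx⟩

end Cfsg.Agent.H1.U5Rig
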